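import Cfsg.Agent.Lib.H49.FormConj2

set_option autoImplicit false
set_option linter.unusedSectionVars false

/-! Semisimple isometries of symplectic spaces, and semisimple isometries of odd order of
quadratic spaces: conjugacy in the isometry group is conjugacy in the linear group. -/

namespace H49.FormConj3

open QuadraticMap H48.QuadSplit H49.FormConj2

variable {F : Type*} [Field F] {V : Type*} [AddCommGroup V] [Module F V]
  [FiniteDimensional F V]

/-- equivalence of two forms by an automorphism commuting with `g` -/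
def Eqv (g : V →ₗ[F] V) (f f' : LinearMap.BilinForm F V) : Prop :=
  ∃ y : V ≃ₗ[F] V, (∀ v, y (g v) = g (y v)) ∧ ∀ u v, f (y u) (y v) = f' u v

/-- equivalence of two quadratic forms by an automorphism commuting with `g` -/
def EqvQ (g : V →ₗ[F] V) (Q Q' : QuadraticForm F V) : Prop :=
  ∃ y : V ≃ₗ[F] V, (∀ v, y (g v) = g (y v)) ∧ ∀ v, Q (y v) = Q' v

theorem eqv_of_split (g : V →ₗ[F] V) (f f' : LinearMap.BilinForm F V) (U W : Submodule F V)
    (hc : IsCompl U W) (hgU : ∀ v ∈ U, g v ∈ U) (hgW : ∀ v ∈ W, g v ∈ W)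
    (ho : ∀ u ∈ U, ∀ w ∈ W, f u w = 0 ∧ f w u = 0) (ho' : ∀ u ∈ U, ∀ w ∈ W, f' u w = 0 ∧ f' w u = 0)
    (hU : Eqv (g.restrict hgU) (f.restrict U) (f'.restrict U))
    (hW : Eqv (g.restrict hgW) (f.restrict W) (f'.restrict W)) : Eqv g f f' := by
  obtain ⟨yU, hU1, hU2⟩ := hU
  obtain ⟨yW, hW1, hW2⟩ := hW
  obtain ⟨y, hy1, hy2⟩ := glue U W hc g hgU hgW yU yW (fun v => congrArg Subtype.val (hU1 v))
    (fun v => congrArg Subtype.val (hW1 v))
  refine ⟨y, hy1, fun a b => ?_⟩
  obtain ⟨⟨u, w⟩, rfl⟩ := (Submodule.prodEquivOfIsCompl U W hc).surjective a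
  obtain ⟨⟨u', w'⟩, rfl⟩ := (Submodule.prodEquivOfIsCompl U W hc).surjective b
  change f (y ((u : V) + (w : V))) (y ((u' : V) + (w' : V))) =
    f' ((u : V) + (w : V)) ((u' : V) + (w' : V))
  rw [hy2, hy2]
  simp only [map_add, LinearMap.add_apply]
  have e1 : f (yU u : V) (yU u' : V) = f' (u : V) (u' : V) := hU2 u u'
  have e2 : f (yW w : V) (yW w' : V) = f' (w : V) (w' : V) := hW2 w w'
  rw [e1, e2, (ho _ (yU u).2 _ (yW w').2).1, (ho _ (yU u').2 _ (yW w).2).2,
    (ho' _ u.2 _ w'.2).1, (ho' _ u'.2 _ w.2).2]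

theorem eqvQ_of_split (g : V →ₗ[F] V) (Q Q' : QuadraticForm F V) (U W : Submodule F V)
    (hc : IsCompl U W) (hgU : ∀ v ∈ U, g v ∈ U) (hgW : ∀ v ∈ W, g v ∈ W)
    (ho : ∀ u ∈ U, ∀ w ∈ W, polar Q u w = 0) (ho' : ∀ u ∈ U, ∀ w ∈ W, polar Q' u w = 0)
    (hU : EqvQ (g.restrict hgU) (Q.restrict U) (Q'.restrict U))
    (hW : EqvQ (g.restrict hgW) (Q.restrict W) (Q'.restrict W)) : EqvQ g Q Q' := by
  obtain ⟨yU, hU1, hU2⟩ := hU
  obtain ⟨yW, hW1, hW2⟩ := hW
  obtain ⟨y, hy1, hy2⟩ := glue U W hc g hgU hgW yU yW (fun v => congrArg Subtype.val (hU1 v))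
    (fun v => congrArg Subtype.val (hW1 v))
  refine ⟨y, hy1, fun a => ?_⟩
  obtain ⟨⟨u, w⟩, rfl⟩ := (Submodule.prodEquivOfIsCompl U W hc).surjective a
  change Q (y ((u : V) + (w : V))) = Q' ((u : V) + (w : V))
  rw [hy2, map_add_of_orth (ho _ (yU u).2 _ (yW w).2), map_add_of_orth (ho' _ u.2 _ w.2)]
  have e1 : Q (yU u : V) = Q' (u : V) := hU2 u
  have e2 : Q (yW w : V) = Q' (w : V) := hW2 w
  rw [e1, e2]

/-- nondegeneracy passes to orthogonal summands -/
theorem ndb_restrict (f : LinearMap.BilinForm F V) (hf : NDB f) (U W : Submodule F V)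
    (hc : IsCompl U W) (ho : ∀ u ∈ U, ∀ w ∈ W, f u w = 0) : NDB (f.restrict U) := by
  intro x hx
  apply Subtype.ext
  apply hf
  intro y
  obtain ⟨⟨u, w⟩, rfl⟩ := (Submodule.prodEquivOfIsCompl U W hc).surjective y
  change f (x : V) ((u : V) + (w : V)) = 0
  rw [map_add, ho _ x.2 _ w.2, add_zero]
  exact hx u

theorem even_of_alt (f : LinearMap.BilinForm F V) (hf : NDB f) (hA : f.IsAlt) :
    ∃ n, Module.finrank F V = 2 * n := by
  obtain ⟨m, k, b, h1, h2, h3, h4⟩ := Cfsg.Agent.S0752.result f hA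
  have hk : k = 0 := by
    by_contra hk
    exact b.ne_zero _ (hf _ (h4 ⟨0, Nat.pos_of_ne_zero hk⟩))
  subst hk
  have h5 := Module.finrank_eq_card_basis b
  rw [Fintype.card_sum, Fintype.card_sum, Fintype.card_fin, Fintype.card_fin] at h5
  exact ⟨m, by omega⟩

theorem alt_equiv (f f' : LinearMap.BilinForm F V) (hf : NDB f) (hf' : NDB f') (hA : f.IsAlt)
    (hA' : f'.IsAlt) : ∃ y : V ≃ₗ[F] V, ∀ u v, f (y u) (y v) = f' u v := by
  obtain ⟨n, hn⟩ := even_of_alt f hf hA
  obtain ⟨e, he⟩ := EmbedSymp.symp_coords f hA hf hn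
  obtain ⟨e', he'⟩ := EmbedSymp.symp_coords f' hA' hf' hn
  refine ⟨e'.trans e.symm, fun u v => ?_⟩
  rw [← he, ← he', LinearEquiv.trans_apply, LinearEquiv.trans_apply, e.apply_symm_apply,
    e.apply_symm_apply]

section
variable [Finite F]

/-- no eigenvalue `1`, `-1` -/
theorem sp_conj0 (g : V →ₗ[F] V) (f f' : LinearMap.BilinForm F V) (hf : NDB f) (hf' : NDB f')
    (hA : f.IsAlt) (hA' : f'.IsAlt) (hg : ∀ u v, f (g u) (g v) = f u v)
    (hg' : ∀ u v, f' (g u) (g v) = f' u v) (h1 : ∀ v, g (g v) = v → v = 0) : Eqv g f f' :=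
  abs_version g f f' (-1) (by ring) hf hf' (fun u v => by rw [← hA.neg_eq]; ring)
    (fun u v => by rw [← hA'.neg_eq]; ring) hg hg' h1

/-- no eigenvalue `1` -/
theorem sp_conj1 (g : V →ₗ[F] V) (f f' : LinearMap.BilinForm F V) (hf : NDB f) (hf' : NDB f')
    (hA : f.IsAlt) (hA' : f'.IsAlt) (hg : ∀ u v, f (g u) (g v) = f u v)
    (hg' : ∀ u v, f' (g u) (g v) = f' u v) (N : ℕ) (hN : (N : F) ≠ 0) (hgN : g ^ N = 1)
    (h1 : ∀ v, g v = v → v = 0) : Eqv g f f' := by
  by_cases h2 : (2 : F) = 0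
  · have : CharP F 2 := CharTwo.of_one_ne_zero_of_two_eq_zero one_ne_zero h2
    refine sp_conj0 g f f' hf hf' hA hA' hg hg' fun v hv => ?_
    have h3 : g v + v = 0 := by
      apply h1
      rw [map_add, hv, add_comm]
    apply h1
    have h4 : g v = -v := eq_neg_of_add_eq_zero_left h3
    rw [h4]
    have h5 : (2 : F) • v = 0 := by rw [h2, zero_smul]
    rw [two_smul] at h5
    exact (eq_neg_of_add_eq_zero_left h5).symm
  · have hN' : ((2 * N : ℕ) : F) ≠ 0 := by
      push_cast; exact mul_ne_zero h2 hN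
    have hgN' : (-g) ^ (2 * N) = 1 := by
      rw [pow_mul, neg_sq, ← pow_mul, mul_comm 2 N, pow_mul, hgN, one_pow]
    obtain ⟨U, W, hc, hU, hW, hWs, hWf⟩ := exists_split (-g) (2 * N) hN' hgN'
    have hU' : ∀ v, v ∈ U ↔ g v = -v := by
      intro v
      rw [hU, LinearMap.neg_apply]
      exact neg_eq_iff_eq_neg
    have hgU : ∀ v ∈ U, g v ∈ U := by
      intro v hv
      rw [(hU' v).mp hv]; exact U.neg_mem hv
    have hgW : ∀ v ∈ W, g v ∈ W := by
      intro v hv
      have := hW v hv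
      rw [LinearMap.neg_apply] at this
      exact W.neg_mem_iff.mp this
    have ho : ∀ f : LinearMap.BilinForm F V, (∀ u v, f (g u) (g v) = f u v) →
        ∀ u ∈ U, ∀ w ∈ W, f u w = 0 ∧ f w u = 0 := by
      intro f hg u hu w hw
      refine split_orth (-g) (2 * N) hN' f ?_ u w ((hU u).mp hu) (hWs w hw)
      intro a b
      simp only [LinearMap.neg_apply, map_neg, neg_neg, hg]
    refine eqv_of_split g f f' U W hc hgU hgW (ho f hg) (ho f' hg') ?_ ?_
    · obtain ⟨y, hy⟩ := alt_equiv (f.restrict U) (f'.restrict U)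
        (ndb_restrict f hf U W hc fun u hu w hw => (ho f hg u hu w hw).1)
        (ndb_restrict f' hf' U W hc fun u hu w hw => (ho f' hg' u hu w hw).1)
        (fun v => hA v) (fun v => hA' v)
      refine ⟨y, fun v => ?_, hy⟩
      have e1 : ∀ v : U, g.restrict hgU v = -v := fun v => Subtype.ext ((hU' v).mp v.2)
      rw [e1, e1, map_neg]
    · refine sp_conj0 _ _ _
        (ndb_restrict f hf W U hc.symm fun w hw u hu => (ho f hg u hu w hw).2)
        (ndb_restrict f' hf' W U hc.symm fun w hw u hu => (ho f' hg' u hu w hw).2)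
        (fun v => hA v) (fun v => hA' v) (fun u v => hg _ _) (fun u v => hg' _ _) ?_
      intro v hv
      have hv' : g (g (v : V)) = (v : V) := congrArg Subtype.val hv
      have h3 : g (v : V) + (v : V) = 0 := by
        apply h1
        rw [map_add, hv', add_comm]
      apply Subtype.ext
      apply hWf _ v.2
      rw [LinearMap.neg_apply, eq_neg_of_add_eq_zero_left h3, neg_neg]

/-- **Semisimple isometries of symplectic spaces.** -/
theorem sp_conj (g : V →ₗ[F] V) (f f' : LinearMap.BilinForm F V) (hf : NDB f) (hf' : NDB f')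
    (hA : f.IsAlt) (hA' : f'.IsAlt) (hg : ∀ u v, f (g u) (g v) = f u v)
    (hg' : ∀ u v, f' (g u) (g v) = f' u v) (N : ℕ) (hN : (N : F) ≠ 0) (hgN : g ^ N = 1) :
    Eqv g f f' := by
  obtain ⟨U, W, hc, hU, hW, hWs, hWf⟩ := exists_split g N hN hgN
  have hgU : ∀ v ∈ U, g v ∈ U := by
    intro v hv
    rw [(hU v).mp hv]; exact hv
  have ho : ∀ f : LinearMap.BilinForm F V, (∀ u v, f (g u) (g v) = f u v) →
      ∀ u ∈ U, ∀ w ∈ W, f u w = 0 ∧ f w u = 0 := fun f hg u hu w hw =>
    split_orth g N hN f hg u w ((hU u).mp hu) (hWs w hw)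
  refine eqv_of_split g f f' U W hc hgU hW (ho f hg) (ho f' hg') ?_ ?_
  · obtain ⟨y, hy⟩ := alt_equiv (f.restrict U) (f'.restrict U)
      (ndb_restrict f hf U W hc fun u hu w hw => (ho f hg u hu w hw).1)
      (ndb_restrict f' hf' U W hc fun u hu w hw => (ho f' hg' u hu w hw).1)
      (fun v => hA v) (fun v => hA' v)
    refine ⟨y, fun v => ?_, hy⟩
    have e1 : ∀ v : U, g.restrict hgU v = v := fun v => Subtype.ext ((hU v).mp v.2)
    rw [e1, e1]
  · refine sp_conj1 _ _ _
      (ndb_restrict f hf W U hc.symm fun w hw u hu => (ho f hg u hu w hw).2)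
      (ndb_restrict f' hf' W U hc.symm fun w hw u hu => (ho f' hg' u hu w hw).2)
      (fun v => hA v) (fun v => hA' v) (fun u v => hg _ _) (fun u v => hg' _ _) N hN ?_ ?_
    · refine LinearMap.ext fun v => Subtype.ext ?_
      rw [Module.End.pow_restrict]
      exact LinearMap.congr_fun hgN (v : V)
    · intro v hv
      exact Subtype.ext (hWf _ v.2 (congrArg Subtype.val hv))

/-- the quadratic case without fixed vectors -/
theorem orth_conj0 (g : V →ₗ[F] V) (Q Q' : QuadraticForm F V) (hQ : ND Q) (hQ' : ND Q')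
    (hg : ∀ v, Q (g v) = Q v) (hg' : ∀ v, Q' (g v) = Q' v) (N : ℕ) (hN : Odd N)
    (hgN : g ^ N = 1) (h1 : ∀ v, g v = v → v = 0) : EqvQ g Q Q' := by
  have hp : ∀ Q : QuadraticForm F V, (∀ v, Q (g v) = Q v) →
      ∀ u v, polar Q (g u) (g v) = polar Q u v := by
    intro Q hg u v
    simp only [polar, ← map_add, hg]
  have h2 : ∀ v, g (g v) = v → v = 0 := by
    intro v hv
    have h3 : g v + v = 0 := by
      apply h1
      rw [map_add, hv, add_comm]
    have h4 : g v = -v := eq_neg_of_add_eq_zero_left h3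
    have h5 : ∀ k, (g ^ k) v = (-1 : F) ^ k • v := by
      intro k
      induction k with
      | zero => simp
      | succ k ih =>
        rw [pow_succ', Module.End.mul_apply, ih, map_smul, h4, pow_succ, mul_smul]
        simp
    have h6 := h5 N
    rw [hgN, hN.neg_one_pow, Module.End.one_apply] at h6
    apply h1
    rw [h4, ← neg_one_smul F v]
    exact h6.symm
  obtain ⟨y, hy1, hy2⟩ := abs_version g (polarBilin Q) (polarBilin Q') 1 (by ring)
    (fun x hx => hQ x fun z => by simpa using hx z) (fun x hx => hQ' x fun z => by simpa using hx z)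
    (fun u v => by simp [polar_comm (⇑Q) u v]) (fun u v => by simp [polar_comm (⇑Q') u v])
    (fun u v => by simpa using hp Q hg u v) (fun u v => by simpa using hp Q' hg' u v) h2
  refine ⟨y, hy1, ?_⟩
  have hy2' : ∀ u v, polar Q (y u) (y v) = polar Q' u v := fun u v => by simpa using hy2 u v
  -- the difference is additive and `g`-invariant
  have hadd : ∀ u v, Q (y (u + v)) - Q' (u + v) = (Q (y u) - Q' u) + (Q (y v) - Q' v) := by
    intro u v
    rw [map_add, QuadraticMap.map_add Q, QuadraticMap.map_add Q', hy2']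
    ring
  have hsurj : Function.Surjective (g - 1 : V →ₗ[F] V) := by
    apply LinearMap.surjective_of_injective
    rw [← LinearMap.ker_eq_bot, LinearMap.ker_eq_bot']
    intro v hv
    apply h1
    exact sub_eq_zero.mp hv
  intro v
  obtain ⟨w, rfl⟩ := hsurj v
  have h3 := hadd (g w - w) w
  rw [sub_add_cancel, hy1, hg, hg'] at h3
  have h4 : Q (y (g w - w)) - Q' (g w - w) = 0 := by linear_combination -h3
  change Q (y (g w - w)) = Q' (g w - w)
  exact sub_eq_zero.mp h4

/-- **Semisimple isometries of odd order of quadratic spaces.** -/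
theorem orth_conj (g : V →ₗ[F] V) (Q Q' : QuadraticForm F V) (hQ : ND Q) (hQ' : ND Q')
    (hQQ : Q.Equivalent Q')
    (hg : ∀ v, Q (g v) = Q v) (hg' : ∀ v, Q' (g v) = Q' v) (N : ℕ) (hodd : Odd N)
    (hN : (N : F) ≠ 0) (hgN : g ^ N = 1) : EqvQ g Q Q' := by
  have hp : ∀ Q : QuadraticForm F V, (∀ v, Q (g v) = Q v) →
      ∀ u v, polar Q (g u) (g v) = polar Q u v := by
    intro Q hg u v
    simp only [polar, ← map_add, hg]
  obtain ⟨U, W, hc, hU, hW, hWs, hWf⟩ := exists_split g N hN hgN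
  have hgU : ∀ v ∈ U, g v ∈ U := by
    intro v hv
    rw [(hU v).mp hv]; exact hv
  have ho : ∀ Q : QuadraticForm F V, (∀ v, Q (g v) = Q v) → ∀ u ∈ U, ∀ w ∈ W, polar Q u w = 0 := by
    intro Q hg u hu w hw
    have := (split_orth g N hN (polarBilin Q) (fun u v => by simpa using hp Q hg u v) u w
      ((hU u).mp hu) (hWs w hw)).1
    simpa using this
  have hnd : ∀ (Q : QuadraticForm F V), ND Q → (∀ v, Q (g v) = Q v) → ND (Q.restrict W) := by
    intro Q hQ hg x hx
    apply Subtype.ext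
    apply hQ
    intro y
    obtain ⟨⟨u, w⟩, rfl⟩ := (Submodule.prodEquivOfIsCompl U W hc).surjective y
    change polar Q (x : V) ((u : V) + (w : V)) = 0
    rw [polar_add_right, polar_comm Q (x : V) (u : V), ho Q hg _ u.2 _ x.2, zero_add]
    exact hx w
  have hndU : ∀ (Q : QuadraticForm F V), ND Q → (∀ v, Q (g v) = Q v) → ND (Q.restrict U) := by
    intro Q hQ hg x hx
    apply Subtype.ext
    apply hQ
    intro y
    obtain ⟨⟨u, w⟩, rfl⟩ := (Submodule.prodEquivOfIsCompl U W hc).surjective y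
    change polar Q (x : V) ((u : V) + (w : V)) = 0
    rw [polar_add_right, ho Q hg _ x.2 _ w.2, add_zero]
    exact hx u
  have hWW : EqvQ (g.restrict hW) (Q.restrict W) (Q'.restrict W) := by
    refine orth_conj0 _ _ _ (hnd Q hQ hg) (hnd Q' hQ' hg') (fun v => hg v) (fun v => hg' v) N hodd
      ?_ ?_
    · refine LinearMap.ext fun v => Subtype.ext ?_
      rw [Module.End.pow_restrict]
      exact LinearMap.congr_fun hgN (v : V)
    · intro v hv
      exact Subtype.ext (hWf _ v.2 (congrArg Subtype.val hv))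
  have hsplit : ∀ Q : QuadraticForm F V, (∀ v, Q (g v) = Q v) →
      ((Q.restrict W).prod (Q.restrict U)).Equivalent Q := by
    intro Q hg
    refine ⟨⟨Submodule.prodEquivOfIsCompl W U hc.symm, ?_⟩⟩
    rintro ⟨w, u⟩
    change Q ((w : V) + (u : V)) = Q w + Q u
    rw [map_add_of_orth]
    rw [polar_comm]
    exact ho Q hg _ u.2 _ w.2
  refine eqvQ_of_split g Q Q' U W hc hgU hW (ho Q hg) (ho Q' hg') ?_ hWW
  -- Witt cancellation
  obtain ⟨yW, -, hyW⟩ := hWW
  have e1 : (Q'.restrict W).Equivalent (Q.restrict W) := ⟨⟨yW, hyW⟩⟩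
  have e2 : ((Q.restrict W).prod (Q.restrict U)).Equivalent
      ((Q.restrict W).prod (Q'.restrict U)) := by
    refine (hsplit Q hg).trans (hQQ.trans ((hsplit Q' hg').symm.trans ?_))
    obtain ⟨e⟩ := e1
    exact ⟨e.prod (QuadraticMap.IsometryEquiv.refl _)⟩
  obtain ⟨e3⟩ := cancel (hnd Q hQ hg) (hndU Q' hQ' hg') e2
  refine ⟨e3.toLinearEquiv.symm, fun v => ?_, fun v => ?_⟩
  · have e1 : ∀ v : U, g.restrict hgU v = v := fun v => Subtype.ext ((hU v).mp v.2)
    rw [e1, e1]
  · have := e3.map_app (e3.toLinearEquiv.symm v)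
    rw [← this]
    congr 1
    exact e3.toLinearEquiv.apply_symm_apply v

end

end H49.FormConj3
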