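import Cfsg.Agent.Lib.H49.SemiInvol
import Cfsg.Agent.Lib.H48.JTCount
import Cfsg.Agent.Lib.H48.JTForm

set_option autoImplicit false
set_option linter.unusedSectionVars false

/-! Invariant Hermitian forms of a unipotent matrix of given Jordan type. -/

namespace H49.GUUnip

open Matrix Cfsg H49.Unitary H49.SemiInvol H48.JTCent H48.JTForm

variable {K : Type*} [Field K] {t : ℕ} (d : Fin t → ℕ) (hd : ∀ k, 1 ≤ d k)

theorem pred_lt' {n : ℕ} (h : 1 ≤ n) : n - 1 < n := Nat.sub_lt h Nat.one_pos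

/-- index set -/
abbrev I := (k : Fin t) × Fin (d k)

/-- invariant sesquilinear forms -/
def Mf (K : Type*) [Field K] : Submodule K (Matrix (I d) (I d) K) where
  carrier := {M | (Cfsg.jordanTypeMatrix d K)ᵀ * M * Cfsg.jordanTypeMatrix d K = M}
  add_mem' := by
    intro a b ha hb
    change _ * (a + b) * _ = a + b
    rw [mul_add, add_mul, ha, hb]
  zero_mem' := by
    change _ * 0 * _ = 0
    rw [mul_zero, zero_mul]
  smul_mem' := by
    intro c a ha
    change _ * (c • a) * _ = c • a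
    rw [mul_smul_comm, smul_mul_assoc, ha]

theorem mem_Mf (M : Matrix (I d) (I d) K) :
    M ∈ Mf d K ↔ (Cfsg.jordanTypeMatrix d K)ᵀ * M * Cfsg.jordanTypeMatrix d K = M := Iff.rfl

/-- a non-degenerate invariant form -/
def G0 (K : Type*) [Field K] : Matrix (I d) (I d) K :=
  G d id (fun k i j => ((bz (d k) i j : ℤ) : K))

theorem G0_inv : (Cfsg.jordanTypeMatrix d K)ᵀ * G0 d K * Cfsg.jordanTypeMatrix d K = G0 d K := by
  refine invariant id _ (fun _ => rfl) ?_ ?_
  · intro k i j h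
    rw [bz_eq_zero h, Int.cast_zero]
  · intro k i j
    rw [← Int.cast_add, ← Int.cast_add, bz_rec, Int.cast_zero]

theorem G0_det : (G0 d K).det ≠ 0 := by
  refine nondeg id (fun _ => rfl) _ (fun _ => rfl) ?_ ?_
  · intro k i j h
    rw [bz_eq_zero h, Int.cast_zero]
  · intro k i j h
    rw [bz_anti h, Int.cast_pow, Int.cast_neg, Int.cast_one]
    exact pow_ne_zero _ (neg_ne_zero.mpr one_ne_zero)

theorem commute_jt (g : Matrix (I d) (I d) K) :
    g * Cfsg.jordanTypeMatrix d K = Cfsg.jordanTypeMatrix d K * g ↔ g * nil d K = nil d K * g := by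
  rw [jt_eq, mul_add, add_mul, mul_one, one_mul]
  exact add_right_inj _

/-- the parametrisation -/
def Phi (w : X d K) : Mf d K := ⟨G0 d K * mat d w.1, by
  rw [mem_Mf]
  have h1 := (commute_jt d (mat d w.1)).mpr (mat_commute d w.1 w.2)
  rw [← mul_assoc, mul_assoc, h1, ← mul_assoc, G0_inv]⟩

theorem Phi_coe (w : X d K) : (Phi d w : Matrix (I d) (I d) K) = G0 d K * mat d w.1 := rfl

/-- the bottom left entry -/
theorem entry_left (w : X d K) (k l : Fin t) :
    (Phi d w : Matrix (I d) (I d) K) ⟨k, ⟨d k - 1, pred_lt' (hd k)⟩⟩ ⟨l, ⟨0, hd l⟩⟩ =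
      w.1 l k ⟨0, hd k⟩ := by
  rw [Phi_coe, Matrix.mul_apply, Finset.sum_eq_single ⟨k, ⟨0, hd k⟩⟩]
  · simp only [G0, G, Matrix.of_apply, id, if_true, mat]
    rw [bz_anti (by have := hd k; omega)]
    simp
  · rintro ⟨k', j⟩ _ hne
    simp only [G0, G, Matrix.of_apply, id]
    split_ifs with h
    · subst h
      rw [bz_eq_zero, Int.cast_zero, zero_mul]
      have hj : (j : ℕ) ≠ 0 := by
        intro h0
        apply hne
        congr 1
        exact Fin.ext h0
      have := hd k'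
      omega
    · rw [zero_mul]
  · intro h; exact absurd (Finset.mem_univ _) h

/-- the top right entry -/
theorem entry_right (w : X d K) (k l : Fin t) (hkl : d k = d l) :
    (Phi d w : Matrix (I d) (I d) K) ⟨k, ⟨0, hd k⟩⟩ ⟨l, ⟨d l - 1, pred_lt' (hd l)⟩⟩ =
      (-1) ^ (d k - 1) * w.1 l k ⟨0, hd k⟩ := by
  rw [Phi_coe, Matrix.mul_apply, Finset.sum_eq_single ⟨k, ⟨d k - 1, pred_lt' (hd k)⟩⟩]
  · simp only [G0, G, Matrix.of_apply, id, if_true, mat]
    rw [bz_anti (by have := hd k; omega), dif_pos (by omega)]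
    have h1 : (⟨d k - 1 - (d l - 1), by have := hd k; omega⟩ : Fin (d k)) = ⟨0, hd k⟩ :=
      Fin.ext (by change d k - 1 - (d l - 1) = 0; omega)
    rw [h1]
    push_cast
    rfl
  · rintro ⟨k', j⟩ _ hne
    simp only [G0, G, Matrix.of_apply, id]
    split_ifs with h
    · subst h
      simp only [mat, Matrix.of_apply]
      have hj : (j : ℕ) ≠ d k' - 1 := by
        intro h0
        apply hne
        congr 1
        exact Fin.ext h0
      have hj2 := j.2
      rw [dif_neg (by omega), mul_zero]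
    · rw [zero_mul]
  · intro h; exact absurd (Finset.mem_univ _) h

include hd in
theorem Phi_bijective : Function.Bijective (Phi (K := K) d) := by
  constructor
  · intro w w' h
    apply Subtype.ext
    have h1 : ∀ k l, w.1 l k ⟨0, hd k⟩ = w'.1 l k ⟨0, hd k⟩ := by
      intro k l
      rw [← entry_left d hd w, ← entry_left d hd w', h]
    have h2 : mat d w.1 = mat d w'.1 := by
      have h3 : G0 d K * mat d w.1 = G0 d K * mat d w'.1 := congrArg Subtype.val h
      have hu : IsUnit (G0 d K) :=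
        (Matrix.isUnit_iff_isUnit_det _).mpr (IsUnit.mk0 _ (G0_det d))
      exact hu.mul_left_cancel h3
    funext k l j
    have h4 := congrFun (congrFun h2 ⟨l, j⟩) ⟨k, ⟨0, hd k⟩⟩
    simpa [mat] using h4
  · rintro ⟨M, hM⟩
    have hu : IsUnit (G0 d K) := (Matrix.isUnit_iff_isUnit_det _).mpr (IsUnit.mk0 _ (G0_det d))
    obtain ⟨g, hg⟩ := hu
    have hJ : IsUnit (Cfsg.jordanTypeMatrix d K)ᵀ := by
      have h1 := G0_inv (K := K) d
      have h2 := congrArg Matrix.det h1
      rw [Matrix.det_mul, Matrix.det_mul] at h2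
      rw [Matrix.isUnit_iff_isUnit_det]
      refine IsUnit.mk0 _ fun h0 => G0_det (K := K) d ?_
      rw [← h2, h0, zero_mul, zero_mul]
    have hc : (((g⁻¹ : (Matrix (I d) (I d) K)ˣ) : Matrix (I d) (I d) K) * M) * Cfsg.jordanTypeMatrix d K =
        Cfsg.jordanTypeMatrix d K * (((g⁻¹ : (Matrix (I d) (I d) K)ˣ) : Matrix (I d) (I d) K) * M) := by
      -- multiply by `Jᵀ g` on the left
      have h1 : (Cfsg.jordanTypeMatrix d K)ᵀ * (g : Matrix (I d) (I d) K) *
          ((((g⁻¹ : (Matrix (I d) (I d) K)ˣ) : Matrix (I d) (I d) K) * M) * Cfsg.jordanTypeMatrix d K) =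
          M := by
        have : (Cfsg.jordanTypeMatrix d K)ᵀ * (g : Matrix (I d) (I d) K) *
          ((((g⁻¹ : (Matrix (I d) (I d) K)ˣ) : Matrix (I d) (I d) K) * M) * Cfsg.jordanTypeMatrix d K) =
          (Cfsg.jordanTypeMatrix d K)ᵀ * ((g : Matrix (I d) (I d) K) *
            ((g⁻¹ : (Matrix (I d) (I d) K)ˣ) : Matrix (I d) (I d) K)) * M *
              Cfsg.jordanTypeMatrix d K := by simp only [mul_assoc]
        rw [this, Units.mul_inv, mul_one]
        exact (mem_Mf d M).mp hM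
      have h2 : (Cfsg.jordanTypeMatrix d K)ᵀ * (g : Matrix (I d) (I d) K) *
          (Cfsg.jordanTypeMatrix d K * (((g⁻¹ : (Matrix (I d) (I d) K)ˣ) : Matrix (I d) (I d) K) * M)) =
          M := by
        rw [hg, ← mul_assoc, G0_inv, ← hg, ← mul_assoc, Units.mul_inv, one_mul]
      exact (hJ.mul g.isUnit).mul_left_cancel (h1.trans h2.symm)
    obtain ⟨h1, h2⟩ := exists_mat d hd _ ((commute_jt d _).mp hc)
    refine ⟨⟨_, h1⟩, ?_⟩
    apply Subtype.ext
    rw [Phi_coe, h2, ← hg, ← mul_assoc, Units.mul_inv, one_mul]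

/-- the blocks of an invariant form -/
def bt (D : ℕ) : Mf d K →+ ((i : Fin D) → Matrix {k : Fin t // d k = i} {k : Fin t // d k = i} K) where
  toFun M i := Matrix.of fun l k => (M : Matrix (I d) (I d) K)
    ⟨l.1, ⟨d l.1 - 1, pred_lt' (hd l.1)⟩⟩ ⟨k.1, ⟨0, hd k.1⟩⟩
  map_zero' := rfl
  map_add' _ _ := rfl

theorem bt_Phi (D : ℕ) (w : X d K) : bt d hd D (Phi d w) = beta d hd D w := by
  funext i
  ext l k
  change (Phi d w : Matrix (I d) (I d) K) _ _ = w.1 k.1 l.1 ⟨0, hd l.1⟩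
  exact entry_left d hd w l.1 k.1

theorem bt_surjective (D : ℕ) (hD : ∀ k, d k < D) :
    Function.Surjective (bt (K := K) d hd D) := by
  intro B
  obtain ⟨w, hw⟩ := beta_surjective d hd D hD B
  exact ⟨Phi d w, by rw [bt_Phi, hw]⟩

theorem bt_smul (D : ℕ) (c : K) (M : Mf d K) : bt d hd D (c • M) = c • bt d hd D M := rfl

theorem det_iff (D : ℕ) (hD : ∀ k, d k < D) (M : Mf d K) :
    (M : Matrix (I d) (I d) K).det ≠ 0 ↔ ∀ i, (bt d hd D M i).det ≠ 0 := by
  obtain ⟨w, rfl⟩ := (Phi_bijective d hd).2 M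
  rw [Phi_coe, Matrix.det_mul, mul_ne_zero_iff, and_iff_right (G0_det d), det_mat d hd w.1 w.2,
    bt_Phi]
  constructor
  · intro h i
    by_cases hi : (i : ℕ) ∈ Finset.univ.image d
    · exact h i hi
    · have : IsEmpty {k : Fin t // d k = (i : ℕ)} :=
        ⟨fun k => hi (Finset.mem_image.mpr ⟨k.1, Finset.mem_univ _, k.2⟩)⟩
      change (blk d hd w.1 i).det ≠ 0
      rw [Matrix.det_isEmpty]
      exact one_ne_zero
  · intro h i hi
    obtain ⟨k, -, rfl⟩ := Finset.mem_image.mp hi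
    exact h ⟨d k, hD k⟩

variable [Finite K] {q : ℕ} (hK : Nat.card K = q ^ 2)

theorem nil_map : (nil d K).map (frob hK) = nil d K := by
  ext a b
  simp only [nil, Matrix.map_apply, Matrix.of_apply]
  split_ifs
  · rw [map_one]
  · rw [map_zero]

theorem ct_jt : ct hK (Cfsg.jordanTypeMatrix d K) = (Cfsg.jordanTypeMatrix d K)ᵀ := by
  rw [jt_eq, ct_add, ct_one, Matrix.transpose_add, Matrix.transpose_one]
  congr 1
  rw [ct, nil_map]

theorem ct_jtT : ct hK (Cfsg.jordanTypeMatrix d K)ᵀ = Cfsg.jordanTypeMatrix d K := by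
  rw [← ct_jt d hK, ct_ct]

/-- the involution on the invariant forms -/
def sX : Mf d K →+ Mf d K where
  toFun M := ⟨ct hK (M : Matrix (I d) (I d) K), by
    rw [mem_Mf]
    conv_rhs => rw [← (mem_Mf d _).mp M.2]
    rw [ct_mul, ct_mul, ct_jt, ct_jtT, mul_assoc]⟩
  map_zero' := Subtype.ext (by ext i j; simp [ct])
  map_add' a b := Subtype.ext (ct_add hK _ _)

theorem sX_coe (M : Mf d K) : (sX d hK M : Matrix (I d) (I d) K) =
    ct hK (M : Matrix (I d) (I d) K) := rfl

/-- the involution on the blocks -/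
def sY (D : ℕ) : ((i : Fin D) → Matrix {k : Fin t // d k = i} {k : Fin t // d k = i} K) →+
    ((i : Fin D) → Matrix {k : Fin t // d k = i} {k : Fin t // d k = i} K) where
  toFun B i := ((-1 : K) ^ ((i : ℕ) - 1)) • ct hK (B i)
  map_zero' := by
    funext i; ext a b; simp [ct]
  map_add' a b := by
    funext i
    change ((-1 : K) ^ ((i : ℕ) - 1)) • ct hK (a i + b i) = _
    rw [ct_add, smul_add]; rfl

theorem bt_sX (D : ℕ) (M : Mf d K) : bt d hd D (sX d hK M) = sY d hK D (bt d hd D M) := by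
  obtain ⟨w, rfl⟩ := (Phi_bijective d hd).2 M
  funext i
  ext l k
  have hl := l.2
  have hk := k.2
  change frob hK ((Phi d w : Matrix (I d) (I d) K) ⟨k.1, ⟨0, hd k.1⟩⟩
      ⟨l.1, ⟨d l.1 - 1, pred_lt' (hd l.1)⟩⟩) =
    (-1 : K) ^ ((i : ℕ) - 1) * frob hK ((Phi d w : Matrix (I d) (I d) K)
      ⟨k.1, ⟨d k.1 - 1, pred_lt' (hd k.1)⟩⟩ ⟨l.1, ⟨0, hd l.1⟩⟩)
  have h1 : (-1 : K) ^ (d k.1 - 1) = (-1) ^ ((i : ℕ) - 1) := by rw [hk]
  rw [entry_right d hd w k.1 l.1 (by rw [hl, hk]), entry_left d hd w k.1 l.1, map_mul, map_pow,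
    map_neg, map_one, h1]

theorem sX_smul (c : K) (M : Mf d K) : sX d hK (c • M) = frob hK c • sX d hK M :=
  Subtype.ext (ct_smul hK c _)

theorem sX_sX (M : Mf d K) : sX d hK (sX d hK M) = M := Subtype.ext (ct_ct hK _)

theorem sY_smul (D : ℕ) (c : K)
    (B : (i : Fin D) → Matrix {k : Fin t // d k = i} {k : Fin t // d k = i} K) :
    sY d hK D (c • B) = frob hK c • sY d hK D B := by
  funext i
  change ((-1 : K) ^ ((i : ℕ) - 1)) • ct hK (c • B i) = frob hK c • (((-1 : K) ^ ((i : ℕ) - 1)) •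
    ct hK (B i))
  rw [ct_smul, smul_comm]

theorem sY_sY (D : ℕ)
    (B : (i : Fin D) → Matrix {k : Fin t // d k = i} {k : Fin t // d k = i} K) :
    sY d hK D (sY d hK D B) = B := by
  funext i
  change ((-1 : K) ^ ((i : ℕ) - 1)) • ct hK (((-1 : K) ^ ((i : ℕ) - 1)) • ct hK (B i)) = B i
  rw [ct_smul, ct_ct, smul_smul, map_pow, map_neg, map_one, ← mul_pow, neg_one_mul, neg_neg, one_pow,
    one_smul]


/-- number of invertible Hermitian matrices in a block -/
noncomputable def nH (i : ℕ) : ℕ :=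
  Nat.card {B : Matrix {k : Fin t // d k = i} {k : Fin t // d k = i} K // ct hK B = B ∧ B.det ≠ 0}

theorem card_sign (i : ℕ) :
    Nat.card {B : Matrix {k : Fin t // d k = i} {k : Fin t // d k = i} K //
      ((-1 : K) ^ (i - 1)) • ct hK B = B ∧ B.det ≠ 0} = nH d hK i := by
  rcases Nat.even_or_odd (i - 1) with h | h
  · rw [h.neg_one_pow]
    simp only [one_smul]
    rfl
  · rw [h.neg_one_pow]
    simp only [neg_smul, one_smul]
    exact card_skew hK

theorem card_blocks (D : ℕ) :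
    Nat.card {y : (i : Fin D) → Matrix {k : Fin t // d k = i} {k : Fin t // d k = i} K //
      sY d hK D y = y ∧ ∀ i, (y i).det ≠ 0} = ∏ i ∈ Finset.range D, nH d hK i := by
  have e1 : {y : (i : Fin D) → Matrix {k : Fin t // d k = i} {k : Fin t // d k = i} K //
      sY d hK D y = y ∧ ∀ i, (y i).det ≠ 0} ≃
      {y : (i : Fin D) → Matrix {k : Fin t // d k = i} {k : Fin t // d k = i} K //
        ∀ i : Fin D, ((-1 : K) ^ ((i : ℕ) - 1)) • ct hK (y i) = y i ∧ (y i).det ≠ 0} :=
    Equiv.subtypeEquivRight fun y => by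
      constructor
      · rintro ⟨h1, h2⟩ i
        exact ⟨congrFun h1 i, h2 i⟩
      · intro h
        exact ⟨funext fun i => (h i).1, fun i => (h i).2⟩
  rw [Nat.card_congr e1, Nat.card_congr (Equiv.subtypePiEquivPi (β := fun i : Fin D =>
      Matrix {k : Fin t // d k = i} {k : Fin t // d k = i} K)
      (p := fun i B => ((-1 : K) ^ ((i : ℕ) - 1)) • ct hK B = B ∧ B.det ≠ 0)),
      Nat.card_pi, Finset.prod_range]
  exact Finset.prod_congr rfl fun i _ => card_sign d hK i

include hK in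
theorem card_Y (D : ℕ) :
    Nat.card ((i : Fin D) → Matrix {k : Fin t // d k = i} {k : Fin t // d k = i} K) =
      (q ^ 2) ^ (∑ i ∈ Finset.range D, mult d i ^ 2) := by
  rw [Nat.card_pi, Finset.sum_range, ← Finset.prod_pow_eq_pow_sum]
  apply Finset.prod_congr rfl
  intro i _
  change Nat.card ({k : Fin t // d k = (i : ℕ)} → {k : Fin t // d k = (i : ℕ)} → K) = _
  rw [Nat.card_fun, Nat.card_fun, hK, Nat.card_eq_fintype_card, card_sub, pow_two (mult d i), pow_mul]

include hd in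
/-- the number of non-degenerate invariant Hermitian forms -/
theorem card_invariant (D : ℕ) (hD : ∀ k, d k < D) :
    Nat.card {M : Matrix (I d) (I d) K //
      (Cfsg.jordanTypeMatrix d K)ᵀ * M * Cfsg.jordanTypeMatrix d K = M ∧ ct hK M = M ∧ M.det ≠ 0} =
      q ^ (2 * (∑ i ∈ Finset.range D, ∑ j ∈ Finset.range D, if i < j then i * mult d i * mult d j else 0) +
        ∑ i ∈ Finset.range D, (i - 1) * mult d i ^ 2) * ∏ i ∈ Finset.range D, nH d hK i := by
  classical
  have : Fintype K := Fintype.ofFinite K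
  have hq : 0 < q := by have := two_le hK; omega
  have hfinX : Finite (Mf d K) := inferInstance
  have h1 := card_fix_fiber hK (sX d hK) (sY d hK D) (sX_smul d hK) (sX_sX d hK)
    (bt d hd D) (bt_surjective d hd D hD) (bt_sX d hd hK D) (bt_smul d hd D)
    (fun B => ∀ i, (B i).det ≠ 0)
  have hX : Nat.card (Mf d K) = (q ^ 2) ^ (∑ k, ∑ l, min (d k) (d l)) := by
    rw [← Nat.card_eq_of_bijective _ (Phi_bijective (K := K) d hd), card_X,
      ← Nat.card_eq_fintype_card, hK]
  have hXf : Nat.card (fix (sX d hK)) = q ^ (∑ k, ∑ l, min (d k) (d l)) := by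
    have h2 := card_fix_sq hK (sX d hK) (sX_smul d hK) (sX_sX d hK)
    rw [hX, ← pow_two, ← pow_mul, mul_comm 2, pow_mul] at h2
    exact (Nat.pow_left_injective (by norm_num : 2 ≠ 0) h2).symm
  have hYf : Nat.card (fix (sY d hK D)) = q ^ (∑ i ∈ Finset.range D, mult d i ^ 2) := by
    have h2 := card_fix_sq hK (sY d hK D) (sY_smul d hK D) (sY_sY d hK D)
    rw [card_Y d hK D, ← pow_two, ← pow_mul, mul_comm 2, pow_mul] at h2
    exact (Nat.pow_left_injective (by norm_num : 2 ≠ 0) h2).symm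
  have e1 : {M : Matrix (I d) (I d) K //
      (Cfsg.jordanTypeMatrix d K)ᵀ * M * Cfsg.jordanTypeMatrix d K = M ∧ ct hK M = M ∧ M.det ≠ 0} ≃
      {x : Mf d K // sX d hK x = x ∧ ∀ i, (bt d hd D x i).det ≠ 0} :=
    { toFun := fun M => ⟨⟨M.1, M.2.1⟩, Subtype.ext M.2.2.1,
        (det_iff d hd D hD ⟨M.1, M.2.1⟩).mp M.2.2.2⟩
      invFun := fun x => ⟨x.1.1, x.1.2, congrArg Subtype.val x.2.1,
        (det_iff d hd D hD x.1).mpr x.2.2⟩
      left_inv := fun M => rfl
      right_inv := fun x => rfl }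
  rw [Nat.card_congr e1]
  rw [hXf, hYf, card_blocks, exponent d hd D hD, pow_add] at h1
  apply Nat.eq_of_mul_eq_mul_right (Nat.pow_pos (n := ∑ i ∈ Finset.range D, mult d i ^ 2) hq)
  rw [h1]
  ring

theorem nH_mul (i : ℕ) : nH d hK i * Nat.card (GU (mult d i) K q) =
    ∏ j : Fin (mult d i), ((q ^ 2) ^ mult d i - (q ^ 2) ^ (j : ℕ)) := by
  classical
  have : Fintype K := Fintype.ofFinite K
  have h := card_herm hK (κ := {k : Fin t // d k = i})
  rw [card_sub] at h
  rw [nH, h, Matrix.card_GL_field, ← Nat.card_eq_fintype_card, hK]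

end H49.GUUnip
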