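import Cfsg.Agent.Lib.H9.MultB
import Cfsg.Agent.Lib.H2.Gaschutz

/-!
Central extensions with kernel of order 2: a splitting criterion over a group `2⁴ : D₈` generated by three involutions.
-/

set_option autoImplicit false

namespace H49.CE

open Subgroup H9.Mult

universe u v

section basic

variable {Γ : Type v} [Group Γ] [Finite Γ] {G : Type u} [Group G] {σ : Γ →* G}

theorem cen (hc : Nat.card σ.ker = 2) {w : Γ} (hw : σ w = 1) (g : Γ) : g * w = w * g := by
  by_cases h1 : w = 1
  · rw [h1, mul_one, one_mul]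
  · -- the kernel has two elements
    have hmem : w ∈ σ.ker := hw
    have hconj : g * w * g⁻¹ ∈ σ.ker := (MonoidHom.normal_ker σ).conj_mem w hmem g
    have hne : g * w * g⁻¹ ≠ 1 := by
      intro h
      apply h1
      have : w = g⁻¹ * (g * w * g⁻¹) * g := by group
      rw [this, h]; group
    obtain ⟨a, b, hab, huniv⟩ := Nat.card_eq_two_iff.1 hc
    have h3 : ∀ x y : σ.ker, x ≠ 1 → y ≠ 1 → x = y := by
      intro x y hx hy
      have hx' : x = a ∨ x = b := by
        have : x ∈ ({a, b} : Set σ.ker) := by rw [huniv]; trivial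
        simpa using this
      have hy' : y = a ∨ y = b := by
        have : y ∈ ({a, b} : Set σ.ker) := by rw [huniv]; trivial
        simpa using this
      have h1' : (1 : σ.ker) = a ∨ (1 : σ.ker) = b := by
        have : (1 : σ.ker) ∈ ({a, b} : Set σ.ker) := by rw [huniv]; trivial
        simpa using this
      rcases hx' with rfl | rfl <;> rcases hy' with rfl | rfl
      · rfl
      · rcases h1' with h | h
        · exact absurd h.symm hx
        · exact absurd h.symm hy
      · rcases h1' with h | h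
        · exact absurd h.symm hy
        · exact absurd h.symm hx
      · rfl
    have h4 : (⟨g * w * g⁻¹, hconj⟩ : σ.ker) = ⟨w, hmem⟩ :=
      h3 _ _ (fun h => hne (congrArg Subtype.val h)) (fun h => h1 (congrArg Subtype.val h))
    have h5 : g * w * g⁻¹ = w := congrArg Subtype.val h4
    rw [mul_inv_eq_iff_eq_mul] at h5
    exact h5

theorem sq (hc : Nat.card σ.ker = 2) {w : Γ} (hw : σ w = 1) : w * w = 1 := ker_two hc hw

theorem sq_lift' (hc : Nat.card σ.ker = 2) {x y : Γ} (h : σ x = σ y) : x * x = y * y := by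
  obtain ⟨w, hw, rfl⟩ := lift_eq h
  have h1 := cen hc hw y
  have h2 := sq hc hw
  calc y * w * (y * w) = y * (w * y) * w := by group
    _ = y * (y * w) * w := by rw [h1]
    _ = y * y * (w * w) := by group
    _ = y * y := by rw [h2, mul_one]

theorem sq_conj' (hs : Function.Surjective σ) (hc : Nat.card σ.ker = 2) {x y : Γ} {g : G} (h : σ x = g * σ y * g⁻¹)
    (hy : σ y * σ y = 1) : x * x = y * y := by
  obtain ⟨k, rfl⟩ := hs g
  have h1 : σ x = σ (k * y * k⁻¹) := by rw [h, map_mul, map_mul, map_inv]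
  rw [sq_lift' hc h1]
  have h2 : σ (y * y) = 1 := by rw [map_mul, hy]
  have h3 := cen hc h2 k
  calc k * y * k⁻¹ * (k * y * k⁻¹) = k * (y * y) * k⁻¹ := by group
    _ = y * y * k * k⁻¹ := by rw [h3]
    _ = y * y := by group

/-- all lifts of `x` are involutions or trivial -/
def Good (σ : Γ →* G) (x : G) : Prop := ∀ X : Γ, σ X = x → X * X = 1

theorem good_conj (hs : Function.Surjective σ) (hc : Nat.card σ.ker = 2) {x y g : G} (hx : x * x = 1) (h : Good σ x)
    (hy : y = g * x * g⁻¹) : Good σ y := by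
  intro Y hY
  obtain ⟨X, rfl⟩ := hs x
  rw [sq_conj' hs hc (x := Y) (y := X) (g := g) (by rw [hY, hy]) hx]
  exact h X rfl

theorem good_comm {x y : G} (hx : Good σ x) (hy : Good σ y) (hxy : Good σ (x * y)) {X Y : Γ} (hX : σ X = x)
    (hY : σ Y = y) : X * Y = Y * X := by
  have h1 := hx X hX
  have h2 := hy Y hY
  have h3 := hxy (X * Y) (by rw [map_mul, hX, hY])
  have e1 : X * Y = (X * Y)⁻¹ := eq_inv_of_mul_eq_one_left h3
  have e2 : X⁻¹ = X := inv_eq_of_mul_eq_one_right h1
  have e3 : Y⁻¹ = Y := inv_eq_of_mul_eq_one_right h2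
  rw [e1, mul_inv_rev, e2, e3]

/-- seven conjugate involutions of an elementary abelian group of order 8 -/
theorem good_base (hs : Function.Surjective σ) (hc : Nat.card σ.ker = 2) {x0 x y w : G} (h0 : x0 * x0 = 1)
    (c1 : ∃ g, x = g * x0 * g⁻¹) (c2 : ∃ g, y = g * x0 * g⁻¹) (c3 : ∃ g, w = g * x0 * g⁻¹)
    (c4 : ∃ g, x * y = g * x0 * g⁻¹) (c5 : ∃ g, x * w = g * x0 * g⁻¹) (c6 : ∃ g, y * w = g * x0 * g⁻¹)
    (c7 : ∃ g, x * (y * w) = g * x0 * g⁻¹) : Good σ x0 := by
  obtain ⟨X0, rfl⟩ := hs x0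
  set c := X0 * X0 with hcdef
  have hc1 : σ c = 1 := by rw [hcdef, map_mul, h0]
  have hcc : c * c = 1 := sq hc hc1
  have hcen := cen hc hc1
  have key : ∀ Y : Γ, (∃ g, σ Y = g * σ X0 * g⁻¹) → Y * Y = c := by
    rintro Y ⟨g, hg⟩
    exact sq_conj' hs hc hg h0
  obtain ⟨X, rfl⟩ := hs x
  obtain ⟨Y, rfl⟩ := hs y
  obtain ⟨W, rfl⟩ := hs w
  -- commutators
  have com : ∀ P Q : Γ, P * P = c → Q * Q = c → (P * Q) * (P * Q) = c → P * Q = c * (Q * P) := by
    intro P Q hP hQ hPQ
    have e2 : P⁻¹ = c * P := by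
      apply inv_eq_of_mul_eq_one_right
      calc P * (c * P) = (P * c) * P := by group
        _ = c * P * P := by rw [hcen]
        _ = c * (P * P) := by group
        _ = 1 := by rw [hP, hcc]
    have e3 : Q⁻¹ = c * Q := by
      apply inv_eq_of_mul_eq_one_right
      calc Q * (c * Q) = (Q * c) * Q := by group
        _ = c * Q * Q := by rw [hcen]
        _ = c * (Q * Q) := by group
        _ = 1 := by rw [hQ, hcc]
    have e4 : P * Q = c * (Q⁻¹ * P⁻¹) := by
      calc P * Q = (P * Q) * (P * Q) * (P * Q)⁻¹ := by group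
        _ = c * (Q⁻¹ * P⁻¹) := by rw [hPQ, mul_inv_rev]
    rw [e4, e2, e3]
    calc c * (c * Q * (c * P)) = c * c * (Q * c) * P := by group
      _ = c * c * (c * Q) * P := by rw [hcen Q]
      _ = (c * c) * (c * (Q * P)) := by group
      _ = _ := by rw [hcc, one_mul]
  have k1 := key X c1
  have k2 := key Y c2
  have k3 := key W c3
  have k4 := key (X * Y) (by rw [map_mul]; exact c4)
  have k5 := key (X * W) (by rw [map_mul]; exact c5)
  have k6 := key (Y * W) (by rw [map_mul]; exact c6)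
  have k7 := key (X * (Y * W)) (by rw [map_mul, map_mul]; exact c7)
  have d1 := com X Y k1 k2 k4
  have d2 := com X W k1 k3 k5
  have d3 := com X (Y * W) k1 k6 k7
  have d4 : X * (Y * W) = (Y * W) * X := by
    calc X * (Y * W) = (X * Y) * W := by group
      _ = c * (Y * X) * W := by rw [d1]
      _ = c * (Y * (X * W)) := by group
      _ = c * (Y * (c * (W * X))) := by rw [d2]
      _ = c * ((Y * c) * (W * X)) := by group
      _ = c * (c * Y * (W * X)) := by rw [hcen]
      _ = (c * c) * (Y * W * X) := by group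
      _ = _ := by rw [hcc, one_mul]
  rw [d4] at d3
  have d5 : c = 1 := by
    have : Y * W * X = c * (Y * W * X) := d3
    exact (mul_eq_right.1 this.symm)
  intro X0' hX0'
  rw [sq_lift' hc (y := X0) hX0']
  exact d5

end basic

section quat

variable {Γ : Type v} [Group Γ] [Finite Γ] {G : Type u} [Group G] {σ : Γ →* G}

/-- the vanishing of the class of a quaternion group at the pair of subgroups exchanged by an involution -/
theorem quat_sym (hc : Nat.card σ.ker = 2) {a b k : G} (hs : Function.Surjective σ)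
    (h2 : a * a = b * b) (h3 : a * b * a = b)
    (hka : k * a * k⁻¹ = a * b ∨ k * a * k⁻¹ = (a * b)⁻¹) (hk : Good σ k) (hz : Good σ (a * a)) (hkz : Good σ (k * (a * a)))
    {X Y : Γ} (hX : σ X = a) (hY : σ Y = b) :
    X * X * (Y * Y)⁻¹ * (X * Y * X * Y⁻¹) = 1 := by
  obtain ⟨K, hK⟩ := hs k
  -- z = a a
  have hz2 : X * X * (X * X) = 1 := hz _ (by rw [map_mul, hX])
  have hcom : K * (X * X) = X * X * K := good_comm hk hz hkz hK (by rw [map_mul, hX])
  have habab : a * b * (a * b) = b * b := by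
    calc a * b * (a * b) = (a * b * a) * b := by group
      _ = _ := by rw [h3]
  have e1 : (X * Y) * (X * Y) = X * X := by
    rcases hka with h | h
    · have h4 : σ (K * X * K⁻¹) = σ (X * Y) := by
        rw [map_mul, map_mul, map_inv, hK, hX, h, map_mul, hX, hY]
      rw [← sq_lift' hc h4]
      calc K * X * K⁻¹ * (K * X * K⁻¹) = K * (X * X) * K⁻¹ := by group
        _ = X * X * K * K⁻¹ := by rw [hcom]
        _ = _ := by group
    · have h4 : σ (K * X * K⁻¹) = σ (X * Y)⁻¹ := by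
        rw [map_mul, map_mul, map_inv, hK, hX, h, map_inv, map_mul, hX, hY]
      have h5 := sq_lift' hc h4
      have h6 : K * X * K⁻¹ * (K * X * K⁻¹) = X * X := by
        calc K * X * K⁻¹ * (K * X * K⁻¹) = K * (X * X) * K⁻¹ := by group
          _ = X * X * K * K⁻¹ := by rw [hcom]
          _ = _ := by group
      rw [h6] at h5
      have h7 : (X * Y) * (X * Y) = ((X * Y)⁻¹ * (X * Y)⁻¹)⁻¹ := by group
      rw [h7, ← h5]
      exact inv_eq_of_mul_eq_one_right hz2
  have hy2 : Y * Y * (Y * Y) = 1 := hz _ (by rw [map_mul, hY, h2])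
  have hcomY : X * X * (Y * Y)⁻¹ = (Y * Y)⁻¹ * (X * X) := by
    have h8 : σ (X * X * (Y * Y)⁻¹) = 1 := by
      rw [map_mul, map_mul, map_inv, map_mul, hX, hY, h2, mul_inv_cancel]
    have h9 := cen hc h8 (Y * Y)
    calc X * X * (Y * Y)⁻¹ = (Y * Y)⁻¹ * (Y * Y * (X * X * (Y * Y)⁻¹)) := by group
      _ = (Y * Y)⁻¹ * (X * X * (Y * Y)⁻¹ * (Y * Y)) := by rw [h9]
      _ = _ := by group
  calc X * X * (Y * Y)⁻¹ * (X * Y * X * Y⁻¹) = X * X * (Y * Y)⁻¹ * ((X * Y) * (X * Y)) * (Y * Y)⁻¹ := by group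
    _ = X * X * (Y * Y)⁻¹ * (X * X) * (Y * Y)⁻¹ := by rw [e1]
    _ = X * X * (X * X * (Y * Y)⁻¹) * (Y * Y)⁻¹ := by rw [mul_assoc (X * X) _ (X * X), ← hcomY]
    _ = (X * X * (X * X)) * (Y * Y * (Y * Y))⁻¹ := by group
    _ = 1 := by rw [hz2, hy2]; group

end quat

section crit

variable {Γ : Type v} [Group Γ] [Finite Γ] {G : Type u} [Group G] {σ : Γ →* G}

theorem conj_sup {N : Subgroup Γ} {r g : Γ} (hN : ∀ x ∈ N, g * x * g⁻¹ ∈ N) (hr : g * r * g⁻¹ ∈ N ⊔ zpowers r) :
    ∀ x ∈ N ⊔ zpowers r, g * x * g⁻¹ ∈ N ⊔ zpowers r := by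
  have : N ⊔ zpowers r ≤ (N ⊔ zpowers r).comap (MulAut.conj g).toMonoidHom := by
    rw [sup_le_iff, zpowers_le]
    refine ⟨fun x hx => ?_, ?_⟩
    · exact mem_comap.2 (mem_sup_left (hN x hx))
    · exact mem_comap.2 hr
  intro x hx
  exact this hx

end crit

end H49.CE
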