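import Cfsg.Agent.Lib.H49.CE1

/-!
Central extensions with kernel of order 2: splitting criterion over `2⁴ : D₈`.
-/

set_option autoImplicit false

namespace H49.CE

open Subgroup H9.Mult

universe u v

variable {Γ : Type v} [Group Γ] [Finite Γ] {G : Type u} [Group G] {σ : Γ →* G}

theorem comm3 {x y : Γ} (h1 : x * x = 1) (h2 : y * y = 1) (h3 : x * y * (x * y) = 1) : x * y = y * x := by
  have e1 : x * y = (x * y)⁻¹ := eq_inv_of_mul_eq_one_left h3
  have e2 : x⁻¹ = x := inv_eq_of_mul_eq_one_right h1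
  have e3 : y⁻¹ = y := inv_eq_of_mul_eq_one_right h2
  rw [e1, mul_inv_rev, e2, e3]

theorem ne_of_sep {N : Subgroup Γ} {r : Γ} {F : Subgroup G} (h : N ≤ F.comap σ) (hr : σ r ∉ F) :
    ∀ x ∈ N, σ r ≠ σ x := fun x hx he => hr (by rw [he]; exact h hx)

theorem exists_split (hs : Function.Surjective σ) (hc : Nat.card σ.ker = 2) {e s t u w z : G}
    (hu : u = e * (t * e * t)) (hw : w = u * (s * u * s)) (hz : z = w * (t * w * t)) (hse : s * e * s = e * z)
    (g1 : Good σ e) (g2 : Good σ s) (g3 : Good σ t) (g4 : Good σ u) (g5 : Good σ w) (g6 : Good σ z)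
    (g7 : Good σ (e * w)) (g8 : Good σ (e * z)) (g9 : Good σ (u * z)) (g10 : Good σ (s * z))
    (g11 : Good σ (s * t * s * t))
    (hAB : ∀ A B : Γ, σ A = e * s → σ B = t * (e * s) * t → A * B * A = B)
    (f1 : z ≠ 1) (f2 : ∃ F : Subgroup G, z ∈ F ∧ w ∉ F) (f3 : ∃ F : Subgroup G, z ∈ F ∧ w ∈ F ∧ u ∉ F)
    (f4 : ∃ F : Subgroup G, z ∈ F ∧ w ∈ F ∧ u ∈ F ∧ e ∉ F)
    (f5 : ∃ F : Subgroup G, z ∈ F ∧ w ∈ F ∧ u ∈ F ∧ e ∈ F ∧ s ∉ F)
    (f6 : ∃ F : Subgroup G, z ∈ F ∧ w ∈ F ∧ u ∈ F ∧ e ∈ F ∧ s ∈ F ∧ t * s * t ∉ F)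
    (f7 : ∃ F : Subgroup G, z ∈ F ∧ w ∈ F ∧ u ∈ F ∧ e ∈ F ∧ s ∈ F ∧ t * s * t ∈ F ∧ t ∉ F) :
    ∃ C : Subgroup Γ, Split σ C ∧ 128 ∣ Nat.card C := by
  obtain ⟨E, hE'⟩ := hs e
  obtain ⟨S, hS'⟩ := hs s
  obtain ⟨T, hT'⟩ := hs t
  have hE : E * E = 1 := g1 E hE'
  have hS : S * S = 1 := g2 S hS'
  have hT : T * T = 1 := g3 T hT'
  have hSi : S⁻¹ = S := inv_eq_of_mul_eq_one_right hS
  have hTi : T⁻¹ = T := inv_eq_of_mul_eq_one_right hT
  -- conjugations by S and T are multiplicative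
  have cS : ∀ x y : Γ, S * (x * y) * S = (S * x * S) * (S * y * S) := by
    intro x y
    calc S * (x * y) * S = S * x * (1 : Γ) * (y * S) := by group
      _ = S * x * (S * S) * (y * S) := by rw [hS]
      _ = _ := by group
  have cT : ∀ x y : Γ, T * (x * y) * T = (T * x * T) * (T * y * T) := by
    intro x y
    calc T * (x * y) * T = T * x * (1 : Γ) * (y * T) := by group
      _ = T * x * (T * T) * (y * T) := by rw [hT]
      _ = _ := by group
  have cSS : ∀ x : Γ, S * (S * x * S) * S = x := by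
    intro x
    calc S * (S * x * S) * S = (S * S) * x * (S * S) := by group
      _ = x := by rw [hS, one_mul, mul_one]
  have cTT : ∀ x : Γ, T * (T * x * T) * T = x := by
    intro x
    calc T * (T * x * T) * T = (T * T) * x * (T * T) := by group
      _ = x := by rw [hT, one_mul, mul_one]
  -- U
  obtain ⟨U, hUdef⟩ : ∃ U, U = E * (T * E * T) := ⟨_, rfl⟩
  have hU' : σ U = u := by rw [hUdef, hu]; simp only [map_mul, hE', hT']
  have hU : U * U = 1 := g4 U hU'
  have hTETsq : (T * E * T) * (T * E * T) = 1 := by rw [← cT, hE, mul_one, hT]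
  have hETET : E * (T * E * T) = (T * E * T) * E := comm3 hE hTETsq (by rw [← hUdef]; exact hU)
  have hTE : T * E * T = E * U := by
    rw [hUdef, ← mul_assoc E E, hE, one_mul]
  have hTU : T * U * T = U := by
    rw [hUdef, cT, cTT, ← hETET]
  have hEU : E * U = U * E := by
    rw [hUdef]; exact ((Commute.refl E).mul_right hETET).eq
  -- W
  obtain ⟨W, hWdef⟩ : ∃ W, W = U * (S * U * S) := ⟨_, rfl⟩
  have hW' : σ W = w := by rw [hWdef, hw]; simp only [map_mul, hU', hS']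
  have hW : W * W = 1 := g5 W hW'
  have hSUSsq : (S * U * S) * (S * U * S) = 1 := by rw [← cS, hU, mul_one, hS]
  have hUSUS : U * (S * U * S) = (S * U * S) * U := comm3 hU hSUSsq (by rw [← hWdef]; exact hW)
  have hSU : S * U * S = U * W := by rw [hWdef, ← mul_assoc U U, hU, one_mul]
  have hSW : S * W * S = W := by rw [hWdef, cS, cSS, ← hUSUS]
  have hUW : U * W = W * U := by
    rw [hWdef]; exact ((Commute.refl U).mul_right hUSUS).eq
  -- Z
  obtain ⟨Z, hZdef⟩ : ∃ Z, Z = W * (T * W * T) := ⟨_, rfl⟩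
  have hZ' : σ Z = z := by rw [hZdef, hz]; simp only [map_mul, hW', hT']
  have hZ : Z * Z = 1 := g6 Z hZ'
  have hTWTsq : (T * W * T) * (T * W * T) = 1 := by rw [← cT, hW, mul_one, hT]
  have hWTWT : W * (T * W * T) = (T * W * T) * W := comm3 hW hTWTsq (by rw [← hZdef]; exact hZ)
  have hTW : T * W * T = W * Z := by rw [hZdef, ← mul_assoc W W, hW, one_mul]
  have hTZ : T * Z * T = Z := by rw [hZdef, cT, cTT, ← hWTWT]
  have hWZ : W * Z = Z * W := by
    rw [hZdef]; exact ((Commute.refl W).mul_right hWTWT).eq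
  have hEW : E * W = W * E := good_comm g1 g5 g7 hE' hW'
  have hEZ : E * Z = Z * E := good_comm g1 g6 g8 hE' hZ'
  have hUZ : U * Z = Z * U := good_comm g4 g6 g9 hU' hZ'
  have hSZc : S * Z = Z * S := good_comm g2 g6 g10 hS' hZ'
  have hSZ : S * Z * S = Z := by rw [hSZc, mul_assoc, hS, mul_one]
  -- the rotation
  obtain ⟨ρ, hρ⟩ : ∃ ρ, ρ = S * T * S * T := ⟨_, rfl⟩
  have hρ2 : ρ * ρ = 1 := g11 ρ (by rw [hρ]; simp only [map_mul, hS', hT'])
  have hρc : ∀ x : Γ, ρ * x = (S * (T * (S * (T * x * T) * S) * T) * S) * ρ := by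
    intro x
    rw [hρ]
    calc S * T * S * T * x = S * T * S * T * x * ((T * T)) := by rw [hT, mul_one]
      _ = S * T * S * T * x * (T * (1 : Γ) * T) := by group
      _ = S * T * S * T * x * (T * (S * S) * T) := by rw [hS]
      _ = S * T * S * T * x * (T * S * (1 : Γ) * S * T) := by group
      _ = S * T * S * T * x * (T * S * (T * T) * S * T) := by rw [hT]
      _ = S * T * S * T * x * (T * S * T * (1 : Γ) * T * S * T) := by group
      _ = S * T * S * T * x * (T * S * T * (S * S) * T * S * T) := by rw [hS]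
      _ = _ := by group
  have hρZ : ρ * Z = Z * ρ := by rw [hρc, hTZ, hSZ, hTZ, hSZ]
  have hρW : ρ * W = W * ρ := by
    rw [hρc, hTW, cS W Z, hSW, hSZ, cT W Z, hTW, hTZ, mul_assoc W Z Z, hZ, mul_one, hSW]
  have hρU : ρ * U = U * Z * ρ := by
    rw [hρc, hTU, hSU, cT U W, hTU, hTW, cS U (W * Z), hSU, cS W Z, hSW, hSZ]
    rw [← mul_assoc (U * W) W Z, mul_assoc U W W, hW, mul_one]
  -- the defect
  obtain ⟨c, hcdef⟩ : ∃ c, S * E * S = E * Z * c := ⟨(E * Z)⁻¹ * (S * E * S), by group⟩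
  have hc1 : σ c = 1 := by
    have h := congrArg σ hcdef
    simp only [map_mul, hS', hE', hZ'] at h
    rw [hse] at h
    exact (mul_eq_left.1 h.symm)
  have hcc : c * c = 1 := sq hc hc1
  have hcen : ∀ g : Γ, g * c = c * g := fun g => cen hc hc1 g
  have hA2 : (E * S) * (E * S) = Z * c := by
    calc (E * S) * (E * S) = E * (S * E * S) := by group
      _ = E * (E * Z * c) := by rw [hcdef]
      _ = (E * E) * (Z * c) := by group
      _ = Z * c := by rw [hE, one_mul]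
  have hdu : Commute (Z * c) U := (Commute.mul_left (show Commute Z U from hUZ.symm) (show Commute c U from (hcen U).symm))
  have hdw : Commute (Z * c) W := (Commute.mul_left (show Commute Z W from hWZ.symm) (show Commute c W from (hcen W).symm))
  have hdr : Commute (Z * c) ρ := (Commute.mul_left (show Commute Z ρ from hρZ.symm) (show Commute c ρ from (hcen ρ).symm))
  have hdd : (Z * c) * (Z * c) = 1 := by
    calc (Z * c) * (Z * c) = Z * (c * Z) * c := by group
      _ = Z * (Z * c) * c := by rw [hcen Z]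
      _ = (Z * Z) * (c * c) := by group
      _ = 1 := by rw [hZ, hcc, one_mul]
  have hprod : (E * S) * (T * (E * S) * T) = (U * W) * (Z * c) * ρ := by
    have h1 : (E * S) * (T * (E * S) * T) = E * (S * (T * E * T) * S) * ρ := by
      calc (E * S) * (T * (E * S) * T) = E * S * T * E * (1 : Γ) * S * T := by group
        _ = E * S * T * E * (T * T) * S * T := by rw [hT]
        _ = E * S * T * E * T * (1 : Γ) * T * S * T := by group
        _ = E * S * T * E * T * (S * S) * T * S * T := by rw [hS]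
        _ = E * (S * (T * E * T) * S) * (S * T * S * T) := by group
        _ = _ := by rw [hρ]
    rw [h1, hTE, cS E U, hcdef, hSU]
    calc E * (E * Z * c * (U * W)) * ρ = (E * E) * ((Z * c) * (U * W)) * ρ := by group
      _ = (Z * c) * (U * W) * ρ := by rw [hE, one_mul]
      _ = _ := by rw [(hdu.mul_right hdw).eq]
  have hAB2 : ((E * S) * (T * (E * S) * T)) * ((E * S) * (T * (E * S) * T)) = Z := by
    rw [hprod]
    calc (U * W) * (Z * c) * ρ * ((U * W) * (Z * c) * ρ) = (U * W) * ((Z * c) * (ρ * (U * W))) * ((Z * c) * ρ) := by group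
      _ = (U * W) * ((Z * c) * (U * Z * W * ρ)) * ((Z * c) * ρ) := by
        rw [← mul_assoc ρ U W, hρU, mul_assoc (U * Z) ρ W, hρW, ← mul_assoc (U * Z) W ρ]
      _ = (U * W) * ((U * Z * W * ρ) * (Z * c)) * ((Z * c) * ρ) := by
        have : Commute (Z * c) (U * Z * W * ρ) := by
          refine ((hdu.mul_right ?_).mul_right hdw).mul_right hdr
          exact (Commute.mul_left (Commute.refl Z) (hcen Z).symm)
        rw [this.eq]
      _ = (U * W) * (U * Z * W * ρ) * ((Z * c) * (Z * c)) * ρ := by group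
      _ = (U * W) * (U * Z * W) * (ρ * ρ) := by rw [hdd]; group
      _ = (U * W) * (U * (Z * W)) := by rw [hρ2]; group
      _ = (U * (W * U)) * (W * Z) := by rw [← hWZ]; group
      _ = (U * (U * W)) * (W * Z) := by rw [hUW]
      _ = (U * U) * (W * W) * Z := by group
      _ = Z := by rw [hU, hW, one_mul, one_mul]
  have hc1' : c = 1 := by
    have h1 := hAB (E * S) (T * (E * S) * T) (by rw [map_mul, hE', hS']) (by simp only [map_mul, hE', hS', hT'])
    have h2 : ((E * S) * (T * (E * S) * T)) * ((E * S) * (T * (E * S) * T)) = Z * c := by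
      calc ((E * S) * (T * (E * S) * T)) * ((E * S) * (T * (E * S) * T))
          = ((E * S) * (T * (E * S) * T) * (E * S)) * (T * (E * S) * T) := by group
        _ = (T * (E * S) * T) * (T * (E * S) * T) := by rw [h1]
        _ = T * ((E * S) * (E * S)) * T := (cT _ _).symm
        _ = T * (Z * c) * T := by rw [hA2]
        _ = (T * Z * T) * (T * c * T) := cT _ _
        _ = Z * (c * (T * T)) := by rw [hTZ, hcen T, mul_assoc]
        _ = Z * c := by rw [hT, mul_one]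
    rw [hAB2] at h2
    exact (mul_eq_left.1 h2.symm)
  have hSE : S * E * S = E * Z := by rw [hcdef, hc1', mul_one]
  -- conjugation by R = T S T
  obtain ⟨R, hR⟩ : ∃ R, R = T * S * T := ⟨_, rfl⟩
  have hRR : R * R = 1 := by
    rw [hR]
    calc T * S * T * (T * S * T) = T * S * (T * T) * S * T := by group
      _ = T * (S * S) * T := by rw [hT]; group
      _ = 1 := by rw [hS, mul_one, hT]
  have hRi : R⁻¹ = R := inv_eq_of_mul_eq_one_right hRR
  have cR : ∀ x : Γ, R * x * R = T * (S * (T * x * T) * S) * T := by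
    intro x; rw [hR]; group
  have hRZ : R * Z * R = Z := by rw [cR, hTZ, hSZ, hTZ]
  have hRW : R * W * R = W := by
    rw [cR, hTW, cS W Z, hSW, hSZ, cT W Z, hTW, hTZ, mul_assoc W Z Z, hZ, mul_one]
  have hRU : R * U * R = U * (W * Z) := by
    rw [cR, hTU, hSU, cT U W, hTU, hTW]
  have hRE : R * E * R = E * W := by
    rw [cR, hTE, cS E U, hSE, hSU, cT (E * Z) (U * W), cT E Z, cT U W, hTE, hTZ, hTU, hTW]
    calc E * U * Z * (U * (W * Z)) = E * (U * (Z * U)) * (W * Z) := by group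
      _ = E * (U * (U * Z)) * (W * Z) := by rw [hUZ]
      _ = E * (U * U) * (Z * (W * Z)) := by group
      _ = E * (Z * (Z * W)) := by rw [hU, hWZ, mul_one]
      _ = E * ((Z * Z) * W) := by group
      _ = E * W := by rw [hZ, one_mul]
  have hRS : R * S * R = S := by
    have h1 : (S * R) * (S * R) = 1 := by
      have : S * R = ρ := by rw [hR, hρ]; group
      rw [this, hρ2]
    have h2 : S * (R * S * R) = 1 := by rw [← h1]; group
    have h3 : R * S * R = S⁻¹ := (inv_eq_of_mul_eq_one_right h2).symm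
    rw [h3, hSi]
  have hTS : T * S * T = R := hR.symm
  have hTR : T * R * T = S := by rw [hR, cTT]
  -- images
  have hR' : σ R = t * s * t := by rw [hR]; simp only [map_mul, hS', hT']
  -- the chain
  have N0 : Split σ (⊥ : Subgroup Γ) := fun x hx _ => mem_bot.1 hx
  have le0 : ∀ F : Subgroup G, (⊥ : Subgroup Γ) ≤ F.comap σ := fun F => bot_le
  have step : ∀ {N : Subgroup Γ} {F : Subgroup G} {r : Γ}, N ≤ F.comap σ → σ r ∈ F → N ⊔ zpowers r ≤ F.comap σ := by
    intro N F r h1 h2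
    rw [sup_le_iff, zpowers_le]
    exact ⟨h1, h2⟩
  have n0 : ∀ g : Γ, ∀ x ∈ (⊥ : Subgroup Γ), g * x * g⁻¹ ∈ (⊥ : Subgroup Γ) := by
    intro g x hx
    rw [mem_bot] at hx ⊢
    rw [hx]; group
  -- step Z
  obtain ⟨s1, k1⟩ := split_step Nat.prime_two N0 (r := Z) (n0 Z) (by rw [pow_two, hZ]; exact one_mem _) (by
    intro x hx h
    rw [mem_bot.1 hx, map_one, hZ'] at h
    exact f1 h)
  set N1 := (⊥ : Subgroup Γ) ⊔ zpowers Z with hN1
  have m1 : Z ∈ N1 := mem_sup_right (mem_zpowers _)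
  have c1 : ∀ g : Γ, g * Z * g⁻¹ = Z → ∀ x ∈ N1, g * x * g⁻¹ ∈ N1 := fun g h =>
    conj_sup (n0 g) (by rw [h]; exact m1)
  -- step W
  obtain ⟨F2, a1, a2⟩ := f2
  obtain ⟨s2, k2⟩ := split_step Nat.prime_two s1 (r := W) (c1 W (by rw [hWZ]; group))
    (by rw [pow_two, hW]; exact one_mem _) (ne_of_sep (F := F2) (step (le0 _) (by rw [hZ']; exact a1)) (by rw [hW']; exact a2))
  set N2 := N1 ⊔ zpowers W with hN2
  have m2 : W ∈ N2 := mem_sup_right (mem_zpowers _)
  have c2 : ∀ g : Γ, g * Z * g⁻¹ = Z → g * W * g⁻¹ ∈ N2 → ∀ x ∈ N2, g * x * g⁻¹ ∈ N2 := fun g h h' =>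
    conj_sup (c1 g h) h'
  -- step U
  obtain ⟨F3, b1, b2, b3⟩ := f3
  obtain ⟨s3, k3⟩ := split_step Nat.prime_two s2 (r := U) (c2 U (by rw [hUZ]; group) (by
      rw [hUW, mul_assoc, mul_inv_cancel, mul_one]; exact m2))
    (by rw [pow_two, hU]; exact one_mem _) (ne_of_sep (F := F3) (step (step (le0 _) (by rw [hZ']; exact b1))
      (by rw [hW']; exact b2)) (by rw [hU']; exact b3))
  set N3 := N2 ⊔ zpowers U with hN3
  have m3 : U ∈ N3 := mem_sup_right (mem_zpowers _)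
  have l23 : N2 ≤ N3 := le_sup_left
  have l12 : N1 ≤ N2 := le_sup_left
  have c3 : ∀ g : Γ, g * Z * g⁻¹ = Z → g * W * g⁻¹ ∈ N2 → g * U * g⁻¹ ∈ N3 → ∀ x ∈ N3, g * x * g⁻¹ ∈ N3 :=
    fun g h h' h'' => conj_sup (c2 g h h') h''
  -- step E
  obtain ⟨F4, d1, d2, d3, d4⟩ := f4
  obtain ⟨s4, k4⟩ := split_step Nat.prime_two s3 (r := E) (c3 E (by rw [hEZ]; group) (by
      rw [hEW, mul_assoc, mul_inv_cancel, mul_one]; exact m2) (by
      rw [hEU, mul_assoc, mul_inv_cancel, mul_one]; exact m3))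
    (by rw [pow_two, hE]; exact one_mem _) (ne_of_sep (F := F4) (step (step (step (le0 _) (by rw [hZ']; exact d1))
      (by rw [hW']; exact d2)) (by rw [hU']; exact d3)) (by rw [hE']; exact d4))
  set N4 := N3 ⊔ zpowers E with hN4
  have m4 : E ∈ N4 := mem_sup_right (mem_zpowers _)
  have l34 : N3 ≤ N4 := le_sup_left
  have c4 : ∀ g : Γ, g * Z * g⁻¹ = Z → g * W * g⁻¹ ∈ N2 → g * U * g⁻¹ ∈ N3 → g * E * g⁻¹ ∈ N4 →
      ∀ x ∈ N4, g * x * g⁻¹ ∈ N4 :=
    fun g h h' h'' h3 => conj_sup (c3 g h h' h'') h3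
  -- step S
  obtain ⟨F5, p1, p2, p3, p4, p5⟩ := f5
  obtain ⟨s5, k5⟩ := split_step Nat.prime_two s4 (r := S) (c4 S (by rw [hSi, hSZ]) (by
      rw [hSi, hSW]; exact m2) (by rw [hSi, hSU]; exact mul_mem m3 (l23 m2)) (by
      rw [hSi, hSE]; exact mul_mem m4 (l34 (l23 (l12 m1)))))
    (by rw [pow_two, hS]; exact one_mem _) (ne_of_sep (F := F5) (step (step (step (step (le0 _) (by rw [hZ']; exact p1))
      (by rw [hW']; exact p2)) (by rw [hU']; exact p3)) (by rw [hE']; exact p4)) (by rw [hS']; exact p5))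
  set N5 := N4 ⊔ zpowers S with hN5
  have m5 : S ∈ N5 := mem_sup_right (mem_zpowers _)
  have l45 : N4 ≤ N5 := le_sup_left
  have c5 : ∀ g : Γ, g * Z * g⁻¹ = Z → g * W * g⁻¹ ∈ N2 → g * U * g⁻¹ ∈ N3 → g * E * g⁻¹ ∈ N4 → g * S * g⁻¹ ∈ N5 →
      ∀ x ∈ N5, g * x * g⁻¹ ∈ N5 :=
    fun g h h' h'' h3 h4 => conj_sup (c4 g h h' h'' h3) h4
  -- step R
  obtain ⟨F6, q1, q2, q3, q4, q5, q6⟩ := f6
  obtain ⟨s6, k6⟩ := split_step Nat.prime_two s5 (r := R) (c5 R (by rw [hRi, hRZ]) (by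
      rw [hRi, hRW]; exact m2) (by rw [hRi, hRU]; exact mul_mem m3 (l23 (mul_mem m2 (l12 m1)))) (by
      rw [hRi, hRE]; exact mul_mem m4 (l34 (l23 m2))) (by rw [hRi, hRS]; exact m5))
    (by rw [pow_two, hRR]; exact one_mem _) (ne_of_sep (F := F6) (step (step (step (step (step (le0 _)
      (by rw [hZ']; exact q1)) (by rw [hW']; exact q2)) (by rw [hU']; exact q3)) (by rw [hE']; exact q4))
      (by rw [hS']; exact q5)) (by rw [hR']; exact q6))
  set N6 := N5 ⊔ zpowers R with hN6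
  have m6 : R ∈ N6 := mem_sup_right (mem_zpowers _)
  have l56 : N5 ≤ N6 := le_sup_left
  have c6 : ∀ g : Γ, g * Z * g⁻¹ = Z → g * W * g⁻¹ ∈ N2 → g * U * g⁻¹ ∈ N3 → g * E * g⁻¹ ∈ N4 → g * S * g⁻¹ ∈ N6 →
      g * R * g⁻¹ ∈ N6 → ∀ x ∈ N6, g * x * g⁻¹ ∈ N6 := by
    intro g h h' h'' h3 h4 h5
    have hle : N6 ≤ N6.comap (MulAut.conj g).toMonoidHom := by
      rw [hN6, sup_le_iff, zpowers_le, ← hN6]
      refine ⟨?_, mem_comap.2 h5⟩
      rw [hN5, sup_le_iff, zpowers_le]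
      refine ⟨fun x hx => mem_comap.2 (l56 (l45 (c4 g h h' h'' h3 x hx))), mem_comap.2 h4⟩
    exact fun x hx => hle hx
  -- step T
  obtain ⟨F7, r1, r2, r3, r4, r5, r6, r7⟩ := f7
  obtain ⟨s7, k7⟩ := split_step Nat.prime_two s6 (r := T) (c6 T (by rw [hTi, hTZ]) (by
      rw [hTi, hTW]; exact mul_mem m2 (l12 m1)) (by rw [hTi, hTU]; exact m3) (by
      rw [hTi, hTE]; exact mul_mem m4 (l34 m3)) (by rw [hTi, hTS]; exact m6) (by rw [hTi, hTR]; exact l56 m5))
    (by rw [pow_two, hT]; exact one_mem _) (ne_of_sep (F := F7) (step (step (step (step (step (step (le0 _)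
      (by rw [hZ']; exact r1)) (by rw [hW']; exact r2)) (by rw [hU']; exact r3)) (by rw [hE']; exact r4))
      (by rw [hS']; exact r5)) (by rw [hR']; exact r6)) (by rw [hT']; exact r7))
  refine ⟨_, s7, ?_⟩
  have h1 : (1 : ℕ) * 2 ∣ Nat.card N1 := by simpa using k1
  have h2 := dvd_trans (Nat.mul_dvd_mul_right h1 2) k2
  have h3 := dvd_trans (Nat.mul_dvd_mul_right h2 2) k3
  have h4 := dvd_trans (Nat.mul_dvd_mul_right h3 2) k4
  have h5 := dvd_trans (Nat.mul_dvd_mul_right h4 2) k5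
  have h6 := dvd_trans (Nat.mul_dvd_mul_right h5 2) k6
  have h7 := dvd_trans (Nat.mul_dvd_mul_right h6 2) k7
  exact h7

/-- a character of `Γ` nontrivial on the kernel -/
theorem exists_char (hs : Function.Surjective σ) (hc : Nat.card σ.ker = 2) {C : Subgroup Γ} (hC : Split σ C)
    (h128 : 128 ∣ Nat.card C) (hG : ¬ 256 ∣ Nat.card G) [Finite G] :
    ∃ χ : Γ → ZMod 2, (∀ g h, χ (g * h) = χ g + χ h) ∧ ∀ w, σ w = 1 → w ≠ 1 → χ w = 1 := by
  have hcard : Nat.card (C.map σ) = Nat.card C := by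
    refine Nat.card_congr (Equiv.ofBijective (fun x : C => (⟨σ x.1, mem_map_of_mem σ x.2⟩ : C.map σ)) ⟨?_, ?_⟩).symm
    · intro x y hxy
      have h2 : σ x.1 = σ y.1 := congrArg Subtype.val hxy
      have h3 := hC (y.1⁻¹ * x.1) (C.mul_mem (C.inv_mem y.2) x.2) (by rw [map_mul, map_inv, h2, inv_mul_cancel])
      exact Subtype.ext (inv_mul_eq_one.mp h3).symm
    · rintro ⟨_, x, hx, rfl⟩
      exact ⟨⟨x, hx⟩, rfl⟩
  set U : Subgroup Γ := (C.map σ).comap σ with hU
  have hidx : U.index = (C.map σ).index := index_comap_of_surjective _ hs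
  have hodd : ¬ 2 ∣ U.index := by
    intro h
    apply hG
    rw [hidx] at h
    rw [← (C.map σ).card_mul_index, hcard]
    exact Nat.mul_dvd_mul h128 h
  have hcomm : IsMulCommutative σ.ker := ⟨⟨fun a b => Subtype.ext (cen hc b.2 a.1)⟩⟩
  have hcop : (Nat.card σ.ker).Coprime U.index := by
    rw [hc]
    exact (Nat.Prime.coprime_iff_not_dvd Nat.prime_two).2 hodd
  have hAU : C ≤ U := le_comap_map σ C
  have hAK : C ⊓ σ.ker = ⊥ := by
    rw [eq_bot_iff]
    rintro x ⟨hx1, hx2⟩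
    exact mem_bot.2 (hC x hx1 hx2)
  have hKA : σ.ker ⊔ C = U := by
    rw [hU, comap_map_eq, sup_comm]
  obtain ⟨H, hH⟩ := H2.Gaschutz.exists_complement σ.ker U hcop C hAU hAK hKA
  have hH2 : H.index = 2 := by rw [hH.index_eq_card, hc]
  classical
  refine ⟨fun g => if g ∈ H then 0 else 1, ?_, ?_⟩
  · intro g h
    have hmem := mul_mem_iff_of_index_two hH2 (a := g) (b := h)
    show (if g * h ∈ H then (0 : ZMod 2) else 1) = (if g ∈ H then 0 else 1) + (if h ∈ H then 0 else 1)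
    by_cases h1 : g ∈ H <;> by_cases h2 : h ∈ H
    · rw [if_pos (hmem.2 ⟨fun _ => h2, fun _ => h1⟩), if_pos h1, if_pos h2]; decide
    · rw [if_neg (fun h' => h2 ((hmem.1 h').1 h1)), if_pos h1, if_neg h2]; decide
    · rw [if_neg (fun h' => h1 ((hmem.1 h').2 h2)), if_neg h1, if_pos h2]; decide
    · rw [if_pos (hmem.2 ⟨fun h' => absurd h' h1, fun h' => absurd h' h2⟩), if_neg h1, if_neg h2]; decide
  · intro w hw hw1
    show (if w ∈ H then (0 : ZMod 2) else 1) = 1
    rw [if_neg]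
    intro hwH
    have h3 : w ∈ σ.ker ⊓ H := ⟨hw, hwH⟩
    rw [hH.disjoint.eq_bot] at h3
    exact hw1 (mem_bot.1 h3)

end H49.CE
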