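import Cfsg.Agent.Lib.H49.PL2
import Cfsg.Prelude.Def_Spor_Mathieu

/-!
The extension of `M23` by the dual of the even-at-infinity Golay code, from the Parker loop.
-/

set_option autoImplicit false

namespace H49.PL

open Cfsg H8.GolayCode H8.GolayCount H8.GolayBasic H8.M24Mem H93.GolayMod

/-- code words vanishing at the extra point -/
def C0 : Submodule (ZMod 2) (GolayPt → ZMod 2) := golayCode ⊓ LinearMap.ker (LinearMap.proj (none : GolayPt))

theorem mem_C0 {w : GolayPt → ZMod 2} : w ∈ C0 ↔ w ∈ golayCode ∧ w none = 0 := Iff.rfl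

theorem comp_mem {σ : Equiv.Perm GolayPt} (hσ : σ ∈ Spor.M23) {w : GolayPt → ZMod 2} (hw : w ∈ C0) :
    w ∘ σ ∈ C0 := by
  refine mem_C0.2 ⟨?_, ?_⟩
  · exact sh_mem (M24.inv_mem hσ.1) hw.1
  · have h : σ none = none := hσ.2
    show w (σ none) = 0
    rw [h]; exact hw.2

/-- the action on the words vanishing at the extra point -/
def pre (g : Spor.M23) (x : C0) : C0 := ⟨x.1 ∘ (g : Equiv.Perm GolayPt), comp_mem g.2 x.2⟩

theorem pre_add (g : Spor.M23) (x y : C0) : pre g (x + y) = pre g x + pre g y := rfl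

theorem pre_mul (g h : Spor.M23) (x : C0) : pre (g * h) x = pre h (pre g x) := rfl

theorem pre_one (x : C0) : pre 1 x = x := rfl

theorem pre_inv_pre (g : Spor.M23) (x : C0) : pre g⁻¹ (pre g x) = x := by
  rw [← pre_mul, mul_inv_cancel, pre_one]

theorem pre_pre_inv (g : Spor.M23) (x : C0) : pre g (pre g⁻¹ x) = x := by
  rw [← pre_mul, inv_mul_cancel, pre_one]

/-- the defect cocycle -/
def bt (g : Spor.M23) (x y : C0) : ZMod 2 := th x.1 y.1 + th (pre g x).1 (pre g y).1

theorem z2 (a : ZMod 2) : a + a = 0 := by revert a; decide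

theorem bt_one (x y : C0) : bt 1 x y = 0 := z2 _

theorem bt_mul (g h : Spor.M23) (x y : C0) : bt (g * h) x y = bt g x y + bt h (pre g x) (pre g y) := by
  unfold bt
  rw [pre_mul, pre_mul]
  linear_combination (-1 : ZMod 2) * z2 (th (pre g x).1 (pre g y).1)

/-- the extension -/
structure Ext where
  g : Spor.M23
  F : C0 → ZMod 2
  h : ∀ x y, F (x + y) = F x + F y + bt g x y

theorem Ext.ext' {a b : Ext} (h1 : a.g = b.g) (h2 : ∀ x, a.F x = b.F x) : a = b := by
  cases a; cases b
  simp only at h1 h2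
  subst h1
  have := funext h2
  subst this
  rfl

instance : Mul Ext := ⟨fun a b => ⟨a.g * b.g, fun x => a.F x + b.F (pre a.g x), fun x y => by
  rw [pre_add, a.h, b.h, bt_mul]; ring⟩⟩

instance : One Ext := ⟨⟨1, fun _ => 0, fun x y => by rw [bt_one]; simp⟩⟩

instance : Inv Ext := ⟨fun a => ⟨a.g⁻¹, fun x => a.F (pre a.g⁻¹ x), fun x y => by
  rw [pre_add, a.h]
  unfold bt
  rw [pre_pre_inv, pre_pre_inv]
  ring⟩⟩

theorem mul_g (a b : Ext) : (a * b).g = a.g * b.g := rfl
theorem mul_F (a b : Ext) (x : C0) : (a * b).F x = a.F x + b.F (pre a.g x) := rfl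
theorem one_g : (1 : Ext).g = 1 := rfl
theorem one_F (x : C0) : (1 : Ext).F x = 0 := rfl
theorem inv_g (a : Ext) : (a⁻¹).g = a.g⁻¹ := rfl
theorem inv_F (a : Ext) (x : C0) : (a⁻¹).F x = a.F (pre a.g⁻¹ x) := rfl

instance : Group Ext := Group.ofLeftAxioms
  (fun a b c => Ext.ext' (by simp only [mul_g, mul_assoc]) (fun x => by
    simp only [mul_F, mul_g, pre_mul, add_assoc]))
  (fun a => Ext.ext' (by simp only [mul_g, one_g, one_mul]) (fun x => by
    simp only [mul_F, one_F, one_g, pre_one, zero_add]))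
  (fun a => Ext.ext' (by simp only [mul_g, one_g, inv_g, inv_mul_cancel]) (fun x => by
    simp only [mul_F, inv_F, inv_g, one_F, z2]))

instance : Finite Ext := by
  have : Function.Injective (fun a : Ext => (a.g, a.F)) := by
    intro a b hab
    simp only [Prod.mk.injEq] at hab
    exact Ext.ext' hab.1 fun x => by rw [hab.2]
  exact Finite.of_injective _ this

/-- projection to `M23` -/
def proj : Ext →* Spor.M23 where
  toFun := Ext.g
  map_one' := rfl
  map_mul' _ _ := rfl

theorem card_support_comp (σ : Equiv.Perm GolayPt) (w : GolayPt → ZMod 2) :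
    (support₂ (w ∘ σ)).card = (support₂ w).card := by
  have : support₂ w = (support₂ (w ∘ σ)).map σ.toEmbedding := by
    ext p
    simp only [support₂, Finset.mem_filter, Finset.mem_univ, true_and, Finset.mem_map, Equiv.coe_toEmbedding,
      Function.comp_apply]
    constructor
    · intro h
      exact ⟨σ.symm p, by rwa [σ.apply_symm_apply], σ.apply_symm_apply p⟩
    · rintro ⟨q, hq, rfl⟩
      exact hq
  rw [this, Finset.card_map]

theorem T3_comp (σ : Equiv.Perm GolayPt) (x y z : GolayPt → ZMod 2) : T3 (x ∘ σ) (y ∘ σ) (z ∘ σ) = T3 x y z := by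
  unfold T3
  exact Equiv.sum_comp σ (fun p => x p * y p * z p)

theorem bt_zero (g : Spor.M23) : bt g 0 0 = 0 := z2 (th (0 : GolayPt → ZMod 2) 0)

theorem bt_cocycle (g : Spor.M23) (x y z : C0) : bt g x y + bt g (x + y) z = bt g y z + bt g x (y + z) := by
  unfold bt
  have hx := x.2.1
  have hy := y.2.1
  have hz := z.2.1
  have hx' := (pre g x).2.1
  have hy' := (pre g y).2.1
  have hz' := (pre g z).2.1
  rw [pre_add, pre_add]
  show th x.1 y.1 + th (pre g x).1 (pre g y).1 + (th (x.1 + y.1) z.1 + th ((pre g x).1 + (pre g y).1) (pre g z).1)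
    = th y.1 z.1 + th (pre g y).1 (pre g z).1 + (th x.1 (y.1 + z.1) + th (pre g x).1 ((pre g y).1 + (pre g z).1))
  rw [th_add_left hx hy hz, th_add_left hx' hy' hz', th_add_right, th_add_right]
  have hT : T3 (pre g x).1 (pre g y).1 (pre g z).1 = T3 x.1 y.1 z.1 := T3_comp _ _ _ _
  rw [hT]
  linear_combination z2 (T3 x.1 y.1 z.1)

theorem bt_self (g : Spor.M23) (x : C0) : bt g x x = 0 := by
  unfold bt
  rw [th_self x.2.1, th_self (pre g x).2.1]
  have : qq (pre g x).1 = qq x.1 := by
    unfold qq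
    rw [show (pre g x).1 = x.1 ∘ (g : Equiv.Perm GolayPt) from rfl, card_support_comp]
  rw [this]
  exact z2 _

theorem proj_surjective : Function.Surjective proj := by
  intro g
  obtain ⟨F, hF⟩ := exists_coboundary (bt g) (bt_zero g) (bt_cocycle g) (bt_self g)
  exact ⟨⟨g, F, hF⟩, rfl⟩

/-- the functional given by a word -/
def fw (w : GolayPt → ZMod 2) (x : C0) : ZMod 2 := ∑ p, w p * x.1 p

theorem fw_add_right (w : GolayPt → ZMod 2) (x y : C0) : fw w (x + y) = fw w x + fw w y := by
  unfold fw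
  rw [← Finset.sum_add_distrib]
  exact Finset.sum_congr rfl fun p _ => by
    rw [show (x + y).1 p = x.1 p + y.1 p from rfl, mul_add]

theorem fw_add_left (w w' : GolayPt → ZMod 2) (x : C0) : fw (w + w') x = fw w x + fw w' x := by
  unfold fw
  rw [← Finset.sum_add_distrib]
  exact Finset.sum_congr rfl fun p _ => by rw [Pi.add_apply, add_mul]

/-- the element of the extension given by a word -/
def el (w : GolayPt → ZMod 2) : Ext := ⟨1, fw w, fun x y => by rw [fw_add_right, bt_one, add_zero]⟩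

theorem el_mem (w : GolayPt → ZMod 2) : el w ∈ proj.ker := rfl

theorem el_add (w w' : GolayPt → ZMod 2) : el (w + w') = el w * el w' :=
  Ext.ext' (by rw [mul_g]; exact (mul_one _).symm) fun x => fw_add_left w w' x

/-- the homomorphism from words -/
def Th : (GolayPt → ZMod 2) →+ Additive ↥(proj.ker) :=
  AddMonoidHom.mk' (fun w => Additive.ofMul ⟨el w, el_mem w⟩) (fun w w' => by
    apply Additive.toMul.injective
    apply Subtype.ext
    exact el_add w w')

theorem Th_coe (w : GolayPt → ZMod 2) : ((Th w).toMul : Ext) = el w := rfl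

theorem Th_surjective : Function.Surjective Th := by
  intro n
  obtain ⟨m, hm⟩ : ∃ m : ↥(proj.ker), Additive.ofMul m = n := ⟨n.toMul, rfl⟩
  have hg : m.1.g = 1 := m.2
  have hadd : ∀ x y, m.1.F (x + y) = m.1.F x + m.1.F y := by
    intro x y
    rw [m.1.h, hg, bt_one, add_zero]
  obtain ⟨f, hf⟩ := LinearMap.exists_extend (AddMonoidHom.toZModLinearMap 2 (AddMonoidHom.mk' m.1.F hadd))
  refine ⟨fun p => f (Pi.single p 1), ?_⟩
  rw [← hm]
  apply Additive.toMul.injective
  apply Subtype.ext
  show el (fun p => f (Pi.single p 1)) = m.1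
  apply Ext.ext'
  · exact hg.symm
  · intro x
    show ∑ p, f (Pi.single p 1) * x.1 p = m.1.F x
    have h1 : f x.1 = m.1.F x := congrArg (fun l : C0 →ₗ[ZMod 2] ZMod 2 => l x) hf
    rw [← h1]
    have h2 : x.1 = ∑ p, x.1 p • (Pi.single p 1 : GolayPt → ZMod 2) := by
      funext q
      rw [Finset.sum_apply, Finset.sum_eq_single q]
      · simp
      · intro b _ hb
        rw [Pi.smul_apply, Pi.single_eq_of_ne hb.symm, smul_zero]
      · intro h; exact absurd (Finset.mem_univ _) h
    conv_rhs => rw [h2]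
    rw [map_sum]
    refine Finset.sum_congr rfl fun p _ => ?_
    rw [map_smul, smul_eq_mul, mul_comm]

theorem Th_eq_zero_iff' (w : GolayPt → ZMod 2) : Th w = 0 ↔ ∀ x : C0, ∑ p, w p * x.1 p = 0 := by
  constructor
  · intro h x
    have h1 : el w = 1 := by
      rw [← Th_coe, h]; rfl
    have h2 : (el w).F x = (1 : Ext).F x := by rw [h1]
    exact h2
  · intro h
    apply Additive.toMul.injective
    apply Subtype.ext
    show el w = 1
    exact Ext.ext' rfl h

theorem one_mem_golay : (fun _ => (1 : ZMod 2) : GolayPt → ZMod 2) ∈ golayCode := by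
  have h := wd_one_mem
  rw [← one_eq] at h
  exact h

theorem Th_eq_zero_iff (w : GolayPt → ZMod 2) :
    Th w = 0 ↔ (w ∈ golayCode ∨ w + Pi.single none 1 ∈ golayCode) := by
  have hs : ∀ x : GolayPt → ZMod 2, ∑ p, (Pi.single none 1 : GolayPt → ZMod 2) p * x p = x none := by
    intro x
    rw [Finset.sum_eq_single none]
    · rw [Pi.single_eq_same, one_mul]
    · intro b _ hb
      rw [Pi.single_eq_of_ne hb, zero_mul]
    · intro h; exact absurd (Finset.mem_univ _) h
  rw [Th_eq_zero_iff']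
  constructor
  · intro h
    have z01 : ∀ a : ZMod 2, a = 0 ∨ a = 1 := by decide
    -- decomposition of a code word
    have key : ∀ x ∈ golayCode, ∑ p, w p * x p = x none * ∑ p, w p := by
      intro x hx
      rcases z01 (x none) with h0 | h1
      · rw [h0, zero_mul]
        exact h ⟨x, hx, h0⟩
      · have h2 := h ⟨x + fun _ => (1 : ZMod 2), golayCode.add_mem hx one_mem_golay, by
          show x none + 1 = 0
          rw [h1]; decide⟩
        simp only [Pi.add_apply, mul_add, Finset.sum_add_distrib, mul_one] at h2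
        rw [h1, one_mul]
        linear_combination h2 - z2 (∑ p, w p)
    rcases z01 (∑ p, w p) with h0 | h1
    · left
      apply H93.GolayDual.mem_of_orth
      intro c hc
      have := key c hc
      rw [h0, mul_zero] at this
      rw [← this]
      exact Finset.sum_congr rfl fun p _ => mul_comm _ _
    · right
      apply H93.GolayDual.mem_of_orth
      intro c hc
      have h2 := key c hc
      rw [h1, mul_one] at h2
      have h3 : ∑ p, c p * (w + Pi.single none 1 : GolayPt → ZMod 2) p = ∑ p, w p * c p + ∑ p, (Pi.single none 1 : GolayPt → ZMod 2) p * c p := by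
        rw [← Finset.sum_add_distrib]
        exact Finset.sum_congr rfl fun p _ => by rw [Pi.add_apply]; ring
      rw [h3, h2, hs]
      exact z2 _
  · rintro (h | h) x
    · exact golay_orth h x.2.1
    · have h1 := golay_orth h x.2.1
      have h2 : ∑ p, (w + Pi.single none 1 : GolayPt → ZMod 2) p * x.1 p = ∑ p, w p * x.1 p + ∑ p, (Pi.single none 1 : GolayPt → ZMod 2) p * x.1 p := by
        rw [← Finset.sum_add_distrib]
        exact Finset.sum_congr rfl fun p _ => by rw [Pi.add_apply]; ring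
      have h3 : x.1 none = 0 := x.2.2
      rw [h2, hs, h3, add_zero] at h1
      exact h1

theorem el_conj (a : Ext) (w : GolayPt → ZMod 2) :
    el (w ∘ ⇑((a.g : Equiv.Perm GolayPt)⁻¹)) = a * el w * a⁻¹ := by
  apply Ext.ext'
  · rw [mul_g, mul_g, inv_g]
    show 1 = a.g * 1 * a.g⁻¹
    rw [mul_one, mul_inv_cancel]
  · intro x
    rw [mul_F, mul_F, inv_F, mul_g]
    have e1 : pre a.g⁻¹ (pre (a.g * (el w).g) x) = x := by
      show pre a.g⁻¹ (pre (a.g * 1) x) = x
      rw [mul_one, pre_inv_pre]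
    rw [e1]
    have e2 : (el (w ∘ ⇑((a.g : Equiv.Perm GolayPt)⁻¹))).F x = (el w).F (pre a.g x) := by
      show ∑ p, w ((a.g : Equiv.Perm GolayPt)⁻¹ p) * x.1 p = ∑ p, w p * x.1 ((a.g : Equiv.Perm GolayPt) p)
      rw [← Equiv.sum_comp (a.g : Equiv.Perm GolayPt)]
      refine Finset.sum_congr rfl fun p _ => ?_
      congr 2
      exact (a.g : Equiv.Perm GolayPt).symm_apply_apply p
    rw [e2]
    linear_combination (-1 : ZMod 2) * z2 (a.F x)

/-! ### the extension does not split over a quaternion group -/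

theorem okTa : okT (tab 0xbc074649165bc0a29a274cdc4ab441) (tab 0xbc07434936714537b0f142964a840d) = true := by
  decide +kernel

theorem okTb : okT (tab 0xb8e143ca75005c86c58652444b3d65) (tab 0xb8e148c9551356909ccc9a004b15cf) = true := by
  decide +kernel

def pa : Equiv.Perm GolayPt := permT _ _ okTa
def pb : Equiv.Perm GolayPt := permT _ _ okTb

theorem pa_mem : pa ∈ Spor.M23 := ⟨permT_mem _ (by decide +kernel), by
  show pa none = none
  decide +kernel⟩

theorem pb_mem : pb ∈ Spor.M23 := ⟨permT_mem _ (by decide +kernel), by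
  show pb none = none
  decide +kernel⟩

def ga : Spor.M23 := ⟨pa, pa_mem⟩
def gb : Spor.M23 := ⟨pb, pb_mem⟩

theorem rel1 : ga * ga = gb * gb := by
  apply Subtype.ext
  apply Equiv.ext
  show ∀ p, pa (pa p) = pb (pb p)
  decide +kernel

theorem rel2 : ga * gb * ga = gb := by
  apply Subtype.ext
  apply Equiv.ext
  show ∀ p, pa (pb (pa p)) = pb p
  decide +kernel

theorem mem_C0_wd {n : ℕ} (hn : n < 2 ^ 24) (h : cw (n % 4096) = n) (h' : n.testBit 23 = false) : wd n ∈ C0 := by
  refine mem_C0.2 ⟨(wd_mem_iff hn).2 h, ?_⟩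
  show (if n.testBit (idx none) then (1 : ZMod 2) else 0) = 0
  rw [show idx none = 23 from rfl, h']
  rfl

def x1 : C0 := ⟨wd 0x5481d, mem_C0_wd (by norm_num) (by decide +kernel) (by decide +kernel)⟩
def y1 : C0 := ⟨wd 0x64a032, mem_C0_wd (by norm_num) (by decide +kernel) (by decide +kernel)⟩
def x2 : C0 := ⟨wd 0x316812, mem_C0_wd (by norm_num) (by decide +kernel) (by decide +kernel)⟩
def y2 : C0 := ⟨wd 0x50803d, mem_C0_wd (by norm_num) (by decide +kernel) (by decide +kernel)⟩

theorem sum_eq : x1 + y1 = x2 + y2 := by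
  apply Subtype.ext
  show wd 0x5481d + wd 0x64a032 = wd 0x316812 + wd 0x50803d
  rw [← wd_xor, ← wd_xor]
  exact congrArg wd (by decide +kernel)

theorem ax1 : pre ga x1 = y1 := Subtype.ext (funext (by
  show ∀ p, wd 0x5481d (pa p) = wd 0x64a032 p
  decide +kernel))
theorem bx1 : pre gb x1 = y1 := Subtype.ext (funext (by
  show ∀ p, wd 0x5481d (pb p) = wd 0x64a032 p
  decide +kernel))
theorem ay1 : pre ga y1 = x1 := Subtype.ext (funext (by
  show ∀ p, wd 0x64a032 (pa p) = wd 0x5481d p
  decide +kernel))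
theorem by1 : pre gb y1 = x1 := Subtype.ext (funext (by
  show ∀ p, wd 0x64a032 (pb p) = wd 0x5481d p
  decide +kernel))
theorem ax2 : pre ga x2 = y2 := Subtype.ext (funext (by
  show ∀ p, wd 0x316812 (pa p) = wd 0x50803d p
  decide +kernel))
theorem ay2 : pre ga y2 = x2 := Subtype.ext (funext (by
  show ∀ p, wd 0x50803d (pa p) = wd 0x316812 p
  decide +kernel))
theorem bx2 : pre gb x2 = x2 := Subtype.ext (funext (by
  show ∀ p, wd 0x316812 (pb p) = wd 0x316812 p
  decide +kernel))
theorem by2 : pre gb y2 = y2 := Subtype.ext (funext (by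
  show ∀ p, wd 0x50803d (pb p) = wd 0x50803d p
  decide +kernel))

theorem th1 : th x1.1 y1.1 = 1 := by
  show th (wd 0x5481d) (wd 0x64a032) = 1
  rw [th_wd (by norm_num)]
  decide +kernel
theorem th1' : th y1.1 x1.1 = 0 := by
  show th (wd 0x64a032) (wd 0x5481d) = 0
  rw [th_wd (by norm_num)]
  decide +kernel
theorem th2 : th x2.1 y2.1 = 0 := by
  show th (wd 0x316812) (wd 0x50803d) = 0
  rw [th_wd (by norm_num)]
  decide +kernel
theorem th2' : th y2.1 x2.1 = 1 := by
  show th (wd 0x50803d) (wd 0x316812) = 1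
  rw [th_wd (by norm_num)]
  decide +kernel

/-- no two elements above the generators of the quaternion group satisfy its relations -/
theorem no_lift (A B : Ext) (hA : A.g = ga) (hB : B.g = gb) (h1 : A * A = B * B) (h2 : A * B * A = B) : False := by
  have e1 : (A * A).F x1 = (B * B).F x1 := by rw [h1]
  have e2 : (A * B * A).F x2 = B.F x2 := by rw [h2]
  rw [mul_F, mul_F, hA, hB, ax1, bx1] at e1
  rw [mul_F, mul_F, mul_g, hA, hB, pre_mul, ax2, by2] at e2
  have f1 := A.h x1 y1
  have f2 := A.h x2 y2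
  have g1 := B.h x1 y1
  have g2 := B.h x2 y2
  rw [sum_eq, hA] at f1
  rw [hA] at f2
  rw [sum_eq, hB] at g1
  rw [hB] at g2
  unfold bt at f1 f2 g1 g2
  rw [ax1, ay1, th1, th1'] at f1
  rw [ax2, ay2, th2, th2'] at f2
  rw [bx1, by1, th1, th1'] at g1
  rw [bx2, by2, th2] at g2
  revert e1 e2 f1 f2 g1 g2
  generalize A.F x1 = a1
  generalize A.F y1 = a2
  generalize A.F x2 = a3
  generalize A.F y2 = a4
  generalize A.F (x2 + y2) = a5
  generalize B.F x1 = b1
  generalize B.F y1 = b2
  generalize B.F x2 = b3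
  generalize B.F y2 = b4
  generalize B.F (x2 + y2) = b5
  intro e1 e2 f1 f2 g1 g2
  have h : (1 : ZMod 2) = 0 := by
    have z := z2
    linear_combination e1 + e2 + f1 - f2 + g1 - g2 - z a1 - z a2 - z b4 - z a3 - z a4 + z b3 + z (1 + b1 + b2 - b3 + a1 + a2)
  exact absurd h (by decide)

theorem nonsplit (H : Subgroup Ext) (h1 : H ⊓ proj.ker = ⊥) : H ⊔ proj.ker ≠ ⊤ := by
  intro h2
  have hsurj : ∀ g : Spor.M23, ∃ a ∈ H, a.g = g := by
    intro g
    have h3 : H.map proj = ⊤ := by
      have h4 : (H ⊔ proj.ker).map proj = ⊤ := by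
        rw [h2, ← MonoidHom.range_eq_map]
        exact MonoidHom.range_eq_top.2 proj_surjective
      rw [Subgroup.map_sup] at h4
      have h5 : (proj.ker).map proj = ⊥ := by
        rw [eq_bot_iff]
        rintro _ ⟨x, hx, rfl⟩
        exact hx
      rwa [h5, sup_bot_eq] at h4
    have h5 : g ∈ H.map proj := by rw [h3]; trivial
    obtain ⟨a, ha, hag⟩ := h5
    exact ⟨a, ha, hag⟩
  have hinj : ∀ a ∈ H, ∀ b ∈ H, a.g = b.g → a = b := by
    intro a ha b hb hab
    have h3 : a * b⁻¹ ∈ H ⊓ proj.ker := ⟨H.mul_mem ha (H.inv_mem hb), by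
      show a.g * b.g⁻¹ = 1
      rw [hab, mul_inv_cancel]⟩
    rw [h1] at h3
    exact mul_inv_eq_one.1 h3
  obtain ⟨A, hA, hAg⟩ := hsurj ga
  obtain ⟨B, hB, hBg⟩ := hsurj gb
  refine no_lift A B hAg hBg ?_ ?_
  · apply hinj _ (H.mul_mem hA hA) _ (H.mul_mem hB hB)
    rw [mul_g, mul_g, hAg, hBg, rel1]
  · apply hinj _ (H.mul_mem (H.mul_mem hA hB) hA) _ hB
    rw [mul_g, mul_g, hAg, hBg, rel2]

end H49.PL
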