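import Cfsg.Agent.Lib.H49.CE2
import Cfsg.Agent.Lib.H49.PL3
import Cfsg.Agent.Lib.H57.M24Fus2

/-!
Central extensions of `M22` with kernel of order 2: a criterion for splitting at a quaternion subgroup.
-/

set_option autoImplicit false

namespace H49.M22D

open Cfsg H8.GolayCode H8.GolayCount H8.GolayBasic H8.M24Mem H93.GolayMod H9.Mult H49.CE

universe v

def p_e : Equiv.Perm GolayPt := permT (tab 0xbca65ad9907b8715a08a11a8969c20) (tab 0xbca65ad9907b8715a08a11a8969c20) (by decide +kernel)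
theorem mem_e : p_e ∈ Spor.M22 := ⟨⟨permT_mem _ (by decide +kernel), by
  show p_e none = none
  decide +kernel⟩, by
  show p_e (some 0) = some 0
  decide +kernel⟩
def e_e : Spor.M22 := ⟨p_e, mem_e⟩
def p_s : Equiv.Perm GolayPt := permT (tab 0xbd9ea34a30ab96c6d0e44cc4809460) (tab 0xbd9ea34a30ab96c6d0e44cc4809460) (by decide +kernel)
theorem mem_s : p_s ∈ Spor.M22 := ⟨⟨permT_mem _ (by decide +kernel), by
  show p_s none = none
  decide +kernel⟩, by
  show p_s (some 0) = some 0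
  decide +kernel⟩
def e_s : Spor.M22 := ⟨p_s, mem_s⟩
def p_t : Equiv.Perm GolayPt := permT (tab 0xbc533a4ace340ac59ea853da320820) (tab 0xbc533a4ace340ac59ea853da320820) (by decide +kernel)
theorem mem_t : p_t ∈ Spor.M22 := ⟨⟨permT_mem _ (by decide +kernel), by
  show p_t none = none
  decide +kernel⟩, by
  show p_t (some 0) = some 0
  decide +kernel⟩
def e_t : Spor.M22 := ⟨p_t, mem_t⟩
def p_u : Equiv.Perm GolayPt := permT (tab 0xbc5a41b2d07bab259ca2519349a020) (tab 0xbc5a41b2d07bab259ca2519349a020) (by decide +kernel)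
theorem mem_u : p_u ∈ Spor.M22 := ⟨⟨permT_mem _ (by decide +kernel), by
  show p_u none = none
  decide +kernel⟩, by
  show p_u (some 0) = some 0
  decide +kernel⟩
def e_u : Spor.M22 := ⟨p_u, mem_u⟩
def p_w : Equiv.Perm GolayPt := permT (tab 0xbd9a51ca305baac78887406899a8c0) (tab 0xbd9a51ca305baac78887406899a8c0) (by decide +kernel)
theorem mem_w : p_w ∈ Spor.M22 := ⟨⟨permT_mem _ (by decide +kernel), by
  show p_w none = none
  decide +kernel⟩, by
  show p_w (some 0) = some 0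
  decide +kernel⟩
def e_w : Spor.M22 := ⟨p_w, mem_w⟩
def p_z : Equiv.Perm GolayPt := permT (tab 0xbda69aca303386c09e8253c856a160) (tab 0xbda69aca303386c09e8253c856a160) (by decide +kernel)
theorem mem_z : p_z ∈ Spor.M22 := ⟨⟨permT_mem _ (by decide +kernel), by
  show p_z none = none
  decide +kernel⟩, by
  show p_z (some 0) = some 0
  decide +kernel⟩
def e_z : Spor.M22 := ⟨p_z, mem_z⟩
def p_ap : Equiv.Perm GolayPt := permT (tab 0xb8eb20a98982cae8a09438acf69a60) (tab 0xb96a80d16f2307174a0a389a9b1a60) (by decide +kernel)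
theorem mem_ap : p_ap ∈ Spor.M22 := ⟨⟨permT_mem _ (by decide +kernel), by
  show p_ap none = none
  decide +kernel⟩, by
  show p_ap (some 0) = some 0
  decide +kernel⟩
def e_ap : Spor.M22 := ⟨p_ap, mem_ap⟩
def p_bp : Equiv.Perm GolayPt := permT (tab 0xbc2b132d4d2d0924386c3cd3678440) (tab 0xb92ae332961aa08944ab3cded48440) (by decide +kernel)
theorem mem_bp : p_bp ∈ Spor.M22 := ⟨⟨permT_mem _ (by decide +kernel), by
  show p_bp none = none
  decide +kernel⟩, by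
  show p_bp (some 0) = some 0
  decide +kernel⟩
def e_bp : Spor.M22 := ⟨p_bp, mem_bp⟩
def p_kp : Equiv.Perm GolayPt := permT (tab 0xb90f432dcd7c6089292cacc7628820) (tab 0xb90f432dcd7c6089292cacc7628820) (by decide +kernel)
theorem mem_kp : p_kp ∈ Spor.M22 := ⟨⟨permT_mem _ (by decide +kernel), by
  show p_kp none = none
  decide +kernel⟩, by
  show p_kp (some 0) = some 0
  decide +kernel⟩
def e_kp : Spor.M22 := ⟨p_kp, mem_kp⟩
def p_zpp : Equiv.Perm GolayPt := permT (tab 0xbb2486d46f806765a8f4498a4889c0) (tab 0xbb2486d46f806765a8f4498a4889c0) (by decide +kernel)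
theorem mem_zpp : p_zpp ∈ Spor.M22 := ⟨⟨permT_mem _ (by decide +kernel), by
  show p_zpp none = none
  decide +kernel⟩, by
  show p_zpp (some 0) = some 0
  decide +kernel⟩
def e_zpp : Spor.M22 := ⟨p_zpp, mem_zpp⟩
def p_ge : Equiv.Perm GolayPt := permT (tab 0xbad25239e610590aa28351e568b660) (tab 0xb91690946c8c84db1eaa3429343dc0) (by decide +kernel)
theorem mem_ge : p_ge ∈ Spor.M22 := ⟨⟨permT_mem _ (by decide +kernel), by
  show p_ge none = none
  decide +kernel⟩, by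
  show p_ge (some 0) = some 0
  decide +kernel⟩
def e_ge : Spor.M22 := ⟨p_ge, mem_ge⟩
def p_gs : Equiv.Perm GolayPt := permT (tab 0xbb10d23ad21c0d1489752868a9bce0) (tab 0xbc5051c18e14a96491750b4f37a8c0) (by decide +kernel)
theorem mem_gs : p_gs ∈ Spor.M22 := ⟨⟨permT_mem _ (by decide +kernel), by
  show p_gs none = none
  decide +kernel⟩, by
  show p_gs (some 0) = some 0
  decide +kernel⟩
def e_gs : Spor.M22 := ⟨p_gs, mem_gs⟩
def p_gt : Equiv.Perm GolayPt := permT (tab 0xba0b568452b308b7292f3c69319a00) (tab 0xbbe85240c142e6e6293638aad1c640) (by decide +kernel)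
theorem mem_gt : p_gt ∈ Spor.M22 := ⟨⟨permT_mem _ (by decide +kernel), by
  show p_gt none = none
  decide +kernel⟩, by
  show p_gt (some 0) = some 0
  decide +kernel⟩
def e_gt : Spor.M22 := ⟨p_gt, mem_gt⟩
def p_gu : Equiv.Perm GolayPt := permT (tab 0xb8632b3966a3c506a5832914744ea0) (tab 0xbcc2f152ac7496989543240e6436c0) (by decide +kernel)
theorem mem_gu : p_gu ∈ Spor.M22 := ⟨⟨permT_mem _ (by decide +kernel), by
  show p_gu none = none
  decide +kernel⟩, by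
  show p_gu (some 0) = some 0
  decide +kernel⟩
def e_gu : Spor.M22 := ⟨p_gu, mem_gu⟩
def p_gw : Equiv.Perm GolayPt := permT (tab 0xbc86d9c2d17b0ee29aa90ad4241280) (tab 0xbc5219da127b28e315036a962a90e0) (by decide +kernel)
theorem mem_gw : p_gw ∈ Spor.M22 := ⟨⟨permT_mem _ (by decide +kernel), by
  show p_gw none = none
  decide +kernel⟩, by
  show p_gw (some 0) = some 0
  decide +kernel⟩
def e_gw : Spor.M22 := ⟨p_gw, mem_gw⟩
def p_gew : Equiv.Perm GolayPt := permT (tab 0xb91ec59530ab8349aa2838e56309a0) (tab 0xb91ec59530ab8349aa2838e56309a0) (by decide +kernel)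
theorem mem_gew : p_gew ∈ Spor.M22 := ⟨⟨permT_mem _ (by decide +kernel), by
  show p_gew none = none
  decide +kernel⟩, by
  show p_gew (some 0) = some 0
  decide +kernel⟩
def e_gew : Spor.M22 := ⟨p_gew, mem_gew⟩
def p_gez : Equiv.Perm GolayPt := permT (tab 0xbc248b35c32cd55304f45a591111e0) (tab 0xbcd88754960c6453b4d44ade280d40) (by decide +kernel)
theorem mem_gez : p_gez ∈ Spor.M22 := ⟨⟨permT_mem _ (by decide +kernel), by
  show p_gez none = none
  decide +kernel⟩, by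
  show p_gez (some 0) = some 0
  decide +kernel⟩
def e_gez : Spor.M22 := ⟨p_gez, mem_gez⟩
def p_guz : Equiv.Perm GolayPt := permT (tab 0xba0d279c4e1c16a99589a56d1091a0) (tab 0xb94c75d08e9c0296b116955427c460) (by decide +kernel)
theorem mem_guz : p_guz ∈ Spor.M22 := ⟨⟨permT_mem _ (by decide +kernel), by
  show p_guz none = none
  decide +kernel⟩, by
  show p_guz (some 0) = some 0
  decide +kernel⟩
def e_guz : Spor.M22 := ⟨p_guz, mem_guz⟩
def p_gsz : Equiv.Perm GolayPt := permT (tab 0xbc4246da4e430f030c4a5966fa26a0) (tab 0xbc8232c6cc2426e3a04f6acd4526a0) (by decide +kernel)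
theorem mem_gsz : p_gsz ∈ Spor.M22 := ⟨⟨permT_mem _ (by decide +kernel), by
  show p_gsz none = none
  decide +kernel⟩, by
  show p_gsz (some 0) = some 0
  decide +kernel⟩
def e_gsz : Spor.M22 := ⟨p_gsz, mem_gsz⟩
def p_gstst : Equiv.Perm GolayPt := permT (tab 0xbb8485b2d16c27238c2f216b44a8c0) (tab 0xbc4a46b20e459f298874584c755520) (by decide +kernel)
theorem mem_gstst : p_gstst ∈ Spor.M22 := ⟨⟨permT_mem _ (by decide +kernel), by
  show p_gstst none = none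
  decide +kernel⟩, by
  show p_gstst (some 0) = some 0
  decide +kernel⟩
def e_gstst : Spor.M22 := ⟨p_gstst, mem_gstst⟩
def p_gwz : Equiv.Perm GolayPt := permT (tab 0xbb12a2cad00ba915b5159bce220cc0) (tab 0xbc50d3c990339565d2a928663111e0) (by decide +kernel)
theorem mem_gwz : p_gwz ∈ Spor.M22 := ⟨⟨permT_mem _ (by decide +kernel), by
  show p_gwz none = none
  decide +kernel⟩, by
  show p_gwz (some 0) = some 0
  decide +kernel⟩
def e_gwz : Spor.M22 := ⟨p_gwz, mem_gwz⟩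
def p_gewz : Equiv.Perm GolayPt := permT (tab 0xb8a7119d4e2c2a84bd86092566ae80) (tab 0xb91a1a968e540691456c921e69d8e0) (by decide +kernel)
theorem mem_gewz : p_gewz ∈ Spor.M22 := ⟨⟨permT_mem _ (by decide +kernel), by
  show p_gewz none = none
  decide +kernel⟩, by
  show p_gewz (some 0) = some 0
  decide +kernel⟩
def e_gewz : Spor.M22 := ⟨p_gewz, mem_gewz⟩
def p_gkp : Equiv.Perm GolayPt := permT (tab 0xb84b51a84fb26745a0f0611d133640) (tab 0xbbe8c68488814475c9ca48ea69c6c0) (by decide +kernel)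
theorem mem_gkp : p_gkp ∈ Spor.M22 := ⟨⟨permT_mem _ (by decide +kernel), by
  show p_gkp none = none
  decide +kernel⟩, by
  show p_gkp (some 0) = some 0
  decide +kernel⟩
def e_gkp : Spor.M22 := ⟨p_gkp, mem_gkp⟩
def p_gzp : Equiv.Perm GolayPt := permT (tab 0xb9dc588aa66cd41590688592fa4980) (tab 0xb9a2370a67255e15b4a8b428a4c980) (by decide +kernel)
theorem mem_gzp : p_gzp ∈ Spor.M22 := ⟨⟨permT_mem _ (by decide +kernel), by
  show p_gzp none = none
  decide +kernel⟩, by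
  show p_gzp (some 0) = some 0
  decide +kernel⟩
def e_gzp : Spor.M22 := ⟨p_gzp, mem_gzp⟩
def p_gkpzp : Equiv.Perm GolayPt := permT (tab 0xb96af3c46140a6e9353622e8a34180) (tab 0xba2a56ae42a31413112f98ec78ba00) (by decide +kernel)
theorem mem_gkpzp : p_gkpzp ∈ Spor.M22 := ⟨⟨permT_mem _ (by decide +kernel), by
  show p_gkpzp none = none
  decide +kernel⟩, by
  show p_gkpzp (some 0) = some 0
  decide +kernel⟩
def e_gkpzp : Spor.M22 := ⟨p_gkpzp, mem_gkpzp⟩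
def p_gzpp : Equiv.Perm GolayPt := permT (tab 0xb8994b28ab719a484911a852798de0) (tab 0xbccf41a90b0bdb5848a923a2c158c0) (by decide +kernel)
theorem mem_gzpp : p_gzpp ∈ Spor.M22 := ⟨⟨permT_mem _ (by decide +kernel), by
  show p_gzpp none = none
  decide +kernel⟩, by
  show p_gzpp (some 0) = some 0
  decide +kernel⟩
def e_gzpp : Spor.M22 := ⟨p_gzpp, mem_gzpp⟩

theorem ext22 {x y : Spor.M22} (h : ∀ p, (x : Equiv.Perm GolayPt) p = (y : Equiv.Perm GolayPt) p) : x = y :=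
  Subtype.ext (Equiv.ext h)

theorem eq_u : e_u = e_e * (e_t * e_e * e_t) := ext22 (by
  show ∀ p, p_u p = p_e (p_t (p_e (p_t p)))
  decide +kernel)
theorem eq_w : e_w = e_u * (e_s * e_u * e_s) := ext22 (by
  show ∀ p, p_w p = p_u (p_s (p_u (p_s p)))
  decide +kernel)
theorem eq_z : e_z = e_w * (e_t * e_w * e_t) := ext22 (by
  show ∀ p, p_z p = p_w (p_t (p_w (p_t p)))
  decide +kernel)
theorem eq_se : e_s * e_e * e_s = e_e * e_z := ext22 (by
  show ∀ p, p_s (p_e (p_s p)) = p_e (p_z p)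
  decide +kernel)
theorem zz0 : e_z * e_z = 1 := ext22 (by
  show ∀ p, p_z (p_z p) = p
  decide +kernel)
theorem cj_e : e_e = e_ge * e_z * e_ge⁻¹ := by
  rw [eq_mul_inv_iff_mul_eq]
  refine ext22 ?_
  show ∀ p, p_e (p_ge p) = p_ge (p_z p)
  decide +kernel
theorem cj_s : e_s = e_gs * e_z * e_gs⁻¹ := by
  rw [eq_mul_inv_iff_mul_eq]
  refine ext22 ?_
  show ∀ p, p_s (p_gs p) = p_gs (p_z p)
  decide +kernel
theorem cj_t : e_t = e_gt * e_z * e_gt⁻¹ := by
  rw [eq_mul_inv_iff_mul_eq]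
  refine ext22 ?_
  show ∀ p, p_t (p_gt p) = p_gt (p_z p)
  decide +kernel
theorem cj_u : e_u = e_gu * e_z * e_gu⁻¹ := by
  rw [eq_mul_inv_iff_mul_eq]
  refine ext22 ?_
  show ∀ p, p_u (p_gu p) = p_gu (p_z p)
  decide +kernel
theorem cj_w : e_w = e_gw * e_z * e_gw⁻¹ := by
  rw [eq_mul_inv_iff_mul_eq]
  refine ext22 ?_
  show ∀ p, p_w (p_gw p) = p_gw (p_z p)
  decide +kernel
theorem cj_ew : e_e * e_w = e_gew * e_z * e_gew⁻¹ := by
  rw [eq_mul_inv_iff_mul_eq]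
  refine ext22 ?_
  show ∀ p, p_e (p_w (p_gew p)) = p_gew (p_z p)
  decide +kernel
theorem cj_ez : e_e * e_z = e_gez * e_z * e_gez⁻¹ := by
  rw [eq_mul_inv_iff_mul_eq]
  refine ext22 ?_
  show ∀ p, p_e (p_z (p_gez p)) = p_gez (p_z p)
  decide +kernel
theorem cj_uz : e_u * e_z = e_guz * e_z * e_guz⁻¹ := by
  rw [eq_mul_inv_iff_mul_eq]
  refine ext22 ?_
  show ∀ p, p_u (p_z (p_guz p)) = p_guz (p_z p)
  decide +kernel
theorem cj_sz : e_s * e_z = e_gsz * e_z * e_gsz⁻¹ := by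
  rw [eq_mul_inv_iff_mul_eq]
  refine ext22 ?_
  show ∀ p, p_s (p_z (p_gsz p)) = p_gsz (p_z p)
  decide +kernel
theorem cj_stst : e_s * e_t * e_s * e_t = e_gstst * e_z * e_gstst⁻¹ := by
  rw [eq_mul_inv_iff_mul_eq]
  refine ext22 ?_
  show ∀ p, p_s (p_t (p_s (p_t (p_gstst p)))) = p_gstst (p_z p)
  decide +kernel
theorem cj_wz : e_w * e_z = e_gwz * e_z * e_gwz⁻¹ := by
  rw [eq_mul_inv_iff_mul_eq]
  refine ext22 ?_
  show ∀ p, p_w (p_z (p_gwz p)) = p_gwz (p_z p)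
  decide +kernel
theorem cj_ewz : e_e * (e_w * e_z) = e_gewz * e_z * e_gewz⁻¹ := by
  rw [eq_mul_inv_iff_mul_eq]
  refine ext22 ?_
  show ∀ p, p_e (p_w (p_z (p_gewz p))) = p_gewz (p_z p)
  decide +kernel
theorem cj_kp : e_kp = e_gkp * e_z * e_gkp⁻¹ := by
  rw [eq_mul_inv_iff_mul_eq]
  refine ext22 ?_
  show ∀ p, p_kp (p_gkp p) = p_gkp (p_z p)
  decide +kernel
theorem cj_zp : e_ap * e_ap = e_gzp * e_z * e_gzp⁻¹ := by
  rw [eq_mul_inv_iff_mul_eq]
  refine ext22 ?_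
  show ∀ p, p_ap (p_ap (p_gzp p)) = p_gzp (p_z p)
  decide +kernel
theorem cj_kpzp : e_kp * (e_ap * e_ap) = e_gkpzp * e_z * e_gkpzp⁻¹ := by
  rw [eq_mul_inv_iff_mul_eq]
  refine ext22 ?_
  show ∀ p, p_kp (p_ap (p_ap (p_gkpzp p))) = p_gkpzp (p_z p)
  decide +kernel
theorem cj_zpp : e_zpp = e_gzpp * e_z * e_gzpp⁻¹ := by
  rw [eq_mul_inv_iff_mul_eq]
  refine ext22 ?_
  show ∀ p, p_zpp (p_gzpp p) = p_gzpp (p_z p)
  decide +kernel
theorem ab1 : e_ap * e_ap = e_bp * e_bp := ext22 (by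
  show ∀ p, p_ap (p_ap p) = p_bp (p_bp p)
  decide +kernel)
theorem ab2 : e_ap * e_bp * e_ap = e_bp := ext22 (by
  show ∀ p, p_ap (p_bp (p_ap p)) = p_bp p
  decide +kernel)
theorem ka : e_kp * e_ap * e_kp⁻¹ = e_ap * e_bp ∨ e_kp * e_ap * e_kp⁻¹ = (e_ap * e_bp)⁻¹ := by
  right
  rw [mul_inv_eq_iff_eq_mul, ← mul_right_inj (e_ap * e_bp), mul_inv_cancel_left]
  refine ext22 ?_
  show ∀ p, p_ap (p_bp (p_kp (p_ap p))) = p_kp p
  decide +kernel

/-- the stabiliser of a word in `M22` -/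
def stW (f : GolayPt → ZMod 2) : Subgroup Spor.M22 where
  carrier := {g | ∀ p, f ((g : Equiv.Perm GolayPt) p) = f p}
  one_mem' := fun _ => rfl
  mul_mem' := by
    intro g h hg hh p
    show f ((g : Equiv.Perm GolayPt) ((h : Equiv.Perm GolayPt) p)) = f p
    rw [hg, hh]
  inv_mem' := by
    intro g hg p
    have := hg ((g : Equiv.Perm GolayPt)⁻¹ p)
    rw [show (g : Equiv.Perm GolayPt) ((g : Equiv.Perm GolayPt)⁻¹ p) = p from (g : Equiv.Perm GolayPt).apply_symm_apply p] at this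
    exact this.symm

theorem sep_w : ∃ F : Subgroup Spor.M22, e_z ∈ F ∧ e_w ∉ F :=
  ⟨stW (wd 0x802), (by show ∀ p, wd 0x802 (p_z p) = wd 0x802 p; decide +kernel),
    (by show ¬ ∀ p, wd 0x802 (p_w p) = wd 0x802 p; decide +kernel)⟩
theorem sep_u : ∃ F : Subgroup Spor.M22, e_z ∈ F ∧ e_w ∈ F ∧ e_u ∉ F :=
  ⟨stW (wd 0x1000), (by show ∀ p, wd 0x1000 (p_z p) = wd 0x1000 p; decide +kernel),
    (by show ∀ p, wd 0x1000 (p_w p) = wd 0x1000 p; decide +kernel),
    (by show ¬ ∀ p, wd 0x1000 (p_u p) = wd 0x1000 p; decide +kernel)⟩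
theorem sep_e : ∃ F : Subgroup Spor.M22, e_z ∈ F ∧ e_w ∈ F ∧ e_u ∈ F ∧ e_e ∉ F :=
  ⟨stW (wd 0x41000), (by show ∀ p, wd 0x41000 (p_z p) = wd 0x41000 p; decide +kernel),
    (by show ∀ p, wd 0x41000 (p_w p) = wd 0x41000 p; decide +kernel),
    (by show ∀ p, wd 0x41000 (p_u p) = wd 0x41000 p; decide +kernel),
    (by show ¬ ∀ p, wd 0x41000 (p_e p) = wd 0x41000 p; decide +kernel)⟩
theorem sep_s : ∃ F : Subgroup Spor.M22, e_z ∈ F ∧ e_w ∈ F ∧ e_u ∈ F ∧ e_e ∈ F ∧ e_s ∉ F :=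
  ⟨stW (wd 0x8842), (by show ∀ p, wd 0x8842 (p_z p) = wd 0x8842 p; decide +kernel),
    (by show ∀ p, wd 0x8842 (p_w p) = wd 0x8842 p; decide +kernel),
    (by show ∀ p, wd 0x8842 (p_u p) = wd 0x8842 p; decide +kernel),
    (by show ∀ p, wd 0x8842 (p_e p) = wd 0x8842 p; decide +kernel),
    (by show ¬ ∀ p, wd 0x8842 (p_s p) = wd 0x8842 p; decide +kernel)⟩
theorem sep_r : ∃ F : Subgroup Spor.M22, e_z ∈ F ∧ e_w ∈ F ∧ e_u ∈ F ∧ e_e ∈ F ∧ e_s ∈ F ∧ e_t * e_s * e_t ∉ F :=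
  ⟨stW (wd 0x28a84a), (by show ∀ p, wd 0x28a84a (p_z p) = wd 0x28a84a p; decide +kernel),
    (by show ∀ p, wd 0x28a84a (p_w p) = wd 0x28a84a p; decide +kernel),
    (by show ∀ p, wd 0x28a84a (p_u p) = wd 0x28a84a p; decide +kernel),
    (by show ∀ p, wd 0x28a84a (p_e p) = wd 0x28a84a p; decide +kernel),
    (by show ∀ p, wd 0x28a84a (p_s p) = wd 0x28a84a p; decide +kernel),
    (by show ¬ ∀ p, wd 0x28a84a (p_t (p_s (p_t p))) = wd 0x28a84a p; decide +kernel)⟩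
theorem sep_t : ∃ F : Subgroup Spor.M22, e_z ∈ F ∧ e_w ∈ F ∧ e_u ∈ F ∧ e_e ∈ F ∧ e_s ∈ F ∧ e_t * e_s * e_t ∈ F ∧ e_t ∉ F :=
  ⟨stW (wd 0x4000), (by show ∀ p, wd 0x4000 (p_z p) = wd 0x4000 p; decide +kernel),
    (by show ∀ p, wd 0x4000 (p_w p) = wd 0x4000 p; decide +kernel),
    (by show ∀ p, wd 0x4000 (p_u p) = wd 0x4000 p; decide +kernel),
    (by show ∀ p, wd 0x4000 (p_e p) = wd 0x4000 p; decide +kernel),
    (by show ∀ p, wd 0x4000 (p_s p) = wd 0x4000 p; decide +kernel),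
    (by show ∀ p, wd 0x4000 (p_t (p_s (p_t p))) = wd 0x4000 p; decide +kernel),
    (by show ¬ ∀ p, wd 0x4000 (p_t p) = wd 0x4000 p; decide +kernel)⟩

theorem z_ne : e_z ≠ 1 := by
  intro h
  have h1 : ∀ p, p_z p = p := fun p => congrArg (fun x : Spor.M22 => (x : Equiv.Perm GolayPt) p) h
  revert h1
  decide +kernel

theorem card_M22 : ¬ 256 ∣ Nat.card Spor.M22 := by
  rw [H57.M24Fus2.card_M22]
  decide

section main

variable {Γ : Type v} [Group Γ] [Finite Γ] {σ : Γ →* Spor.M22}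

theorem gz (hs : Function.Surjective σ) (hc : Nat.card σ.ker = 2) : Good σ e_z :=
  good_base hs hc (x := e_e) (y := e_w) (w := e_z) zz0 ⟨_, cj_e⟩ ⟨_, cj_w⟩ ⟨1, by simp⟩ ⟨_, cj_ew⟩ ⟨_, cj_ez⟩
    ⟨_, cj_wz⟩ ⟨_, cj_ewz⟩

theorem gg (hs : Function.Surjective σ) (hc : Nat.card σ.ker = 2) {x g : Spor.M22} (h : x = g * e_z * g⁻¹) : Good σ x :=
  good_conj hs hc zz0 (gz hs hc) h

theorem char (hs : Function.Surjective σ) (hc : Nat.card σ.ker = 2)
    (hAB : ∀ A B : Γ, σ A = e_e * e_s → σ B = e_t * (e_e * e_s) * e_t → A * B * A = B) :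
    ∃ χ : Γ → ZMod 2, (∀ g h, χ (g * h) = χ g + χ h) ∧ ∀ w, σ w = 1 → w ≠ 1 → χ w = 1 := by
  obtain ⟨C, hC, h128⟩ := exists_split hs hc eq_u eq_w eq_z eq_se (gg hs hc cj_e) (gg hs hc cj_s) (gg hs hc cj_t)
    (gg hs hc cj_u) (gg hs hc cj_w) (gz hs hc) (gg hs hc cj_ew) (gg hs hc cj_ez) (gg hs hc cj_uz) (gg hs hc cj_sz)
    (gg hs hc cj_stst) hAB z_ne sep_w sep_u sep_e sep_s sep_r sep_t
  exact exists_char hs hc hC h128 card_M22

theorem quat (hs : Function.Surjective σ) (hc : Nat.card σ.ker = 2) {X Y : Γ} (hX : σ X = e_ap) (hY : σ Y = e_bp) :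
    X * X * (Y * Y)⁻¹ * (X * Y * X * Y⁻¹) = 1 :=
  quat_sym hc hs ab1 ab2 ka (gg hs hc cj_kp) (gg hs hc cj_zp) (gg hs hc cj_kpzp) hX hY

theorem good_zpp (hs : Function.Surjective σ) (hc : Nat.card σ.ker = 2) : Good σ e_zpp := gg hs hc cj_zpp

end main

end H49.M22D
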