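import Cfsg.Agent.Lib.H49.CE3
import Cfsg.Agent.Lib.H93.M23Gen

/-!
Extensions of `M23` by the code module: set up, induced cocycles, the central extension of `M22` attached to a point.
-/

set_option autoImplicit false

namespace H49.CX

open Cfsg H8.GolayCode H8.GolayCount H8.GolayBasic H8.M24Mem H93.GolayMod H9.Mult H49.CE H49.PL

universe v

theorem z2 (a : ZMod 2) : a + a = 0 := by revert a; decide

/-- induced cocycle -/
theorem exists_cocycle {G X : Type*} [Group G] (ρ : G →* Equiv.Perm X) (o : X) (χ : G → ZMod 2)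
    (hχ : ∀ g h, ρ g o = o → ρ h o = o → χ (g * h) = χ g + χ h) :
    ∃ c : G → X → ZMod 2, (∀ g h x, c (g * h) x = c g x + c h ((ρ g)⁻¹ x)) ∧
      (∀ n, ρ n = 1 → ∀ g, c n (ρ g o) = χ (g⁻¹ * n * g)) ∧ (∀ n x, (¬ ∃ g, ρ g o = x) → c n x = 0) := by
  classical
  let T : X → G := fun x => if h : ∃ g, ρ g o = x then h.choose else 1
  have hT : ∀ x, (∃ g, ρ g o = x) → ρ (T x) o = x := by
    intro x h
    show ρ (if h : ∃ g, ρ g o = x then h.choose else 1) o = x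
    rw [dif_pos h]
    exact h.choose_spec
  have hT' : ∀ x, (∃ g, ρ g o = x) → (ρ (T x))⁻¹ x = o := by
    intro x h
    rw [Equiv.Perm.inv_eq_iff_eq]
    exact (hT x h).symm
  have horb : ∀ g x, (∃ h, ρ h o = x) → ∃ h, ρ h o = (ρ g)⁻¹ x := by
    rintro g x ⟨h, rfl⟩
    exact ⟨g⁻¹ * h, by rw [map_mul, map_inv]; rfl⟩
  have horb' : ∀ g x, (∃ h, ρ h o = (ρ g)⁻¹ x) → ∃ h, ρ h o = x := by
    rintro g x ⟨h, hh⟩
    exact ⟨g * h, by rw [map_mul, Equiv.Perm.mul_apply, hh]; exact (ρ g).apply_symm_apply x⟩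
  refine ⟨fun g x => if ∃ h, ρ h o = x then χ ((T x)⁻¹ * g * T ((ρ g)⁻¹ x)) else 0, ?_, ?_, ?_⟩
  · intro g h x
    by_cases hx : ∃ k, ρ k o = x
    · have hy := horb g x hx
      have hxy : ((ρ (g * h))⁻¹ x) = (ρ h)⁻¹ ((ρ g)⁻¹ x) := by rw [map_mul, mul_inv_rev]; rfl
      show (if ∃ k, ρ k o = x then χ ((T x)⁻¹ * (g * h) * T ((ρ (g * h))⁻¹ x)) else 0) =
        (if ∃ k, ρ k o = x then χ ((T x)⁻¹ * g * T ((ρ g)⁻¹ x)) else 0) +
        (if ∃ k, ρ k o = (ρ g)⁻¹ x then χ ((T ((ρ g)⁻¹ x))⁻¹ * h * T ((ρ h)⁻¹ ((ρ g)⁻¹ x))) else 0)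
      rw [if_pos hx, if_pos hx, if_pos hy, hxy, ← hχ]
      · congr 1; group
      · rw [map_mul, map_mul, Equiv.Perm.mul_apply, Equiv.Perm.mul_apply, hT _ hy, map_inv]
        have : ρ g ((ρ g)⁻¹ x) = x := (ρ g).apply_symm_apply x
        rw [this]
        exact hT' x hx
      · rw [map_mul, map_mul, Equiv.Perm.mul_apply, Equiv.Perm.mul_apply, hT _ (horb h _ hy), map_inv]
        have : ρ h ((ρ h)⁻¹ ((ρ g)⁻¹ x)) = (ρ g)⁻¹ x := (ρ h).apply_symm_apply _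
        rw [this]
        exact hT' _ hy
    · have hy : ¬ ∃ k, ρ k o = (ρ g)⁻¹ x := fun h' => hx (horb' g x h')
      show (if ∃ k, ρ k o = x then χ ((T x)⁻¹ * (g * h) * T ((ρ (g * h))⁻¹ x)) else 0) =
        (if ∃ k, ρ k o = x then χ ((T x)⁻¹ * g * T ((ρ g)⁻¹ x)) else 0) +
        (if ∃ k, ρ k o = (ρ g)⁻¹ x then χ ((T ((ρ g)⁻¹ x))⁻¹ * h * T ((ρ h)⁻¹ ((ρ g)⁻¹ x))) else 0)
      rw [if_neg hx, if_neg hx, if_neg hy, add_zero]
  · intro n hn g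
    obtain ⟨x, hx⟩ : ∃ x, x = ρ g o := ⟨_, rfl⟩
    have hxo : ∃ k, ρ k o = x := ⟨g, hx.symm⟩
    show (if ∃ k, ρ k o = ρ g o then χ ((T (ρ g o))⁻¹ * n * T ((ρ n)⁻¹ (ρ g o))) else 0) = _
    rw [if_pos ⟨g, rfl⟩, hn, inv_one, Equiv.Perm.one_apply, ← hx]
    obtain ⟨k, hk⟩ : ∃ k, k = g⁻¹ * T x := ⟨_, rfl⟩
    have hTk : T x = g * k := by rw [hk]; group
    have hko : ρ k o = o := by
      rw [hk, map_mul, Equiv.Perm.mul_apply, hT x hxo, hx, map_inv]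
      exact (ρ g).symm_apply_apply o
    have hki : ρ k⁻¹ o = o := by
      rw [map_inv, Equiv.Perm.inv_eq_iff_eq]; exact hko.symm
    have hgn : ρ (g⁻¹ * n * g) o = o := by
      rw [map_mul, map_mul, hn, mul_one, ← map_mul, inv_mul_cancel, map_one]; rfl
    have h1 : χ 1 = 0 := by
      have := hχ 1 1 (by rw [map_one]; rfl) (by rw [map_one]; rfl)
      rw [mul_one] at this
      have h2 : χ 1 + 0 = χ 1 + χ 1 := by rw [add_zero]; exact this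
      exact (add_left_cancel h2).symm
    have h2 : χ k⁻¹ + χ k = 0 := by
      rw [← hχ _ _ hki hko, inv_mul_cancel, h1]
    have h3 : (T x)⁻¹ * n * T x = k⁻¹ * ((g⁻¹ * n * g) * k) := by rw [hTk]; group
    rw [h3, hχ _ _ hki (by rw [map_mul, Equiv.Perm.mul_apply, hko, hgn]), hχ _ _ hgn hko]
    linear_combination h2
  · intro n x hx
    show (if ∃ k, ρ k o = x then χ ((T x)⁻¹ * n * T ((ρ n)⁻¹ x)) else 0) = 0
    rw [if_neg hx]

/-- an extension of `M23` by the words of the code vanishing at the extra point -/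
structure CodeExt (E : Type v) [Group E] where
  π : E →* Equiv.Perm GolayPt
  hπ : ∀ g, π g ∈ Spor.M23
  surj : ∀ σ ∈ Spor.M23, ∃ g, π g = σ
  ψ : E → (GolayPt → ZMod 2)
  add : ∀ u v, π u = 1 → π v = 1 → ψ (u * v) = ψ u + ψ v
  inj : ∀ v, π v = 1 → ψ v = 0 → v = 1
  mem : ∀ v, π v = 1 → ψ v ∈ C0
  ex : ∀ w ∈ C0, ∃ v, π v = 1 ∧ ψ v = w
  equi : ∀ g v, π v = 1 → ∀ p, ψ (g * v * g⁻¹) p = ψ v ((π g)⁻¹ p)

variable {E : Type v} [Group E] (D : CodeExt E)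

namespace CodeExt

theorem ψ_one : D.ψ 1 = 0 := by
  have h := D.add 1 1 (map_one _) (map_one _)
  rw [mul_one] at h
  have h2 : D.ψ 1 + 0 = D.ψ 1 + D.ψ 1 := by rw [add_zero]; exact h
  exact (add_left_cancel h2).symm

theorem ψ_inv {v : E} (hv : D.π v = 1) : D.ψ v⁻¹ = D.ψ v := by
  have h := D.add v v⁻¹ hv (by rw [map_inv, hv, inv_one])
  rw [mul_inv_cancel, D.ψ_one] at h
  funext p
  have h1 := congrFun h p
  rw [Pi.add_apply] at h1
  have h2 := z2 (D.ψ v p)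
  have h3 : (0 : GolayPt → ZMod 2) p = 0 := rfl
  rw [h3] at h1
  linear_combination (-1 : ZMod 2) * h1 - h2

/-- stabiliser of the residue 0 -/
def E0 : Subgroup E where
  carrier := {g | D.π g (some 0) = some 0}
  one_mem' := by rw [Set.mem_ofPred_eq, map_one]; rfl
  mul_mem' := by
    intro g h hg hh
    rw [Set.mem_ofPred_eq] at hg hh ⊢
    rw [map_mul, Equiv.Perm.mul_apply, hh, hg]
  inv_mem' := by
    intro g hg
    rw [Set.mem_ofPred_eq] at hg ⊢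
    rw [map_inv, Equiv.Perm.inv_eq_iff_eq]; exact hg.symm

theorem mem_E0 {g : E} : g ∈ D.E0 ↔ D.π g (some 0) = some 0 := Iff.rfl

theorem ker_mem_E0 {v : E} (hv : D.π v = 1) : v ∈ D.E0 := by
  rw [mem_E0, hv]; rfl

/-- the words vanishing at the residue 0 -/
def K0 : Subgroup D.E0 where
  carrier := {g | D.π g.1 = 1 ∧ D.ψ g.1 (some 0) = 0}
  one_mem' := ⟨map_one _, by show D.ψ 1 (some 0) = 0; rw [D.ψ_one]; rfl⟩
  mul_mem' := by
    rintro g h ⟨h1, h2⟩ ⟨h3, h4⟩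
    refine ⟨?_, ?_⟩
    · show D.π (g.1 * h.1) = 1
      rw [map_mul, h1, h3, mul_one]
    · show D.ψ (g.1 * h.1) (some 0) = 0
      rw [D.add _ _ h1 h3, Pi.add_apply, h2, h4, add_zero]
  inv_mem' := by
    rintro g ⟨h1, h2⟩
    refine ⟨?_, ?_⟩
    · show D.π (g.1)⁻¹ = 1
      rw [map_inv, h1, inv_one]
    · show D.ψ (g.1)⁻¹ (some 0) = 0
      rw [D.ψ_inv h1, h2]

theorem mem_K0 {g : D.E0} : g ∈ D.K0 ↔ D.π g.1 = 1 ∧ D.ψ g.1 (some 0) = 0 := Iff.rfl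

instance : D.K0.Normal := by
  constructor
  rintro n ⟨h1, h2⟩ g
  refine ⟨?_, ?_⟩
  · show D.π (g.1 * n.1 * (g.1)⁻¹) = 1
    rw [map_mul, map_mul, h1, mul_one, map_inv, mul_inv_cancel]
  · show D.ψ (g.1 * n.1 * (g.1)⁻¹) (some 0) = 0
    rw [D.equi _ _ h1]
    have h3 : (D.π g.1)⁻¹ (some 0) = some 0 := by
      rw [Equiv.Perm.inv_eq_iff_eq]; exact g.2.symm
    rw [h3, h2]

/-- the map to `M22` -/
def toM22 : D.E0 →* Spor.M22 where
  toFun g := ⟨D.π g.1, D.hπ g.1, g.2⟩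
  map_one' := Subtype.ext (map_one D.π)
  map_mul' g h := Subtype.ext (map_mul D.π g.1 h.1)

theorem toM22_coe (g : D.E0) : ((D.toM22 g : Spor.M22) : Equiv.Perm GolayPt) = D.π g.1 := rfl

/-- the central extension of `M22` -/
def σ : D.E0 ⧸ D.K0 →* Spor.M22 := QuotientGroup.lift D.K0 D.toM22 (by
  intro g hg
  exact Subtype.ext hg.1)

theorem σ_mk (g : D.E0) : D.σ (QuotientGroup.mk g) = D.toM22 g := rfl

theorem σ_surj : Function.Surjective D.σ := by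
  rintro ⟨x, hx, hx0⟩
  obtain ⟨g, rfl⟩ := D.surj x hx
  exact ⟨QuotientGroup.mk ⟨g, hx0⟩, rfl⟩

theorem mk_eq_one {g : D.E0} (h : D.π g.1 = 1) : (QuotientGroup.mk g : D.E0 ⧸ D.K0) = 1 ↔ D.ψ g.1 (some 0) = 0 := by
  rw [QuotientGroup.eq_one_iff, mem_K0]
  exact ⟨fun h' => h'.2, fun h' => ⟨h, h'⟩⟩

theorem exists_v0 : ∃ v, D.π v = 1 ∧ D.ψ v (some 0) = 1 := by
  have hm : wd 0x2b9041 ∈ C0 := mem_C0_wd (by norm_num) (by decide +kernel) (by decide +kernel)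
  obtain ⟨v, h1, h2⟩ := D.ex _ hm
  refine ⟨v, h1, ?_⟩
  rw [h2]
  decide +kernel

theorem card_ker : Nat.card D.σ.ker = 2 := by
  obtain ⟨v, h1, h2⟩ := D.exists_v0
  have z01 : ∀ a : ZMod 2, a = 0 ∨ a = 1 := by decide
  rw [Nat.card_eq_two_iff]
  refine ⟨1, ⟨QuotientGroup.mk ⟨v, D.ker_mem_E0 h1⟩, ?_⟩, ?_, ?_⟩
  · show D.toM22 ⟨v, D.ker_mem_E0 h1⟩ = 1
    exact Subtype.ext h1
  · intro h
    have h3 : (1 : D.E0 ⧸ D.K0) = QuotientGroup.mk ⟨v, D.ker_mem_E0 h1⟩ := congrArg Subtype.val h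
    have h4 := (D.mk_eq_one (g := ⟨v, D.ker_mem_E0 h1⟩) h1).1 h3.symm
    have h5 : D.ψ v (some 0) = 0 := h4
    rw [h2] at h5
    exact absurd h5 (by decide)
  · rw [Set.eq_univ_iff_forall]
    rintro ⟨x, hx⟩
    obtain ⟨g, rfl⟩ := QuotientGroup.mk_surjective x
    have hg : D.π g.1 = 1 := congrArg Subtype.val (show D.toM22 g = 1 from hx)
    rcases z01 (D.ψ g.1 (some 0)) with h | h
    · left
      exact Subtype.ext ((D.mk_eq_one hg).2 h)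
    · right
      refine Subtype.ext ?_
      show (QuotientGroup.mk g : D.E0 ⧸ D.K0) = QuotientGroup.mk ⟨v, D.ker_mem_E0 h1⟩
      have hvi : D.π v⁻¹ = 1 := by rw [map_inv, h1, inv_one]
      have h6 : (QuotientGroup.mk (g * (⟨v, D.ker_mem_E0 h1⟩ : D.E0)⁻¹) : D.E0 ⧸ D.K0) = 1 := by
        rw [D.mk_eq_one (g := g * (⟨v, D.ker_mem_E0 h1⟩ : D.E0)⁻¹) (by
          show D.π (g.1 * v⁻¹) = 1
          rw [map_mul, hg, hvi, mul_one])]
        show D.ψ (g.1 * v⁻¹) (some 0) = 0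
        rw [D.add _ _ hg hvi, D.ψ_inv h1, Pi.add_apply, h, h2]
        decide
      rw [QuotientGroup.mk_mul, QuotientGroup.mk_inv] at h6
      exact mul_inv_eq_one.1 h6

end CodeExt

end H49.CX
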