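import Cfsg.Agent.Lib.H49.CX1

/-!
The quaternion group and the relation between the central extensions at its fixed points.
-/

set_option autoImplicit false

namespace H49.CX

open Cfsg H8.GolayCode H8.GolayCount H8.GolayBasic H8.M24Mem H93.GolayMod H9.Mult H49.CE H49.PL H49.M22D

universe v

/-- codes of the elements of the quaternion group -/
def l8 (i : Fin 8) : ℕ := [0xbdab49ca307b9ac5a928398a418820, 0xbc9e8359909b97119449254ea0d1a0, 0xbda69aca303386c09e8253c856a160, 0xbc8c27d990ab831691142cd475a460, 0xbb04f446504b95620cd56d1613cca0, 0xbc6934b2d0138b2506af5a06d218e0, 0xbb10614650a38f62b5f31a42b55480, 0xbc535a32d0438923ae66089a32bd40].getD i.1 0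

def i8 (i : Fin 8) : ℕ := [0xbdab49ca307b9ac5a928398a418820, 0xbc8c27d990ab831691142cd475a460, 0xbda69aca303386c09e8253c856a160, 0xbc9e8359909b97119449254ea0d1a0, 0xbb10614650a38f62b5f31a42b55480, 0xbc535a32d0438923ae66089a32bd40, 0xbb04f446504b95620cd56d1613cca0, 0xbc6934b2d0138b2506af5a06d218e0].getD i.1 0

def m8 (i j : Fin 8) : Fin 8 := Fin.ofNat 8 (([[0, 1, 2, 3, 4, 5, 6, 7], [1, 2, 3, 0, 5, 6, 7, 4], [2, 3, 0, 1, 6, 7, 4, 5],
  [3, 0, 1, 2, 7, 4, 5, 6], [4, 7, 6, 5, 2, 1, 0, 3], [5, 4, 7, 6, 3, 2, 1, 0], [6, 5, 4, 7, 0, 3, 2, 1],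
  [7, 6, 5, 4, 1, 0, 3, 2]].getD i.1 []).getD j.1 0)

def v8 (i : Fin 8) : Fin 8 := Fin.ofNat 8 ([0, 3, 2, 1, 6, 7, 4, 5].getD i.1 0)

theorem ok8 : ∀ i : Fin 8, okT (tab (l8 i)) (tab (i8 i)) = true := by decide +kernel

/-- the elements of the quaternion group -/
def q8 (i : Fin 8) : Equiv.Perm GolayPt := permT _ _ (ok8 i)

theorem q8_idx (i : Fin 8) (p : GolayPt) : idx (q8 i p) = tab (l8 i) (idx p) := permT_idx _ p

theorem q8_mul (i j : Fin 8) : q8 i * q8 j = q8 (m8 i j) := by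
  have h : ∀ i j : Fin 8, ∀ n : Fin 24, tab (l8 i) (tab (l8 j) n.1) = tab (l8 (m8 i j)) n.1 := by decide +kernel
  apply Equiv.ext
  intro p
  apply idx_injective
  rw [Equiv.Perm.mul_apply, q8_idx, q8_idx, q8_idx]
  exact h i j ⟨idx p, idx_lt p⟩

theorem q8_zero : q8 0 = 1 := by
  have h : ∀ n : Fin 24, tab (l8 0) n.1 = n.1 := by decide +kernel
  apply Equiv.ext
  intro p
  apply idx_injective
  rw [q8_idx]
  exact h ⟨idx p, idx_lt p⟩

theorem q8_inv (i : Fin 8) : (q8 i)⁻¹ = q8 (v8 i) := by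
  have h : ∀ i : Fin 8, m8 i (v8 i) = 0 := by decide
  rw [inv_eq_iff_mul_eq_one, q8_mul, h, q8_zero]

theorem q8_mem (i : Fin 8) : q8 i ∈ Spor.M23 := by
  have h : ∀ i : Fin 8, (basisL.all fun b => Nat.beq (cw (actN (tab (l8 i)) b % 4096)) (actN (tab (l8 i)) b)) = true := by
    decide +kernel
  have h2 : ∀ i : Fin 8, tab (l8 i) 23 = 23 := by decide +kernel
  refine ⟨permT_mem _ (h i), ?_⟩
  show q8 i none = none
  apply idx_injective
  rw [q8_idx]
  exact h2 i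

/-- the stabiliser of a regular point -/
theorem reg2 {i : Fin 8} (h : q8 i (pt 2) = pt 2) : q8 i = 1 := by
  have h1 : ∀ i : Fin 8, tab (l8 i) 2 = 2 → i = 0 := by decide +kernel
  have h2 : idx (q8 i (pt 2)) = idx (pt 2) := by rw [h]
  rw [q8_idx, idx_pt 2 (by norm_num)] at h2
  rw [h1 i h2, q8_zero]

theorem stab12 {i : Fin 8} (h : q8 i (pt 12) = pt 12) : q8 i = 1 ∨ q8 i = q8 2 := by
  have h1 : ∀ i : Fin 8, tab (l8 i) 12 = 12 → i = 0 ∨ i = 2 := by decide +kernel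
  have h2 : idx (q8 i (pt 12)) = idx (pt 12) := by rw [h]
  rw [q8_idx, idx_pt 12 (by norm_num)] at h2
  rcases h1 i h2 with h | h
  · left; rw [h, q8_zero]
  · right; rw [h]

theorem orb_iff (k : ℕ) (hk : k < 24) (mask : ℕ)
    (h : ∀ n : Fin 24, mask.testBit n.1 = true ↔ ∃ i : Fin 8, tab (l8 i) k = n.1) (x : GolayPt) :
    mask.testBit (idx x) = true ↔ ∃ i : Fin 8, q8 i (pt k) = x := by
  rw [h ⟨idx x, idx_lt x⟩]
  constructor
  · rintro ⟨i, hi⟩
    refine ⟨i, idx_injective ?_⟩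
    rw [q8_idx, idx_pt k hk]; exact hi
  · rintro ⟨i, rfl⟩
    exact ⟨i, by
      show tab (l8 i) k = idx (q8 i (pt k))
      rw [q8_idx, idx_pt k hk]⟩

theorem orbA (x : GolayPt) : (0x388344 : ℕ).testBit (idx x) = true ↔ ∃ i : Fin 8, q8 i (pt 2) = x :=
  orb_iff 2 (by norm_num) _ (by decide +kernel) x

theorem orbT (x : GolayPt) : (0x461000 : ℕ).testBit (idx x) = true ↔ ∃ i : Fin 8, q8 i (pt 12) = x :=
  orb_iff 12 (by norm_num) _ (by decide +kernel) x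

section

variable {E : Type v} [Group E] (D : CodeExt E)

namespace CodeExt

/-- preimage of the quaternion group -/
def LB : Subgroup E where
  carrier := {g | ∃ i : Fin 8, D.π g = q8 i}
  one_mem' := ⟨0, by rw [map_one, q8_zero]⟩
  mul_mem' := by
    rintro g h ⟨i, hi⟩ ⟨j, hj⟩
    exact ⟨m8 i j, by rw [map_mul, hi, hj, q8_mul]⟩
  inv_mem' := by
    rintro g ⟨i, hi⟩
    exact ⟨v8 i, by rw [map_inv, hi, q8_inv]⟩

theorem mem_LB {g : E} : g ∈ D.LB ↔ ∃ i : Fin 8, D.π g = q8 i := Iff.rfl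

theorem equi' (g v : E) (hv : D.π v = 1) (p : GolayPt) : D.ψ (g⁻¹ * v * g) p = D.ψ v (D.π g p) := by
  have := D.equi g⁻¹ v hv p
  rw [inv_inv] at this
  rw [this, map_inv, inv_inv]

theorem exists_c {Z : E} (hZ : D.π Z = q8 2) (hZ12 : D.ψ (Z * Z) (pt 12) = 0) :
    ∃ c : D.LB → GolayPt → ZMod 2, (∀ g h x, c (g * h) x = c g x + c h ((D.π g.1)⁻¹ x)) ∧
      (∀ v : D.LB, D.π v.1 = 1 → ∀ x, (0x7e9344 : ℕ).testBit (idx x) = true → c v x = D.ψ v.1 x) ∧
      (∀ g x, (0x7e9344 : ℕ).testBit (idx x) = false → c g x = 0) := by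
  have hq22 : q8 2 * q8 2 = 1 := by rw [q8_mul, ← q8_zero]; exact congrArg q8 (by decide)
  have hZZ : D.π (Z * Z) = 1 := by rw [map_mul, hZ, hq22]
  have hZi : D.π Z⁻¹ = q8 2 := by rw [map_inv, hZ]; exact inv_eq_of_mul_eq_one_right hq22
  let ρ : D.LB →* Equiv.Perm GolayPt := D.π.comp D.LB.subtype
  have hρ : ∀ g : D.LB, ρ g = D.π g.1 := fun _ => rfl
  obtain ⟨c1, a1, a2, a3⟩ := exists_cocycle ρ (pt 2) (fun g => D.ψ g.1 (pt 2)) (by
    intro g h hg hh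
    obtain ⟨i, hi⟩ := g.2
    obtain ⟨j, hj⟩ := h.2
    rw [hρ, hi] at hg
    rw [hρ, hj] at hh
    show D.ψ (g.1 * h.1) (pt 2) = _
    rw [D.add _ _ (by rw [hi]; exact reg2 hg) (by rw [hj]; exact reg2 hh)]
    rfl)
  classical
  let χ : D.LB → ZMod 2 := fun g => if D.π g.1 = 1 then D.ψ g.1 (pt 12) else D.ψ (g.1 * Z⁻¹) (pt 12)
  have q2ne : q8 2 ≠ 1 := by
    intro h
    have h1 : idx (q8 2 (pt 2)) = idx (pt 2) := by rw [h]; rfl
    rw [q8_idx, idx_pt 2 (by norm_num)] at h1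
    revert h1
    decide +kernel
  have hχ1 : ∀ g : D.LB, D.π g.1 = 1 → χ g = D.ψ g.1 (pt 12) := fun g h => if_pos h
  have hχ2 : ∀ g : D.LB, D.π g.1 = q8 2 → χ g = D.ψ (g.1 * Z⁻¹) (pt 12) := fun g h =>
    if_neg (by rw [h]; exact q2ne)
  have hq12 : q8 2 (pt 12) = pt 12 := by
    apply idx_injective
    rw [q8_idx, idx_pt 12 (by norm_num)]
    decide +kernel
  obtain ⟨c2, b1, b2, b3⟩ := exists_cocycle ρ (pt 12) χ (by
    intro g h hg hh
    obtain ⟨i, hi⟩ := g.2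
    obtain ⟨j, hj⟩ := h.2
    rw [hρ, hi] at hg
    rw [hρ, hj] at hh
    have hg' := stab12 hg
    have hh' := stab12 hh
    rw [← hi] at hg'
    rw [← hj] at hh'
    rcases hg' with hg' | hg' <;> rcases hh' with hh' | hh'
    · rw [hχ1 g hg', hχ1 h hh', hχ1 (g * h) (by
        show D.π (g.1 * h.1) = 1
        rw [map_mul, hg', hh', mul_one])]
      show D.ψ (g.1 * h.1) (pt 12) = _
      rw [D.add _ _ hg' hh']; rfl
    · rw [hχ1 g hg', hχ2 h hh', hχ2 (g * h) (by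
        show D.π (g.1 * h.1) = q8 2
        rw [map_mul, hg', hh', one_mul])]
      show D.ψ (g.1 * h.1 * Z⁻¹) (pt 12) = _
      rw [mul_assoc, D.add _ _ hg' (by rw [map_mul, hh', hZi, hq22])]; rfl
    · rw [hχ2 g hg', hχ1 h hh', hχ2 (g * h) (by
        show D.π (g.1 * h.1) = q8 2
        rw [map_mul, hg', hh', mul_one])]
      show D.ψ (g.1 * h.1 * Z⁻¹) (pt 12) = _
      have e1 : g.1 * h.1 * Z⁻¹ = (g.1 * Z⁻¹) * (Z * h.1 * Z⁻¹) := by group
      rw [e1, D.add _ _ (by rw [map_mul, hg', hZi, hq22]) (by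
        rw [map_mul, map_mul, hh', mul_one, ← map_mul, mul_inv_cancel, map_one]), Pi.add_apply, D.equi _ _ hh', hZ]
      have e2 : (q8 2)⁻¹ (pt 12) = pt 12 := by
        rw [Equiv.Perm.inv_eq_iff_eq]; exact hq12.symm
      rw [e2]
    · rw [hχ2 g hg', hχ2 h hh', hχ1 (g * h) (by
        show D.π (g.1 * h.1) = 1
        rw [map_mul, hg', hh', hq22])]
      show D.ψ (g.1 * h.1) (pt 12) = _
      have e1 : g.1 * h.1 = (g.1 * Z⁻¹) * ((Z * (h.1 * Z⁻¹) * Z⁻¹) * (Z * Z)) := by group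
      have k1 : D.π (h.1 * Z⁻¹) = 1 := by rw [map_mul, hh', hZi, hq22]
      have k2 : D.π (Z * (h.1 * Z⁻¹) * Z⁻¹) = 1 := by
        rw [map_mul, map_mul, k1, mul_one, ← map_mul, mul_inv_cancel, map_one]
      rw [e1, D.add _ _ (by rw [map_mul, hg', hZi, hq22]) (by rw [map_mul, k2, hZZ, mul_one]), D.add _ _ k2 hZZ,
        Pi.add_apply, Pi.add_apply, D.equi _ _ k1, hZ, hZ12, add_zero]
      have e2 : (q8 2)⁻¹ (pt 12) = pt 12 := by
        rw [Equiv.Perm.inv_eq_iff_eq]; exact hq12.symm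
      rw [e2])
  have lift : ∀ i : Fin 8, ∃ g : D.LB, ρ g = q8 i := by
    intro i
    obtain ⟨g, hg⟩ := D.surj _ (q8_mem i)
    exact ⟨⟨g, i, hg⟩, hg⟩
  have hmask : ∀ n : Fin 24, (0x7e9344 : ℕ).testBit n.1 = ((0x388344 : ℕ).testBit n.1 || (0x461000 : ℕ).testBit n.1) := by
    decide +kernel
  have hdisj : ∀ n : Fin 24, ¬ ((0x388344 : ℕ).testBit n.1 = true ∧ (0x461000 : ℕ).testBit n.1 = true) := by
    decide +kernel
  have hnA : ∀ x, (0x388344 : ℕ).testBit (idx x) = false → ¬ ∃ g : D.LB, ρ g (pt 2) = x := by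
    rintro x hx ⟨g, hg⟩
    obtain ⟨i, hi⟩ := g.2
    rw [hρ, hi] at hg
    rw [(orbA x).2 ⟨i, hg⟩] at hx
    exact Bool.noConfusion hx
  have hnT : ∀ x, (0x461000 : ℕ).testBit (idx x) = false → ¬ ∃ g : D.LB, ρ g (pt 12) = x := by
    rintro x hx ⟨g, hg⟩
    obtain ⟨i, hi⟩ := g.2
    rw [hρ, hi] at hg
    rw [(orbT x).2 ⟨i, hg⟩] at hx
    exact Bool.noConfusion hx
  refine ⟨fun g x => c1 g x + c2 g x, ?_, ?_, ?_⟩
  · intro g h x
    show c1 (g * h) x + c2 (g * h) x = c1 g x + c2 g x + (c1 h _ + c2 h _)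
    rw [a1, b1]
    show c1 g x + c1 h ((D.π g.1)⁻¹ x) + (c2 g x + c2 h ((D.π g.1)⁻¹ x)) = _
    ring
  · intro v hv x hx
    show c1 v x + c2 v x = _
    have h1 := hmask ⟨idx x, idx_lt x⟩
    rw [hx] at h1
    have h2 := hdisj ⟨idx x, idx_lt x⟩
    have hvv : ρ v = 1 := hv
    cases hA : (0x388344 : ℕ).testBit (idx x)
    · rw [hA, Bool.false_or] at h1
      rw [a3 v x (hnA x hA), zero_add]
      obtain ⟨i, hi⟩ := (orbT x).1 h1.symm
      obtain ⟨g, hg⟩ := lift i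
      have h3 := b2 v hvv g
      rw [hg, hi] at h3
      rw [h3]
      have h4 : D.π (g.1⁻¹ * v.1 * g.1) = 1 := by
        rw [map_mul, map_mul, hv, mul_one, ← map_mul, inv_mul_cancel, map_one]
      have h5 : χ (g⁻¹ * v * g) = D.ψ (g.1⁻¹ * v.1 * g.1) (pt 12) := hχ1 _ h4
      rw [h5, D.equi' _ _ hv]
      have h6 : D.π g.1 = q8 i := hg
      rw [h6, hi]
    · have hT : (0x461000 : ℕ).testBit (idx x) = false := by
        cases hT : (0x461000 : ℕ).testBit (idx x)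
        · rfl
        · exact absurd ⟨hA, hT⟩ h2
      rw [b3 v x (hnT x hT), add_zero]
      obtain ⟨i, hi⟩ := (orbA x).1 hA
      obtain ⟨g, hg⟩ := lift i
      have h3 := a2 v hvv g
      rw [hg, hi] at h3
      rw [h3]
      show D.ψ (g.1⁻¹ * v.1 * g.1) (pt 2) = _
      rw [D.equi' _ _ hv]
      have h6 : D.π g.1 = q8 i := hg
      rw [h6, hi]
  · intro g x hx
    show c1 g x + c2 g x = 0
    have h1 := hmask ⟨idx x, idx_lt x⟩
    rw [hx] at h1
    have hA : (0x388344 : ℕ).testBit (idx x) = false := by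
      cases hA : (0x388344 : ℕ).testBit (idx x)
      · rfl
      · rw [hA] at h1; exact Bool.noConfusion h1
    have hT : (0x461000 : ℕ).testBit (idx x) = false := by
      cases hT : (0x461000 : ℕ).testBit (idx x)
      · rfl
      · rw [hA, hT] at h1; exact Bool.noConfusion h1
    rw [a3 g x (hnA x hA), b3 g x (hnT x hT), add_zero]

end CodeExt

theorem sum_shift (σ : Equiv.Perm GolayPt) (f g : GolayPt → ZMod 2) :
    ∑ x, f (σ⁻¹ x) * g x = ∑ x, f x * g (σ x) := by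
  rw [← Equiv.sum_comp σ]
  exact Finset.sum_congr rfl fun x _ => by
    rw [show σ⁻¹ (σ x) = x from σ.symm_apply_apply x]

end

end H49.CX
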