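import Cfsg.Agent.Lib.H49.CX2

/-!
The central extension of `M22` attached to a point splits.
-/

set_option autoImplicit false

namespace H49.CX

open Cfsg H8.GolayCode H8.GolayCount H8.GolayBasic H8.M24Mem H93.GolayMod H9.Mult H49.CE H49.PL H49.M22D

universe v

theorem q1_eq : q8 1 = p_e * p_s := Equiv.ext (by
  show ∀ p, q8 1 p = p_e (p_s p)
  decide +kernel)

theorem q4_eq : q8 4 = p_t * (p_e * p_s) * p_t := Equiv.ext (by
  show ∀ p, q8 4 p = p_t (p_e (p_s (p_t p)))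
  decide +kernel)

theorem okg16 : okT (tab 0xb98a418820b56939460f7358b52507) (tab 0xbbdcd62d4941cc520c4105ab49ca30) = true := by
  decide +kernel

theorem okg12 : okT (tab 0xba928398a418820b56939460f7358b) (tab 0xbad4941cc520c4105ab49ca307b9ac) = true := by
  decide +kernel

def p16 : Equiv.Perm GolayPt := permT _ _ okg16
def p12 : Equiv.Perm GolayPt := permT _ _ okg12

theorem p16_mem : p16 ∈ Spor.M23 := ⟨permT_mem _ (by decide +kernel), by
  show p16 none = none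
  decide +kernel⟩

theorem p12_mem : p12 ∈ Spor.M23 := ⟨permT_mem _ (by decide +kernel), by
  show p12 none = none
  decide +kernel⟩

theorem p16_a : p16 * q8 1 = p_ap * p16 := Equiv.ext (by
  show ∀ p, p16 (q8 1 p) = p_ap (p16 p)
  decide +kernel)

theorem p16_b : p16 * q8 4 = p_bp * p16 := Equiv.ext (by
  show ∀ p, p16 (q8 4 p) = p_bp (p16 p)
  decide +kernel)

theorem p12_z : p12 * q8 2 = p_zpp * p12 := Equiv.ext (by
  show ∀ p, p12 (q8 2 p) = p_zpp (p12 p)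
  decide +kernel)

theorem zpp_sq : p_zpp * p_zpp = 1 := Equiv.ext (by
  show ∀ p, p_zpp (p_zpp p) = p
  decide +kernel)

section

variable {E : Type v} [Group E] [Finite E] (D : CodeExt E)

namespace CodeExt

theorem conj_mem_E0 {G X : E} {x y g : Equiv.Perm GolayPt} (hG : D.π G = g) (hX : D.π X = x) (hgx : g * x = y * g)
    (hy : y (some 0) = some 0) : D.π (G * X * G⁻¹) = y ∧ G * X * G⁻¹ ∈ D.E0 := by
  have h : D.π (G * X * G⁻¹) = y := by
    rw [map_mul, map_mul, map_inv, hG, hX, hgx]; group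
  exact ⟨h, by rw [mem_E0, h]; exact hy⟩

/-- squares of lifts of the central involution vanish at the point 12 -/
theorem sq12 {Z : E} (hZ : D.π Z = q8 2) : D.ψ (Z * Z) (pt 12) = 0 := by
  obtain ⟨G, hG⟩ := D.surj _ p12_mem
  obtain ⟨h1, h2⟩ := D.conj_mem_E0 hG hZ p12_z mem_zpp.2
  have hgood := good_zpp D.σ_surj D.card_ker
  have h3 := hgood (QuotientGroup.mk ⟨_, h2⟩) (by
    rw [σ_mk]
    exact Subtype.ext h1)
  have hq22 : q8 2 * q8 2 = 1 := by rw [q8_mul, ← q8_zero]; exact congrArg q8 (by decide)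
  have hZZ : D.π (Z * Z) = 1 := by rw [map_mul, hZ, hq22]
  rw [← QuotientGroup.mk_mul] at h3
  have h4 : D.π (G * Z * G⁻¹ * (G * Z * G⁻¹)) = 1 := by rw [map_mul, h1, zpp_sq]
  have h5 := (D.mk_eq_one (g := ⟨_, h2⟩ * ⟨_, h2⟩) h4).1 h3
  have h6 : D.ψ (G * Z * G⁻¹ * (G * Z * G⁻¹)) (some 0) = 0 := h5
  have h7 : G * Z * G⁻¹ * (G * Z * G⁻¹) = G * (Z * Z) * G⁻¹ := by group
  rw [h7, D.equi _ _ hZZ, hG] at h6
  have h8 : (p12)⁻¹ (some 0) = pt 12 := by
    rw [Equiv.Perm.inv_eq_iff_eq]; decide +kernel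
  rwa [h8] at h6

/-- the two relators -/
theorem rel1 {A B : E} (hA : D.π A = q8 1) (hB : D.π B = q8 4) : D.π (A * A * (B * B)⁻¹) = 1 := by
  rw [map_mul, map_inv, map_mul, map_mul, hA, hB, q8_mul, q8_mul, show m8 1 1 = m8 4 4 by decide, mul_inv_cancel]

theorem rel2 {A B : E} (hA : D.π A = q8 1) (hB : D.π B = q8 4) : D.π (A * B * A * B⁻¹) = 1 := by
  rw [map_mul, map_inv, map_mul, map_mul, hA, hB, q8_mul, q8_mul, show m8 (m8 1 4) 1 = 4 by decide, mul_inv_cancel]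

theorem quat16 {A B : E} (hA : D.π A = q8 1) (hB : D.π B = q8 4) :
    D.ψ (A * A * (B * B)⁻¹) (some 16) + D.ψ (A * B * A * B⁻¹) (some 16) = 0 := by
  obtain ⟨G, hG⟩ := D.surj _ p16_mem
  obtain ⟨h1, h2⟩ := D.conj_mem_E0 hG hA p16_a mem_ap.2
  obtain ⟨k1, k2⟩ := D.conj_mem_E0 hG hB p16_b mem_bp.2
  have h3 := quat D.σ_surj D.card_ker (X := QuotientGroup.mk ⟨_, h2⟩) (Y := QuotientGroup.mk ⟨_, k2⟩) (by
    rw [σ_mk]; exact Subtype.ext h1) (by rw [σ_mk]; exact Subtype.ext k1)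
  rw [← QuotientGroup.mk_mul, ← QuotientGroup.mk_mul, ← QuotientGroup.mk_inv, ← QuotientGroup.mk_inv,
    ← QuotientGroup.mk_mul, ← QuotientGroup.mk_mul, ← QuotientGroup.mk_mul, ← QuotientGroup.mk_mul,
    ← QuotientGroup.mk_mul] at h3
  have hr1 := D.rel1 hA hB
  have hr2 := D.rel2 hA hB
  have hr : D.π (A * A * (B * B)⁻¹ * (A * B * A * B⁻¹)) = 1 := by rw [map_mul, hr1, hr2, mul_one]
  have h7 : (G * A * G⁻¹) * (G * A * G⁻¹) * ((G * B * G⁻¹) * (G * B * G⁻¹))⁻¹ *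
      ((G * A * G⁻¹) * (G * B * G⁻¹) * (G * A * G⁻¹) * (G * B * G⁻¹)⁻¹) =
      G * (A * A * (B * B)⁻¹ * (A * B * A * B⁻¹)) * G⁻¹ := by group
  have h4 : D.π ((G * A * G⁻¹) * (G * A * G⁻¹) * ((G * B * G⁻¹) * (G * B * G⁻¹))⁻¹ *
      ((G * A * G⁻¹) * (G * B * G⁻¹) * (G * A * G⁻¹) * (G * B * G⁻¹)⁻¹)) = 1 := by
    rw [h7, map_mul, map_mul, hr, mul_one, ← map_mul, mul_inv_cancel, map_one]
  have h6 : D.ψ ((G * A * G⁻¹) * (G * A * G⁻¹) * ((G * B * G⁻¹) * (G * B * G⁻¹))⁻¹ *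
      ((G * A * G⁻¹) * (G * B * G⁻¹) * (G * A * G⁻¹) * (G * B * G⁻¹)⁻¹)) (some 0) = 0 :=
    (D.mk_eq_one h4).1 h3
  rw [h7, D.equi _ _ hr, hG] at h6
  have h8 : (p16)⁻¹ (some 0) = some 16 := by
    rw [Equiv.Perm.inv_eq_iff_eq]; decide +kernel
  rw [h8, D.add _ _ hr1 hr2, Pi.add_apply] at h6
  exact h6

omit [Finite E] in
theorem c_one {c : D.LB → GolayPt → ZMod 2} (hc : ∀ g h x, c (g * h) x = c g x + c h ((D.π g.1)⁻¹ x)) (x : GolayPt) :
    c 1 x = 0 := by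
  have h := hc 1 1 x
  rw [mul_one] at h
  have h1 : (D.π (1 : D.LB).1)⁻¹ x = x := by
    show (D.π 1)⁻¹ x = x
    rw [map_one, inv_one]; rfl
  rw [h1] at h
  have h2 : c 1 x + 0 = c 1 x + c 1 x := by rw [add_zero]; exact h
  exact (add_left_cancel h2).symm

omit [Finite E] in
theorem c_inv {c : D.LB → GolayPt → ZMod 2} (hc : ∀ g h x, c (g * h) x = c g x + c h ((D.π g.1)⁻¹ x)) (g : D.LB)
    (x : GolayPt) : c g⁻¹ x = c g (D.π g.1 x) := by
  have h := hc g g⁻¹ (D.π g.1 x)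
  rw [mul_inv_cancel, D.c_one hc, show (D.π g.1)⁻¹ (D.π g.1 x) = x from (D.π g.1).symm_apply_apply x] at h
  linear_combination (-1 : ZMod 2) * h - z2 (c g (D.π g.1 x))

theorem star {A B : E} (hA : D.π A = q8 1) (hB : D.π B = q8 4) :
    D.ψ (A * B * A * B⁻¹) (some 0) +
      (D.ψ (A * A * (B * B)⁻¹) (some 16) + D.ψ (A * B * A * B⁻¹) (some 16)) = 0 := by
  have hZ : D.π (A * A) = q8 2 := by rw [map_mul, hA, q8_mul]; exact congrArg q8 (by decide)
  obtain ⟨c, hc, hv, hz⟩ := D.exists_c hZ (D.sq12 hZ)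
  obtain ⟨U1, hU1⟩ : ∃ U, U = A * A * (B * B)⁻¹ := ⟨_, rfl⟩
  obtain ⟨U2, hU2⟩ : ∃ U, U = A * B * A * B⁻¹ := ⟨_, rfl⟩
  have r1 : D.π U1 = 1 := by rw [hU1]; exact D.rel1 hA hB
  have r2 : D.π U2 = 1 := by rw [hU2]; exact D.rel2 hA hB
  rw [← hU1, ← hU2]
  let A' : D.LB := ⟨A, 1, hA⟩
  let B' : D.LB := ⟨B, 4, hB⟩
  let U1' : D.LB := A' * A' * (B' * B')⁻¹
  let U2' : D.LB := A' * B' * A' * B'⁻¹
  have eU1 : U1'.1 = U1 := hU1.symm
  have eU2 : U2'.1 = U2 := hU2.symm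
  -- values of the cocycle
  have hAA : q8 1 * q8 1 = q8 4 * q8 4 := by rw [q8_mul, q8_mul]; exact congrArg q8 (by decide)
  have hABA : q8 1 * q8 4 * q8 1 = q8 4 := by rw [q8_mul, q8_mul]; exact congrArg q8 (by decide)
  have cU1 : ∀ x, c U1' x = c A' x + c A' ((q8 1)⁻¹ x) + (c B' x + c B' ((q8 4)⁻¹ x)) := by
    intro x
    have e1 := hc (A' * A') (B' * B')⁻¹ x
    have e2 := hc A' A' x
    have e3 := D.c_inv hc (B' * B') ((D.π (A' * A').1)⁻¹ x)
    have e4 : D.π (B' * B').1 ((D.π (A' * A').1)⁻¹ x) = x := by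
      show D.π (B * B) ((D.π (A * A))⁻¹ x) = x
      rw [map_mul, map_mul, hA, hB, hAA]
      exact (q8 4 * q8 4).apply_symm_apply x
    rw [e4] at e3
    have e5 := hc B' B' x
    have hA1 : D.π A'.1 = q8 1 := hA
    have hB1 : D.π B'.1 = q8 4 := hB
    rw [hA1] at e2
    rw [hB1] at e5
    rw [show c U1' x = c (A' * A' * (B' * B')⁻¹) x from rfl, e1, e2, e3, e5]
  have cU2 : ∀ x, c U2' x = c A' x + c B' ((q8 1)⁻¹ x) + (c A' ((q8 1 * q8 4)⁻¹ x) + c B' x) := by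
    intro x
    have e1 := hc (A' * B' * A') B'⁻¹ x
    have e2 := hc (A' * B') A' x
    have e3 := hc A' B' x
    have e4 := D.c_inv hc B' ((D.π (A' * B' * A').1)⁻¹ x)
    have e5 : D.π B'.1 ((D.π (A' * B' * A').1)⁻¹ x) = x := by
      show D.π B ((D.π (A * B * A))⁻¹ x) = x
      rw [map_mul, map_mul, hA, hB, hABA]
      exact (q8 4).apply_symm_apply x
    rw [e5] at e4
    have e6 : D.π (A' * B').1 = q8 1 * q8 4 := by
      show D.π (A * B) = _
      rw [map_mul, hA, hB]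
    have hA1 : D.π A'.1 = q8 1 := hA
    rw [e6] at e2
    rw [hA1] at e3
    rw [show c U2' x = c (A' * B' * A' * B'⁻¹) x from rfl, e1, e2, e3, e4]
    ring
  -- the words
  obtain ⟨X1, hX1⟩ : ∃ X, X = wd 0xe91104 := ⟨_, rfl⟩
  obtain ⟨X2, hX2⟩ : ∃ X, X = wd 0x2b9041 := ⟨_, rfl⟩
  have mX1 : X1 ∈ golayCode := by rw [hX1]; exact (wd_mem_iff (by norm_num)).2 (by decide +kernel)
  have mX2 : X2 ∈ golayCode := by rw [hX2]; exact (wd_mem_iff (by norm_num)).2 (by decide +kernel)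
  have b1 : ∀ x, X1 x + X1 (q8 1 x) + (X2 x + X2 ((q8 1 * q8 4) x)) = 0 := by
    rw [hX1, hX2]
    show ∀ x, wd 0xe91104 x + wd 0xe91104 (q8 1 x) + (wd 0x2b9041 x + wd 0x2b9041 (q8 1 (q8 4 x))) = 0
    decide +kernel
  have b2 : ∀ x, X1 x + X1 (q8 4 x) + (X2 (q8 1 x) + X2 x) = 0 := by
    rw [hX1, hX2]
    show ∀ x, wd 0xe91104 x + wd 0xe91104 (q8 4 x) + (wd 0x2b9041 (q8 1 x) + wd 0x2b9041 x) = 0
    decide +kernel
  have csum : ∑ x, (c U1' x * X1 x + c U2' x * X2 x) = 0 := by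
    have e1 : ∀ x, c U1' x * X1 x + c U2' x * X2 x =
        (c A' x * (X1 x + X2 x) + c B' x * (X1 x + X2 x)) + (c A' ((q8 1)⁻¹ x) * X1 x + c A' ((q8 1 * q8 4)⁻¹ x) * X2 x)
          + (c B' ((q8 4)⁻¹ x) * X1 x + c B' ((q8 1)⁻¹ x) * X2 x) := by
      intro x
      rw [cU1, cU2]
      ring
    rw [Finset.sum_congr rfl fun x _ => e1 x]
    simp only [Finset.sum_add_distrib]
    rw [sum_shift, sum_shift, sum_shift, sum_shift]
    simp only [← Finset.sum_add_distrib]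
    apply Finset.sum_eq_zero
    intro x _
    linear_combination c A' x * b1 x + c B' x * b2 x
  have s1 : ∑ x, D.ψ U1 x * X1 x = 0 := golay_orth (D.mem _ r1).1 mX1
  have s2 : ∑ x, D.ψ U2 x * X2 x = 0 := golay_orth (D.mem _ r2).1 mX2
  have stot : ∑ x, ((D.ψ U1 x + c U1' x) * X1 x + (D.ψ U2 x + c U2' x) * X2 x) = 0 := by
    have e1 : ∀ x, (D.ψ U1 x + c U1' x) * X1 x + (D.ψ U2 x + c U2' x) * X2 x =
        D.ψ U1 x * X1 x + D.ψ U2 x * X2 x + (c U1' x * X1 x + c U2' x * X2 x) := fun x => by ring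
    rw [Finset.sum_congr rfl fun x _ => e1 x, Finset.sum_add_distrib, Finset.sum_add_distrib, s1, s2, csum]
    simp
  have hsupp : ∀ x : GolayPt, x ∉ ({some 0, some 16} : Finset GolayPt) →
      (D.ψ U1 x + c U1' x) * X1 x + (D.ψ U2 x + c U2' x) * X2 x = 0 := by
    intro x hx
    cases hb : (0x7e9344 : ℕ).testBit (idx x)
    · by_cases hn : x = none
      · subst hn
        have n1 : D.ψ U1 none = 0 := (D.mem _ r1).2
        have n2 : D.ψ U2 none = 0 := (D.mem _ r2).2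
        rw [n1, n2, hz _ _ hb, hz _ _ hb]
        simp
      · have h1 : ∀ x : GolayPt, x ≠ some 0 → x ≠ some 16 → x ≠ none → (0x7e9344 : ℕ).testBit (idx x) = false →
            wd 0xe91104 x = 0 ∧ wd 0x2b9041 x = 0 := by decide +kernel
        have h2 := h1 x (fun h => hx (by rw [h]; simp)) (fun h => hx (by rw [h]; simp)) hn hb
        rw [hX1, hX2, h2.1, h2.2, mul_zero, mul_zero, add_zero]
    · have e1 : c U1' x = D.ψ U1 x := by
        have := hv U1' (by rw [eU1]; exact r1) x hb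
        rw [this, eU1]
      have e2 : c U2' x = D.ψ U2 x := by
        have := hv U2' (by rw [eU2]; exact r2) x hb
        rw [this, eU2]
      rw [e1, e2, z2, z2, zero_mul, zero_mul, add_zero]
  rw [← Finset.sum_subset (Finset.subset_univ ({some 0, some 16} : Finset GolayPt)) (fun x _ hx => hsupp x hx),
    Finset.sum_pair (by decide)] at stot
  have v1 : X1 (some 0) = 0 := by rw [hX1]; decide +kernel
  have v2 : X2 (some 0) = 1 := by rw [hX2]; decide +kernel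
  have v3 : X1 (some 16) = 1 := by rw [hX1]; decide +kernel
  have v4 : X2 (some 16) = 1 := by rw [hX2]; decide +kernel
  have t0 : (0x7e9344 : ℕ).testBit (idx (some 0)) = false := by decide +kernel
  have t16 : (0x7e9344 : ℕ).testBit (idx (some 16)) = false := by decide +kernel
  rw [v1, v2, v3, v4, hz _ _ t0, hz _ _ t0, hz _ _ t16, hz _ _ t16] at stot
  linear_combination stot

theorem J0 {A B : E} (hA : D.π A = q8 1) (hB : D.π B = q8 4) : D.ψ (A * B * A * B⁻¹) (some 0) = 0 := by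
  have h1 := D.star hA hB
  rw [D.quat16 hA hB, add_zero] at h1
  exact h1

/-- the hom on the stabiliser of the residue 0 -/
theorem exists_χ : ∃ χ : E → ZMod 2, (∀ g h, D.π g (some 0) = some 0 → D.π h (some 0) = some 0 → χ (g * h) = χ g + χ h) ∧
    ∀ v, D.π v = 1 → χ v = D.ψ v (some 0) := by
  obtain ⟨χ, h1, h2⟩ := M22D.char D.σ_surj D.card_ker (by
    intro A B hA hB
    obtain ⟨A, rfl⟩ := QuotientGroup.mk_surjective A
    obtain ⟨B, rfl⟩ := QuotientGroup.mk_surjective B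
    have hA' : D.π A.1 = q8 1 := by
      rw [q1_eq]
      exact congrArg Subtype.val (show D.toM22 A = _ from hA)
    have hB' : D.π B.1 = q8 4 := by
      rw [q4_eq]
      exact congrArg Subtype.val (show D.toM22 B = _ from hB)
    have h3 := D.J0 hA' hB'
    have h4 : (QuotientGroup.mk (A * B * A * B⁻¹) : D.E0 ⧸ D.K0) = 1 :=
      (D.mk_eq_one (g := A * B * A * B⁻¹) (D.rel2 hA' hB')).2 h3
    rw [QuotientGroup.mk_mul, QuotientGroup.mk_inv, mul_inv_eq_one] at h4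
    exact h4)
  classical
  have z01 : ∀ a : ZMod 2, a = 0 ∨ a = 1 := by decide
  refine ⟨fun g => if h : g ∈ D.E0 then χ (QuotientGroup.mk ⟨g, h⟩) else 0, ?_, ?_⟩
  · intro g h hg0 hh0
    have hg : g ∈ D.E0 := hg0
    have hh : h ∈ D.E0 := hh0
    show (if h' : g * h ∈ D.E0 then χ (QuotientGroup.mk ⟨g * h, h'⟩) else 0) = (if h' : g ∈ D.E0 then χ (QuotientGroup.mk ⟨g, h'⟩) else 0) +
      (if h' : h ∈ D.E0 then χ (QuotientGroup.mk ⟨h, h'⟩) else 0)
    rw [dif_pos (D.E0.mul_mem hg hh), dif_pos hg, dif_pos hh, ← h1]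
    rfl
  · intro v hv
    show (if h' : v ∈ D.E0 then χ (QuotientGroup.mk ⟨v, h'⟩) else 0) = _
    rw [dif_pos (D.ker_mem_E0 hv)]
    rcases z01 (D.ψ v (some 0)) with h | h
    · have h3 : (QuotientGroup.mk ⟨v, D.ker_mem_E0 hv⟩ : D.E0 ⧸ D.K0) = 1 :=
        (D.mk_eq_one (g := ⟨v, D.ker_mem_E0 hv⟩) hv).2 h
      rw [h3, h]
      have h4 := h1 1 1
      rw [mul_one] at h4
      have h5 : χ 1 + 0 = χ 1 + χ 1 := by rw [add_zero]; exact h4
      exact (add_left_cancel h5).symm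
    · rw [h]
      apply h2
      · rw [σ_mk]; exact Subtype.ext hv
      · intro h3
        have h4 := (D.mk_eq_one (g := ⟨v, D.ker_mem_E0 hv⟩) hv).1 h3
        have h5 : D.ψ v (some 0) = 0 := h4
        rw [h] at h5
        exact absurd h5 (by decide)

end CodeExt

end

end H49.CX
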