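import Cfsg.Agent.Lib.H49.CX3

/-!
Extensions of `M23` by the code module split.
-/

set_option autoImplicit false

namespace H49.CX

open Cfsg H8.GolayCode H8.GolayCount H8.GolayBasic H8.M24Mem H93.GolayMod H9.Mult H49.CE H49.PL H49.M22D

universe v

abbrev Wd := GolayPt → ZMod 2

theorem wadd (w : Wd) : w + w = 0 := funext fun p => z2 (w p)

theorem sh_add (σ : Equiv.Perm GolayPt) (w w' : Wd) : sh σ (w + w') = sh σ w + sh σ w' := map_add _ _ _

theorem sh_C0 {σ : Equiv.Perm GolayPt} (hσ : σ ∈ Spor.M23) {w : Wd} (hw : w ∈ C0) : sh σ w ∈ C0 :=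
  comp_mem (Spor.M23.inv_mem hσ) hw

theorem nsmul_odd {n : ℕ} (hn : Odd n) (w : Wd) : n • w = w := by
  obtain ⟨k, rfl⟩ := hn
  rw [add_smul, mul_comm, mul_smul, two_smul, wadd, smul_zero, zero_add, one_smul]

/-- averaging over a cyclic group of odd order -/
theorem avg {σ : Equiv.Perm GolayPt} (hσ : σ ∈ Spor.M23) {n : ℕ} (hn : Odd n) (hσn : σ ^ n = 1) {w : Wd}
    (hw : w + sh σ w ∈ C0) (h0 : w none = 0) : ∃ w' : Wd, w + w' ∈ C0 ∧ sh σ w' = w' ∧ w' none = 0 := by
  have h1 : ∀ i : ℕ, w + sh (σ ^ i) w ∈ C0 := by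
    intro i
    induction i with
    | zero => rw [pow_zero, sh_one, wadd]; exact C0.zero_mem
    | succ i ih =>
      have h2 := C0.add_mem hw (sh_C0 hσ ih)
      have h3 : w + sh σ w + sh σ (w + sh (σ ^ i) w) = w + sh (σ ^ (i + 1)) w := by
        rw [sh_add, ← sh_mul, ← pow_succ']
        calc w + sh σ w + (sh σ w + sh (σ ^ (i + 1)) w) = w + (sh σ w + sh σ w) + sh (σ ^ (i + 1)) w := by abel
          _ = _ := by rw [wadd, add_zero]
      rwa [h3] at h2
  refine ⟨∑ i ∈ Finset.range n, sh (σ ^ i) w, ?_, ?_, ?_⟩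
  · have h2 : ∑ i ∈ Finset.range n, (w + sh (σ ^ i) w) ∈ C0 := C0.sum_mem fun i _ => h1 i
    rw [Finset.sum_add_distrib, Finset.sum_const, Finset.card_range, nsmul_odd hn] at h2
    exact h2
  · rw [map_sum]
    have h3 : ∀ i ∈ Finset.range n, sh σ (sh (σ ^ i) w) = sh (σ ^ (i + 1)) w := by
      intro i _
      rw [← sh_mul, ← pow_succ']
    rw [Finset.sum_congr rfl h3]
    have h4 := Finset.sum_range_succ' (fun i => sh (σ ^ i) w) n
    have h5 := Finset.sum_range_succ (fun i => sh (σ ^ i) w) n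
    rw [h4] at h5
    simp only [hσn, pow_zero] at h5
    exact add_right_cancel h5
  · rw [Finset.sum_apply]
    apply Finset.sum_eq_zero
    intro i _
    show w ((σ ^ i).symm none) = 0
    have h6 : σ ^ i ∈ Spor.M23 := Spor.M23.pow_mem hσ i
    have h7 : (σ ^ i).symm none = none := by
      rw [Equiv.symm_apply_eq]; exact h6.2.symm
    rw [h7, h0]

section

variable {E : Type v} [Group E] (D : CodeExt E)

namespace CodeExt

/-- cocycles with values in words extending the given embedding -/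
structure Coc (c : E → Wd) : Prop where
  mul : ∀ g h, c (g * h) = c g + sh (D.π g) (c h)
  ker : ∀ v, D.π v = 1 → c v = D.ψ v
  inf : ∀ g, c g none = 0

theorem alpha_orb (x : ZMod 23) : ∃ k : ℕ, (gα ^ k) (some 0) = some x := by
  refine ⟨x.val, ?_⟩
  have h : ∀ k : ℕ, (gα ^ k) (some 0) = some (k : ZMod 23) := by
    intro k
    induction k with
    | zero => simp
    | succ k ih =>
      rw [pow_succ', Equiv.Perm.mul_apply, ih]
      have h1 : ∀ y : ZMod 23, gα (some y) = some (y + 1) := by decide +kernel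
      rw [h1, Nat.cast_succ]
  rw [h, ZMod.natCast_zmod_val]

theorem α_mem23 : gα ∈ Spor.M23 := ⟨α_mem, H93.M23Gen.α_none⟩

theorem δ_mem23 : cubeTwist ∈ Spor.M23 := ⟨δ_mem, H93.M23Gen.δ_none⟩

theorem exists_coc [Finite E] : ∃ c : E → Wd, D.Coc c := by
  obtain ⟨χ, h1, h2⟩ := D.exists_χ
  obtain ⟨c, a1, a2, a3⟩ := exists_cocycle D.π (some 0) χ h1
  have hnone : ∀ g : E, ¬ ∃ h, D.π h (some 0) = none := by
    rintro g ⟨h, hh⟩
    have h3 : D.π h none = none := (D.hπ h).2
    have := (D.π h).injective (hh.trans h3.symm)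
    exact absurd this (by simp)
  refine ⟨c, ⟨fun g h => funext fun x => a1 g h x, ?_, fun g => a3 g none (hnone g)⟩⟩
  intro v hv
  funext x
  rcases x with _ | x
  · rw [a3 v none (hnone v)]
    exact ((D.mem v hv).2).symm
  · obtain ⟨k, hk⟩ := alpha_orb x
    obtain ⟨g, hg⟩ := D.surj _ (Spor.M23.pow_mem α_mem23 k)
    have h3 := a2 v hv g
    rw [hg, hk] at h3
    rw [h3, h2 _ (by rw [map_mul, map_mul, hv, mul_one, ← map_mul, inv_mul_cancel, map_one]), D.equi' _ _ hv, hg, hk]

/-- adding a coboundary -/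
theorem Coc.bd {c : E → Wd} (hc : D.Coc c) {m : Wd} (hm : m none = 0) :
    D.Coc (fun g => c g + (m + sh (D.π g) m)) := by
  refine ⟨?_, ?_, ?_⟩
  · intro g h
    show c (g * h) + (m + sh (D.π (g * h)) m) = c g + (m + sh (D.π g) m) + sh (D.π g) (c h + (m + sh (D.π h) m))
    rw [hc.mul, map_mul, sh_mul, sh_add, sh_add]
    calc c g + sh (D.π g) (c h) + (m + sh (D.π g) (sh (D.π h) m))
        = c g + sh (D.π g) (c h) + (m + 0 + sh (D.π g) (sh (D.π h) m)) := by rw [add_zero]
      _ = c g + sh (D.π g) (c h) + (m + (sh (D.π g) m + sh (D.π g) m) + sh (D.π g) (sh (D.π h) m)) := by rw [wadd]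
      _ = _ := by abel
  · intro v hv
    show c v + (m + sh (D.π v) m) = D.ψ v
    rw [hv, sh_one, wadd, add_zero, hc.ker v hv]
  · intro g
    show c g none + (m none + sh (D.π g) m none) = 0
    have h1 : sh (D.π g) m none = 0 := by
      show m ((D.π g).symm none) = 0
      have h2 : (D.π g).symm none = none := by
        rw [Equiv.symm_apply_eq]; exact ((D.hπ g).2).symm
      rw [h2, hm]
    rw [hc.inf, hm, h1]; simp

theorem Coc.one {c : E → Wd} (hc : D.Coc c) : c 1 = 0 := by
  rw [hc.ker 1 (map_one _), D.ψ_one]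

/-- normalising on one element of odd order -/
theorem Coc.normalize {c : E → Wd} (hc : D.Coc c) {g : E} {n : ℕ} (hn : Odd n) (hg : D.π g ^ n = 1) :
    ∃ c' : E → Wd, D.Coc c' ∧ c' g ∈ C0 := by
  obtain ⟨m, hm⟩ : ∃ m, m = ∑ i ∈ Finset.range n, c (g ^ i) := ⟨_, rfl⟩
  have hm0 : m none = 0 := by
    rw [hm, Finset.sum_apply]
    exact Finset.sum_eq_zero fun i _ => hc.inf _
  refine ⟨_, hc.bd D hm0, ?_⟩
  show c g + (m + sh (D.π g) m) ∈ C0
  have h1 : sh (D.π g) m = m + c (g ^ n) + c g := by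
    have h2 : ∀ i ∈ Finset.range n, sh (D.π g) (c (g ^ i)) = c (g ^ (i + 1)) + c g := by
      intro i _
      rw [pow_succ', hc.mul]
      calc sh (D.π g) (c (g ^ i)) = 0 + sh (D.π g) (c (g ^ i)) := by rw [zero_add]
        _ = (c g + c g) + sh (D.π g) (c (g ^ i)) := by rw [wadd]
        _ = _ := by abel
    conv_lhs => rw [hm, map_sum]
    rw [Finset.sum_congr rfl h2, Finset.sum_add_distrib, Finset.sum_const, Finset.card_range, nsmul_odd hn]
    have h4 := Finset.sum_range_succ' (fun i => c (g ^ i)) n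
    have h5 := Finset.sum_range_succ (fun i => c (g ^ i)) n
    rw [h4] at h5
    simp only [pow_zero, hc.one D, add_zero] at h5
    rw [h5, ← hm]
  rw [h1]
  have h6 : c g + (m + (m + c (g ^ n) + c g)) = c (g ^ n) := by
    calc c g + (m + (m + c (g ^ n) + c g)) = (c g + c g) + (m + m) + c (g ^ n) := by abel
      _ = _ := by rw [wadd, wadd, zero_add, zero_add]
  rw [h6]
  have h7 : D.π (g ^ n) = 1 := by rw [map_pow, hg]
  rw [hc.ker _ h7]
  exact D.mem _ h7

/-- an element on which the cocycle is congruent to an invariant word -/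
theorem Coc.mem_of_inv {c : E → Wd} (hc : D.Coc c) {g : E} {n : ℕ} (hn : Odd n) (hg : D.π g ^ n = 1) {w : Wd}
    (hw : c g + w ∈ C0) (hgw : sh (D.π g) w = w) : c g ∈ C0 := by
  have h1 : ∀ k : ℕ, c (g ^ k) + k • w ∈ C0 := by
    intro k
    induction k with
    | zero => rw [pow_zero, hc.one D, zero_smul, add_zero]; exact C0.zero_mem
    | succ k ih =>
      have h2 := C0.add_mem hw (sh_C0 (D.hπ g) ih)
      have h3 : c g + w + sh (D.π g) (c (g ^ k) + k • w) = c (g ^ (k + 1)) + (k + 1) • w := by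
        rw [pow_succ', hc.mul, sh_add, map_nsmul, hgw, add_smul, one_smul]
        abel
      rwa [h3] at h2
  have h4 := h1 n
  have h7 : D.π (g ^ n) = 1 := by rw [map_pow, hg]
  rw [nsmul_odd hn, hc.ker _ h7] at h4
  have h5 : w ∈ C0 := by
    have := C0.add_mem (D.mem _ h7) h4
    have h6 : D.ψ (g ^ n) + (D.ψ (g ^ n) + w) = w := by
      rw [← add_assoc, wadd, zero_add]
    rwa [h6] at this
  have := C0.add_mem hw h5
  have h6 : c g + w + w = c g := by rw [add_assoc, wadd, add_zero]
  rwa [h6] at this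

/-- the elements with values in the code -/
def Hc {c : E → Wd} (hc : D.Coc c) : Subgroup E where
  carrier := {g | c g ∈ C0}
  one_mem' := by rw [Set.mem_ofPred_eq, hc.one D]; exact C0.zero_mem
  mul_mem' := by
    intro g h hg hh
    rw [Set.mem_ofPred_eq] at hg hh ⊢
    rw [hc.mul]
    exact C0.add_mem hg (sh_C0 (D.hπ g) hh)
  inv_mem' := by
    intro g hg
    rw [Set.mem_ofPred_eq] at hg ⊢
    have h1 := hc.mul g⁻¹ g
    rw [inv_mul_cancel, hc.one D] at h1
    have h2 := sh_C0 (D.hπ g⁻¹) hg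
    have h3 : c g⁻¹ = sh (D.π g⁻¹) (c g) := by
      calc c g⁻¹ = c g⁻¹ + (sh (D.π g⁻¹) (c g) + sh (D.π g⁻¹) (c g)) := by rw [wadd, add_zero]
        _ = (c g⁻¹ + sh (D.π g⁻¹) (c g)) + sh (D.π g⁻¹) (c g) := by abel
        _ = _ := by rw [← h1, zero_add]
    rw [h3]
    exact h2

theorem mem_Hc {c : E → Wd} (hc : D.Coc c) {g : E} : g ∈ D.Hc hc ↔ c g ∈ C0 := Iff.rfl

theorem ker_Hc {c : E → Wd} (hc : D.Coc c) {v : E} (hv : D.π v = 1) : v ∈ D.Hc hc := by
  rw [mem_Hc, hc.ker v hv]; exact D.mem v hv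

/-- membership depends only on the image -/
theorem Hc_of_eq {c : E → Wd} (hc : D.Coc c) {g h : E} (hgh : D.π g = D.π h) (hh : h ∈ D.Hc hc) : g ∈ D.Hc hc := by
  have h1 : g = (g * h⁻¹) * h := by group
  rw [h1]
  exact (D.Hc hc).mul_mem (D.ker_Hc hc (by rw [map_mul, map_inv, hgh, mul_inv_cancel])) hh

/-- congruence of values -/
theorem c_congr {c : E → Wd} (hc : D.Coc c) {g h : E} (hgh : D.π g = D.π h) : c g + c h ∈ C0 := by
  have h1 : g = (g * h⁻¹) * h := by group
  have h2 : D.π (g * h⁻¹) = 1 := by rw [map_mul, map_inv, hgh, mul_inv_cancel]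
  have h3 : c g = D.ψ (g * h⁻¹) + c h := by
    conv_lhs => rw [h1, hc.mul, h2, sh_one, hc.ker _ h2]
  rw [h3, add_assoc, wadd, add_zero]
  exact D.mem _ h2

theorem okβ : okT (tab 0xbaecaaa68899e468960478dc268580) (tab 0xbd6717b56939461b52507314831040) = true := by
  decide +kernel

def pβ : Equiv.Perm GolayPt := permT _ _ okβ

theorem β_mem23 : pβ ∈ Spor.M23 := ⟨permT_mem _ (by decide +kernel), by
  show pβ none = none
  decide +kernel⟩

theorem αβ : gα * pβ = pβ * (gα * gα) := Equiv.ext (by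
  show ∀ p, gα (pβ p) = pβ (gα (gα p))
  decide +kernel)

theorem βδ : pβ * cubeTwist = cubeTwist * (pβ * pβ * (pβ * pβ)) := Equiv.ext (by
  show ∀ p, pβ (cubeTwistFun p) = cubeTwistFun (pβ (pβ (pβ (pβ p))))
  decide +kernel)

theorem α_pow : gα ^ 23 = 1 := by
  apply Equiv.ext
  have h : ∀ (k : ℕ) (y : ZMod 23), (gα ^ k) (some y) = some (y + k) := by
    intro k y
    induction k with
    | zero => simp
    | succ k ih =>
      rw [pow_succ', Equiv.Perm.mul_apply, ih]
      have h1 : ∀ y : ZMod 23, gα (some y) = some (y + 1) := by decide +kernel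
      rw [h1, Nat.cast_succ, add_assoc]
  rintro (_ | y)
  · have : gα ^ 23 ∈ Spor.M23 := Spor.M23.pow_mem α_mem23 23
    exact this.2
  · rw [h, show ((23 : ℕ) : ZMod 23) = 0 from by decide, add_zero]; rfl

theorem pow_eq_iter (σ : Equiv.Perm GolayPt) (n : ℕ) (p : GolayPt) : (σ ^ n) p = (fun q => σ q)^[n] p := by
  rw [← Equiv.Perm.iterate_eq_pow]

theorem β_pow : pβ ^ 11 = 1 := by
  apply Equiv.ext
  intro p
  rw [pow_eq_iter]
  revert p
  decide +kernel

theorem δ_pow : cubeTwist ^ 5 = 1 := by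
  apply Equiv.ext
  intro p
  rw [pow_eq_iter]
  show (cubeTwistFun)^[5] p = p
  revert p
  decide +kernel

/-- the cocycle can be chosen with values in the code -/
theorem exists_coc' [Finite E] : ∃ c : E → Wd, D.Coc c ∧ ∀ g, c g ∈ C0 := by
  obtain ⟨c0, hc0⟩ := D.exists_coc
  obtain ⟨a, ha⟩ := D.surj _ α_mem23
  obtain ⟨b, hb⟩ := D.surj _ β_mem23
  obtain ⟨d, hd⟩ := D.surj _ δ_mem23
  obtain ⟨c, hc, hca⟩ := hc0.normalize D (g := a) (n := 23) (by decide) (by rw [ha, α_pow])
  refine ⟨c, hc, ?_⟩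
  -- beta
  have hβ : c b ∈ C0 := by
    have h1 : c b + sh gα (c b) ∈ C0 := by
      have e1 := D.c_congr hc (g := a * b) (h := b * (a * a)) (by
        rw [map_mul, map_mul, map_mul, ha, hb, αβ])
      rw [hc.mul, hc.mul b (a * a), ha] at e1
      have e2 : sh (D.π b) (c (a * a)) ∈ C0 := sh_C0 (D.hπ b) ((D.Hc hc).mul_mem hca hca)
      have e3 := C0.add_mem (C0.add_mem e1 hca) e2
      have e4 : c a + sh gα (c b) + (c b + sh (D.π b) (c (a * a))) + c a + sh (D.π b) (c (a * a)) =
          c b + sh gα (c b) := by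
        calc c a + sh gα (c b) + (c b + sh (D.π b) (c (a * a))) + c a + sh (D.π b) (c (a * a))
            = (c a + c a) + (sh (D.π b) (c (a * a)) + sh (D.π b) (c (a * a))) + (c b + sh gα (c b)) := by abel
          _ = _ := by rw [wadd, wadd, zero_add, zero_add]
      rwa [e4] at e3
    obtain ⟨w, w1, w2, w3⟩ := avg α_mem23 (by decide : Odd 23) α_pow h1 (hc.inf b)
    have w4 : ∀ x : ZMod 23, w (some x) = w (some 0) := by
      intro x
      obtain ⟨k, hk⟩ := alpha_orb x
      have h2 : ∀ k : ℕ, ∀ p, w ((gα ^ k) p) = w p := by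
        intro k
        induction k with
        | zero => intro p; rfl
        | succ k ih =>
          intro p
          rw [pow_succ, Equiv.Perm.mul_apply, ih]
          have h3 := congrFun w2 (gα p)
          have h4 : sh gα w (gα p) = w p := congrArg w (gα.symm_apply_apply p)
          rw [h4] at h3
          exact h3.symm
      rw [← hk, h2]
    have w5 : sh pβ w = w := by
      funext p
      show w (pβ.symm p) = w p
      rcases p with _ | x
      · have : pβ.symm none = none := by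
          rw [Equiv.symm_apply_eq]; exact β_mem23.2.symm
        rw [this]
      · obtain ⟨y, hy⟩ : ∃ y, y = pβ.symm (some x) := ⟨_, rfl⟩
        rw [← hy]
        rcases y with _ | y
        · exfalso
          rw [Equiv.eq_symm_apply] at hy
          have h5 : pβ none = none := β_mem23.2
          rw [h5] at hy
          exact absurd hy (by simp)
        · rw [w4 x, w4 y]
    exact hc.mem_of_inv D (n := 11) (by decide) (by rw [hb, β_pow]) w1 (by rw [hb]; exact w5)
  have hδ : c d ∈ C0 := by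
    have h1 : c d + sh pβ (c d) ∈ C0 := by
      have e1 := D.c_congr hc (g := b * d) (h := d * (b * b * (b * b))) (by
        rw [map_mul, map_mul, map_mul, map_mul, hb, hd, βδ])
      rw [hc.mul, hc.mul d (b * b * (b * b)), hb] at e1
      have e2 : sh (D.π d) (c (b * b * (b * b))) ∈ C0 :=
        sh_C0 (D.hπ d) ((D.Hc hc).mul_mem ((D.Hc hc).mul_mem hβ hβ) ((D.Hc hc).mul_mem hβ hβ))
      have e3 := C0.add_mem (C0.add_mem e1 hβ) e2
      have e4 : c b + sh pβ (c d) + (c d + sh (D.π d) (c (b * b * (b * b)))) + c b + sh (D.π d) (c (b * b * (b * b))) =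
          c d + sh pβ (c d) := by
        calc c b + sh pβ (c d) + (c d + sh (D.π d) (c (b * b * (b * b)))) + c b + sh (D.π d) (c (b * b * (b * b)))
            = (c b + c b) + (sh (D.π d) (c (b * b * (b * b))) + sh (D.π d) (c (b * b * (b * b)))) + (c d + sh pβ (c d)) := by abel
          _ = _ := by rw [wadd, wadd, zero_add, zero_add]
      rwa [e4] at e3
    obtain ⟨w, w1, w2, w3⟩ := avg β_mem23 (by decide : Odd 11) β_pow h1 (hc.inf d)
    have w5 : sh cubeTwist w = w := by
      have h2 : ∀ k : ℕ, ∀ p, w ((fun q => pβ q)^[k] p) = w p := by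
        intro k
        induction k with
        | zero => intro p; rfl
        | succ k ih =>
          intro p
          rw [Function.iterate_succ_apply, ih]
          have h3 := congrFun w2 (pβ p)
          have h4 : sh pβ w (pβ p) = w p := congrArg w (pβ.symm_apply_apply p)
          rw [h4] at h3
          exact h3.symm
      have h6 : ∀ p : GolayPt, ∃ k : Fin 11, cubeTwistFun p = (fun q => pβ q)^[k.1] p := by
        decide +kernel
      have h7 : ∀ p, w (cubeTwist p) = w p := by
        intro p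
        obtain ⟨k, hk⟩ := h6 p
        have h8 : cubeTwist p = cubeTwistFun p := rfl
        rw [h8, hk, h2]
      funext p
      show w (cubeTwist.symm p) = w p
      have h9 := h7 (cubeTwist.symm p)
      rw [cubeTwist.apply_symm_apply] at h9
      exact h9.symm
    exact hc.mem_of_inv D (n := 5) (by decide) (by rw [hd, δ_pow]) w1 (by rw [hd]; exact w5)
  -- generation
  intro g
  have key : ∀ x ∈ Spor.M23, ∀ g : E, D.π g = x → g ∈ D.Hc hc := by
    intro x hx
    rw [← H93.M23Gen.K3_eq] at hx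
    unfold H93.M23Gen.K3 at hx
    induction hx using Subgroup.closure_induction with
    | mem x hx =>
      intro g hg
      simp only [Set.mem_insert_iff, Set.mem_singleton_iff] at hx
      rcases hx with rfl | rfl
      · exact D.Hc_of_eq hc (by rw [hg, ha]) hca
      · exact D.Hc_of_eq hc (by rw [hg, hd]) hδ
    | one => exact fun g hg => D.ker_Hc hc hg
    | mul x y hx hy hx' hy' =>
      intro g hg
      have hxm : x ∈ Spor.M23 := by rw [← H93.M23Gen.K3_eq]; exact hx
      obtain ⟨h, hh⟩ := D.surj x hxm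
      have h1 : g = h * (h⁻¹ * g) := by group
      rw [h1]
      refine (D.Hc hc).mul_mem (hx' h hh) (hy' _ ?_)
      rw [map_mul, map_inv, hh, hg]; group
    | inv x hx hx' =>
      intro g hg
      have h1 := hx' g⁻¹ (by rw [map_inv, hg, inv_inv])
      rw [← inv_inv g]
      exact (D.Hc hc).inv_mem h1
  exact key _ (D.hπ g) g rfl

/-- the complement -/
theorem exists_compl [Finite E] : ∃ H : Subgroup E, (∀ h ∈ H, D.π h = 1 → h = 1) ∧
    ∀ g, ∃ v, D.π v = 1 ∧ v * g ∈ H := by
  obtain ⟨c, hc, hcm⟩ := D.exists_coc'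
  let H : Subgroup E :=
    { carrier := {g | c g = 0}
      one_mem' := by rw [Set.mem_ofPred_eq]; exact hc.one D
      mul_mem' := by
        intro g h hg hh
        rw [Set.mem_ofPred_eq] at hg hh ⊢
        rw [hc.mul, hg, hh, map_zero, add_zero]
      inv_mem' := by
        intro g hg
        rw [Set.mem_ofPred_eq] at hg ⊢
        have h1 := hc.mul g⁻¹ g
        rw [inv_mul_cancel, hc.one D, hg, map_zero, add_zero] at h1
        exact h1.symm }
  refine ⟨H, ?_, ?_⟩
  · intro h hh h1
    have h2 : c h = 0 := hh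
    rw [hc.ker h h1] at h2
    exact D.inj h h1 h2
  · intro g
    obtain ⟨v, hv1, hv2⟩ := D.ex _ (hcm g)
    refine ⟨v, hv1, ?_⟩
    show c (v * g) = 0
    rw [hc.mul, hv1, sh_one, hc.ker v hv1, hv2, wadd]

end CodeExt

end

end H49.CX
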