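import Cfsg.Agent.Lib.H49.NormSurj
import Cfsg.Agent.Lib.H48.QuadSplit
import Cfsg.Agent.Lib.H16.Symp

set_option autoImplicit false
set_option linter.unusedSectionVars false

/-! Two `ε`-symmetric non-degenerate forms over a finite field, invariant under an automorphism `g`
with `g ^ 2 - 1` invertible, are equivalent by an automorphism commuting with `g`. -/

namespace H49.FormConj

open Matrix

variable {ι : Type*} [Fintype ι] [DecidableEq ι] {F : Type*} [Field F] [Finite F]

/-- Matrix version. -/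
theorem matrix_version (A J J' : Matrix ι ι F) (ε : F) (hε : ε * ε = 1) (hJ : IsUnit J)
    (hJ' : IsUnit J') (hJt : Jᵀ = ε • J) (hJt' : J'ᵀ = ε • J') (hA : Aᵀ * J * A = J)
    (hA' : Aᵀ * J' * A = J') (h2 : IsUnit (A * A - 1)) :
    ∃ Y : Matrix ι ι F, IsUnit Y ∧ Y * A = A * Y ∧ Yᵀ * J * Y = J' := by
  have := Fintype.ofFinite F
  obtain ⟨j, rfl⟩ := hJ
  set J := (j : Matrix ι ι F) with hJdef
  set Ji := ((j⁻¹ : (Matrix ι ι F)ˣ) : Matrix ι ι F) with hJidef
  have e1 : J * Ji = 1 := j.mul_inv
  have e2 : Ji * J = 1 := j.inv_mul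
  have hε0 : ε ≠ 0 := by rintro rfl; simp at hε
  -- inverse of `A`
  set Ai : Matrix ι ι F := Ji * Aᵀ * J with hAi
  have a1 : Ai * A = 1 := by
    rw [hAi]
    calc Ji * Aᵀ * J * A = Ji * (Aᵀ * J * A) := by noncomm_ring
      _ = 1 := by rw [hA, e2]
  have a2 : A * Ai = 1 := mul_eq_one_comm.mp a1
  have hJit : Jiᵀ = ε • Ji := by
    have h3 : Jiᵀ * Jᵀ = 1 := by rw [← Matrix.transpose_mul, e1, Matrix.transpose_one]
    rw [hJt, Matrix.mul_smul] at h3
    calc Jiᵀ = Jiᵀ * (J * Ji) := by rw [e1, mul_one]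
      _ = ε • ((ε • (Jiᵀ * J)) * Ji) := by
          rw [Matrix.smul_mul, smul_smul, hε, one_smul]; noncomm_ring
      _ = ε • Ji := by rw [h3, one_mul]
  -- the anti-involution
  let τ : Matrix ι ι F → Matrix ι ι F := fun x => Ji * xᵀ * J
  have hadd : ∀ x y, τ (x + y) = τ x + τ y := by
    intro x y
    simp only [τ, Matrix.transpose_add]
    noncomm_ring
  have hmul : ∀ x y, τ (x * y) = τ y * τ x := by
    intro x y
    simp only [τ, Matrix.transpose_mul]
    calc Ji * (yᵀ * xᵀ) * J = Ji * yᵀ * 1 * (xᵀ * J) := by noncomm_ring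
      _ = Ji * yᵀ * (J * Ji) * (xᵀ * J) := by rw [e1]
      _ = _ := by noncomm_ring
  have h1 : τ 1 = 1 := by simp only [τ, Matrix.transpose_one, mul_one, e2]
  have hττ : ∀ x, τ (τ x) = x := by
    intro x
    simp only [τ, Matrix.transpose_mul, Matrix.transpose_transpose, hJit, hJt]
    calc Ji * (ε • J * (x * ε • Ji)) * J = (ε * ε) • (Ji * J * x * (Ji * J)) := by
          simp only [Matrix.smul_mul, Matrix.mul_smul, smul_smul]; noncomm_ring
      _ = x := by rw [hε, one_smul, e2, one_mul, mul_one]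
  have hτA : τ A = Ai := rfl
  have hτAi : τ Ai = A := by rw [← hτA, hττ]
  set s : Matrix ι ι F := Ji * J' with hs
  have hτs : τ s = s := by
    simp only [τ, hs, Matrix.transpose_mul, hJit, hJt']
    calc Ji * (ε • J' * ε • Ji) * J = (ε * ε) • (Ji * J' * (Ji * J)) := by
          simp only [Matrix.smul_mul, Matrix.mul_smul, smul_smul]; noncomm_ring
      _ = Ji * J' := by rw [hε, one_smul, e2, mul_one]
  -- commutation of `A` and `s`
  have hAs : A * s = s * A := by
    have h3 : Ai * s = s * Ai := by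
      have h4 : Ai * Ji * J' * A = Ji * J' := by
        have : Ji * (Aᵀ * J' * A) = Ji * J' := by rw [hA']
        rw [← this, hAi]
        calc Ji * Aᵀ * J * Ji * J' * A = Ji * Aᵀ * (J * Ji) * J' * A := by noncomm_ring
          _ = _ := by rw [e1]; noncomm_ring
      calc Ai * s = Ai * Ji * J' * (A * Ai) := by rw [a2, hs]; noncomm_ring
        _ = (Ai * Ji * J' * A) * Ai := by noncomm_ring
        _ = s * Ai := by rw [h4]
    calc A * s = A * (s * Ai) * A := by
          calc A * s = A * s * 1 := (mul_one _).symm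
            _ = A * s * (Ai * A) := by rw [a1]
            _ = _ := by noncomm_ring
      _ = (A * Ai) * s * A := by rw [← h3]; noncomm_ring
      _ = s * A := by rw [a2, one_mul]
  have hAis : Ai * s = s * Ai := by
    calc Ai * s = Ai * s * (A * Ai) := by rw [a2, mul_one]
      _ = Ai * (s * A) * Ai := by noncomm_ring
      _ = Ai * (A * s) * Ai := by rw [hAs]
      _ = (Ai * A) * s * Ai := by noncomm_ring
      _ = s * Ai := by rw [a1, one_mul]
  let S : Set (Matrix ι ι F) := {A, Ai, s}
  have hcomm : ∀ x ∈ S, ∀ y ∈ S, x * y = y * x := by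
    rintro x (rfl | rfl | rfl) y (rfl | rfl | rfl)
    · rfl
    · rw [a1, a2]
    · exact hAs
    · rw [a1, a2]
    · rfl
    · exact hAis
    · exact hAs.symm
    · exact hAis.symm
    · rfl
  have mA : A ∈ Subring.closure S := Subring.subset_closure (by simp [S])
  have mAi : Ai ∈ Subring.closure S := Subring.subset_closure (by simp [S])
  have ms : s ∈ Subring.closure S := Subring.subset_closure (by simp [S])
  have hstab : ∀ x ∈ S, τ x ∈ Subring.closure S := by
    rintro x (rfl | rfl | rfl)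
    · rw [hτA]; exact mAi
    · rw [hτAi]; exact mA
    · rw [hτs]; exact ms
  have hinv : ∀ x ∈ S, τ (τ x) = x := fun x _ => hττ x
  have hθ : IsUnit (A - τ A) := by
    rw [hτA]
    have h3 : A - Ai = Ai * (A * A - 1) := by
      calc A - Ai = (Ai * A) * A - Ai := by rw [a1, one_mul]
        _ = _ := by noncomm_ring
    rw [h3]
    exact IsUnit.mul ⟨⟨Ai, A, a1, a2⟩, rfl⟩ h2
  have hsu : IsUnit s := by
    rw [hs]
    exact (j⁻¹).isUnit.mul hJ'
  have hfin : Finite (Matrix ι ι F) := inferInstance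
  obtain ⟨y, hyS, hyu, hy⟩ := NormSurj.nc_norm_surj τ hadd hmul h1 S hcomm hstab hinv A mA hθ s ms
    hsu hτs
  refine ⟨y, hyu, NormSurj.closure_comm S hcomm hyS mA, ?_⟩
  calc yᵀ * J * y = J * (τ y * y) := by
        simp only [τ]
        calc yᵀ * J * y = 1 * yᵀ * J * y := by rw [one_mul]
          _ = (J * Ji) * yᵀ * J * y := by rw [e1]
          _ = _ := by noncomm_ring
    _ = J * s := by rw [← hy]
    _ = J' := by rw [hs, ← mul_assoc, e1, one_mul]

end H49.FormConj
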