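import Cfsg.Agent.Lib.H49.FormConj
import Cfsg.Agent.Lib.H49.EmbedSymp
import Cfsg.Agent.Lib.H48.QuadStd

set_option autoImplicit false
set_option linter.unusedSectionVars false

/-! Semisimple isometries: two invariant forms of the same kind are equivalent by an automorphism
commuting with the isometry (finite fields). -/

namespace H49.FormConj2

open QuadraticMap H48.QuadSplit

variable {F : Type*} [Field F] {V : Type*} [AddCommGroup V] [Module F V]
  [FiniteDimensional F V]

/-- one-sided nondegeneracy -/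
def NDB (f : LinearMap.BilinForm F V) : Prop := ∀ x, (∀ y, f x y = 0) → x = 0

/-- transport of the matrix version -/
theorem abs_version [Finite F] (g : V →ₗ[F] V) (f f' : LinearMap.BilinForm F V) (ε : F)
    (hε : ε * ε = 1) (hf : NDB f) (hf' : NDB f') (hs : ∀ u v, f u v = ε * f v u)
    (hs' : ∀ u v, f' u v = ε * f' v u) (hg : ∀ u v, f (g u) (g v) = f u v)
    (hg' : ∀ u v, f' (g u) (g v) = f' u v) (h1 : ∀ v, g (g v) = v → v = 0) :
    ∃ y : V ≃ₗ[F] V, (∀ v, y (g v) = g (y v)) ∧ ∀ u v, f (y u) (y v) = f' u v := by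
  let b := Module.finBasis F V
  set J := LinearMap.BilinForm.toMatrix b f with hJ
  set J' := LinearMap.BilinForm.toMatrix b f' with hJ'
  set A := LinearMap.toMatrix b b g with hA
  have hε0 : ε ≠ 0 := by rintro rfl; simp at hε
  have nd_unit : ∀ (f : LinearMap.BilinForm F V), NDB f → (∀ u v, f u v = ε * f v u) →
      IsUnit (LinearMap.BilinForm.toMatrix b f) := by
    intro f hf hs
    rw [Matrix.isUnit_iff_isUnit_det, isUnit_iff_ne_zero]
    refine (LinearMap.BilinForm.nondegenerate_iff_det_ne_zero b).mp ?_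
    refine ⟨fun x hx => hf x hx, fun x hx => hf x fun y => ?_⟩
    rw [hs, hx y, mul_zero]
  have hJt : ∀ (f : LinearMap.BilinForm F V), (∀ u v, f u v = ε * f v u) →
      (LinearMap.BilinForm.toMatrix b f).transpose = ε • (LinearMap.BilinForm.toMatrix b f) := by
    intro f hs
    ext i j
    rw [Matrix.transpose_apply, Matrix.smul_apply, LinearMap.BilinForm.toMatrix_apply,
      LinearMap.BilinForm.toMatrix_apply, hs, smul_eq_mul]
  have hinv : ∀ (f : LinearMap.BilinForm F V), (∀ u v, f (g u) (g v) = f u v) →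
      A.transpose * (LinearMap.BilinForm.toMatrix b f) * A = LinearMap.BilinForm.toMatrix b f := by
    intro f hg
    rw [hA]
    refine (LinearMap.BilinForm.toMatrix_comp b b f g g).symm.trans ?_
    congr 1
    ext u v
    exact hg _ _
  have hfin : IsUnit (A * A - 1) := by
    let g' : Module.End F V := g
    have h2 : A * A - 1 = LinearMap.toMatrixAlgEquiv b (g' * g' - 1) := by
      rw [map_sub, map_mul, map_one]
      rfl
    have h3 : Function.Injective (g' * g' - 1 : Module.End F V) := by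
      rw [← LinearMap.ker_eq_bot, LinearMap.ker_eq_bot']
      intro v hv
      apply h1
      exact sub_eq_zero.mp hv
    have h4 : IsUnit (g' * g' - 1 : Module.End F V) := by
      rw [Module.End.isUnit_iff]
      exact ⟨h3, LinearMap.surjective_of_injective h3⟩
    rw [h2]
    exact h4.map (LinearMap.toMatrixAlgEquiv b)
  obtain ⟨Y, hYu, hYA, hYJ⟩ := FormConj.matrix_version A J J' ε hε (nd_unit f hf hs)
    (nd_unit f' hf' hs') (hJt f hs) (hJt f' hs') (hinv f hg) (hinv f' hg') hfin
  let y0 : V →ₗ[F] V := Matrix.toLin b b Y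
  have hy0 : LinearMap.toMatrix b b y0 = Y := LinearMap.toMatrix_toLin b b Y
  have hform : ∀ u v, f (y0 u) (y0 v) = f' u v := by
    have h2 : f.comp y0 y0 = f' := by
      apply (LinearMap.BilinForm.toMatrix b).injective
      rw [BilinForm.toMatrix_comp b b f y0 y0, hy0]
      exact hYJ
    intro u v
    rw [← h2]; rfl
  have hcomm : y0 ∘ₗ g = g ∘ₗ y0 := by
    apply (LinearMap.toMatrix b b).injective
    rw [LinearMap.toMatrix_comp b b b, LinearMap.toMatrix_comp b b b, hy0]
    exact hYA
  have hinj : Function.Injective y0 := by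
    rw [← LinearMap.ker_eq_bot, LinearMap.ker_eq_bot']
    intro x hx
    apply hf'
    intro z
    rw [← hform, hx, map_zero, LinearMap.zero_apply]
  refine ⟨LinearEquiv.ofInjectiveEndo y0 hinj, fun v => ?_, hform⟩
  exact LinearMap.congr_fun hcomm v

/-! ### Splitting off the fixed space -/

/-- for an operator of order prime to the characteristic -/
theorem exists_split (g : V →ₗ[F] V) (N : ℕ) (hN : (N : F) ≠ 0) (hg : g ^ N = 1) :
    ∃ U W : Submodule F V, IsCompl U W ∧ (∀ v, v ∈ U ↔ g v = v) ∧ (∀ v ∈ W, g v ∈ W) ∧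
      (∀ v ∈ W, ∑ k ∈ Finset.range N, (g ^ k) v = 0) ∧ (∀ v ∈ W, g v = v → v = 0) := by
  set Ψ : V →ₗ[F] V := ∑ k ∈ Finset.range N, g ^ k with hΨ
  have hΨg : Ψ * (g - 1) = 0 := by
    rw [hΨ, geom_sum_mul, hg, sub_self]
  have hgΨ : (g - 1) * Ψ = 0 := by
    rw [hΨ, mul_geom_sum, hg, sub_self]
  have hΨfix : ∀ v, g v = v → Ψ v = (N : F) • v := by
    intro v hv
    have h1 : ∀ k, (g ^ k) v = v := by
      intro k
      induction k with
      | zero => rfl
      | succ k ih => rw [pow_succ, Module.End.mul_apply, hv, ih]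
    rw [hΨ, LinearMap.sum_apply]
    simp only [h1, Finset.sum_const, Finset.card_range]
    rw [Nat.cast_smul_eq_nsmul]
  have hgΨ' : ∀ v, g (Ψ v) = Ψ v := by
    intro v
    have := LinearMap.congr_fun hgΨ v
    rw [Module.End.mul_apply, LinearMap.sub_apply, Module.End.one_apply] at this
    exact sub_eq_zero.mp this
  have hΨg' : ∀ v, Ψ (g v) = Ψ v := by
    intro v
    have := LinearMap.congr_fun hΨg v
    rw [Module.End.mul_apply, LinearMap.sub_apply, Module.End.one_apply, map_sub] at this
    exact sub_eq_zero.mp this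
  refine ⟨LinearMap.ker (g - 1), LinearMap.ker Ψ, ?_, ?_, ?_, ?_, ?_⟩
  · constructor
    · rw [Submodule.disjoint_def]
      intro v hv hv'
      rw [LinearMap.mem_ker, LinearMap.sub_apply, Module.End.one_apply, sub_eq_zero] at hv
      have h1 := hΨfix v hv
      rw [LinearMap.mem_ker.mp hv'] at h1
      exact (smul_eq_zero.mp h1.symm).resolve_left hN
    · rw [codisjoint_iff, eq_top_iff]
      intro v _
      have h1 : v = (N : F)⁻¹ • Ψ v + (v - (N : F)⁻¹ • Ψ v) := by abel
      rw [h1]
      refine Submodule.add_mem_sup ?_ ?_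
      · rw [LinearMap.mem_ker, LinearMap.sub_apply, Module.End.one_apply, map_smul, hgΨ',
          sub_self]
      · rw [LinearMap.mem_ker, map_sub, map_smul, hΨfix _ (hgΨ' v), smul_smul,
          inv_mul_cancel₀ hN, one_smul, sub_self]
  · intro v
    rw [LinearMap.mem_ker, LinearMap.sub_apply, Module.End.one_apply, sub_eq_zero]
  · intro v hv
    rw [LinearMap.mem_ker] at hv ⊢
    rw [hΨg', hv]
  · intro v hv
    rw [LinearMap.mem_ker, hΨ, LinearMap.sum_apply] at hv
    exact hv
  · intro v hv hgv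
    have h1 := hΨfix v hgv
    rw [LinearMap.mem_ker.mp hv] at h1
    exact (smul_eq_zero.mp h1.symm).resolve_left hN

/-- orthogonality -/
theorem split_orth (g : V →ₗ[F] V) (N : ℕ) (hN : (N : F) ≠ 0)
    (f : LinearMap.BilinForm F V) (hg : ∀ u v, f (g u) (g v) = f u v) (u w : V)
    (hu : g u = u) (hw : ∑ k ∈ Finset.range N, (g ^ k) w = 0) : f u w = 0 ∧ f w u = 0 := by
  have h1 : ∀ k, f u ((g ^ k) w) = f u w := by
    intro k
    induction k with
    | zero => rfl
    | succ k ih =>
      rw [pow_succ', Module.End.mul_apply]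
      conv_lhs => rw [← hu]
      rw [hg, ih]
  have h1' : ∀ k, f ((g ^ k) w) u = f w u := by
    intro k
    induction k with
    | zero => rfl
    | succ k ih =>
      rw [pow_succ', Module.End.mul_apply]
      conv_lhs => rw [← hu]
      rw [hg, ih]
  constructor
  · have h2 : f u (∑ k ∈ Finset.range N, (g ^ k) w) = (N : F) * f u w := by
      rw [map_sum]
      simp only [h1, Finset.sum_const, Finset.card_range, nsmul_eq_mul]
    rw [hw, map_zero] at h2
    exact (mul_eq_zero.mp h2.symm).resolve_left hN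
  · have h2 : f (∑ k ∈ Finset.range N, (g ^ k) w) u = (N : F) * f w u := by
      rw [map_sum, LinearMap.sum_apply]
      simp only [h1', Finset.sum_const, Finset.card_range, nsmul_eq_mul]
    rw [hw, map_zero, LinearMap.zero_apply] at h2
    exact (mul_eq_zero.mp h2.symm).resolve_left hN

/-- gluing two automorphisms -/
theorem glue (U W : Submodule F V) (hc : IsCompl U W) (g : V →ₗ[F] V)
    (hgU : ∀ v ∈ U, g v ∈ U) (hgW : ∀ v ∈ W, g v ∈ W) (yU : U ≃ₗ[F] U) (yW : W ≃ₗ[F] W)
    (hU : ∀ v : U, ((yU ⟨g v, hgU v v.2⟩ : U) : V) = g (yU v))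
    (hW : ∀ v : W, ((yW ⟨g v, hgW v v.2⟩ : W) : V) = g (yW v)) :
    ∃ y : V ≃ₗ[F] V, (∀ v, y (g v) = g (y v)) ∧ ∀ (u : U) (w : W), y (u + w) = yU u + yW w := by
  let e := Submodule.prodEquivOfIsCompl U W hc
  have he : ∀ (u : U) (w : W), e (u, w) = (u : V) + (w : V) := fun u w => rfl
  let y : V ≃ₗ[F] V := (e.symm.trans (yU.prodCongr yW)).trans e
  have hy : ∀ (u : U) (w : W), y (u + w) = yU u + yW w := by
    intro u w
    change e ((yU.prodCongr yW) (e.symm ((u : V) + (w : V)))) = _
    rw [← he, e.symm_apply_apply]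
    rfl
  refine ⟨y, fun v => ?_, hy⟩
  obtain ⟨⟨u, w⟩, rfl⟩ := e.surjective v
  rw [he, hy, map_add g, map_add g, ← hU, ← hW]
  exact hy ⟨g u, hgU u u.2⟩ ⟨g w, hgW w w.2⟩

end H49.FormConj2
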