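import Mathlib
import Cfsg.Agent.Lib.H3.CardSup
import Cfsg.Agent.Lib.H72.PGroupCenter

/-!
# S1315, piece P6: a square root of the central involution, and almost fixed elements
-/

set_option autoImplicit false
set_option linter.unusedSectionVars false
set_option linter.style.haveILetI false

open Subgroup
open scoped commutatorElement

universe u

namespace H49.IcP6

theorem sylow_ne_two {X : Type u} [Group X] [Finite X] (hX : commutator X = ⊤) (P : Sylow 2 X) :
    Nat.card P ≠ 2 := by
  intro h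
  haveI : Fact (Nat.Prime 2) := ⟨Nat.prime_two⟩
  have hcyc : IsCyclic P := isCyclic_of_prime_card h
  have h2 : 2 ∣ Nat.card X := by
    rw [← h]; exact (P : Subgroup X).card_subgroup_dvd_card
  have hmin : (Nat.card X).minFac = 2 := (Nat.minFac_eq_two_iff _).2 h2
  have hc := IsCyclic.isComplement' hmin hcyc
  set f := MonoidHom.transferSylow P (hcyc.normalizer_le_centralizer hmin) with hf
  have hcomm : ∀ a b : P, a * b = b * a := fun a b => by
    obtain ⟨g, hg⟩ := hcyc.exists_generator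
    obtain ⟨m, rfl⟩ := hg a
    obtain ⟨n, rfl⟩ := hg b
    show g ^ m * g ^ n = g ^ n * g ^ m
    rw [← zpow_add, ← zpow_add, add_comm]
  have hker : f.ker = ⊤ := by
    rw [eq_top_iff, ← hX, commutator_def, Subgroup.commutator_le]
    intro a _ b _
    rw [MonoidHom.mem_ker, commutatorElement_def, map_mul, map_mul, map_mul, map_inv, map_inv,
      hcomm (f a) (f b)]
    group
  have hcard := hc.card_mul
  rw [hker, Subgroup.card_top] at hcard
  have hpos : 0 < Nat.card X := Nat.card_pos
  have h3 : Nat.card (P : Subgroup X) = 2 := h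
  rw [h3] at hcard
  omega

variable {G : Type u} [Group G] [Finite G]

theorem exists_sqrt {M : Subgroup G} (hM : ⁅M, M⁆ = M) {z : G} (hz : orderOf z = 2) (hzM : z ∈ M)
    (hu : ∀ t ∈ M, orderOf t = 2 → t = z) (A : Subgroup G) (hA : IsPGroup 2 A)
    (hAM : A ≤ normalizer (M : Set G)) : ∃ S : Subgroup G, IsPGroup 2 S ∧ S ≤ M ∧
      A ≤ normalizer (S : Set G) ∧ z ∈ S ∧ (∃ v ∈ S, v * v = z) ∧
      ∀ a ∈ A, ∃ x ∈ S, x ≠ 1 ∧ x ≠ z ∧ (a * x * a⁻¹ = x ∨ a * x * a⁻¹ = x * z) := by
  classical
  haveI : Fact (Nat.Prime 2) := ⟨Nat.prime_two⟩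
  set X := M ⊔ A with hX
  have hMX : M ≤ X := le_sup_left
  have hAX : A ≤ X := le_sup_right
  have hXM : X ≤ normalizer (M : Set G) := sup_le Subgroup.le_normalizer hAM
  have hA' : IsPGroup 2 (A.subgroupOf X) :=
    hA.of_equiv (Subgroup.subgroupOfEquivOfLe hAX).symm
  obtain ⟨P', hP'⟩ := hA'.exists_le_sylow
  set P : Subgroup G := (P' : Subgroup X).map X.subtype with hP
  have hPX : P ≤ X := by
    rintro _ ⟨y, _, rfl⟩; exact y.2
  have hPp : IsPGroup 2 P := P'.isPGroup'.map X.subtype
  have hAP : A ≤ P := by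
    intro a ha
    exact ⟨⟨a, hAX ha⟩, hP' (Subgroup.mem_subgroupOf.2 ha), rfl⟩
  have hcP : Nat.card P = Nat.card (P' : Subgroup X) :=
    (Nat.card_congr ((P' : Subgroup X).equivMapOfInjective _ X.subtype_injective).toEquiv).symm
  set S := P ⊓ M with hS
  have hSp : IsPGroup 2 S := hPp.to_le inf_le_left
  have hSM : S ≤ M := inf_le_right
  have hPS : P ≤ normalizer (S : Set G) := by
    intro a ha
    rw [Subgroup.mem_normalizer_iff]
    intro s
    have h1 := Subgroup.mem_normalizer_iff.1 (hXM (hPX ha)) s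
    constructor
    · rintro ⟨h2, h3⟩
      exact ⟨P.mul_mem (P.mul_mem ha h2) (P.inv_mem ha), h1.1 h3⟩
    · rintro ⟨h2, h3⟩
      refine ⟨?_, h1.2 h3⟩
      have h4 := P.mul_mem (P.mul_mem (P.inv_mem ha) h2) ha
      have h5 : a⁻¹ * (a * s * a⁻¹) * a = s := by group
      show s ∈ P
      rwa [h5] at h4
  -- cardinality of S
  have hcardS : Nat.card M ∣ (P' : Subgroup X).index * Nat.card S := by
    have h1 := H3.CardSup.card_sup_mul_card_inf P M (hPX.trans hXM)
    have h2 : Nat.card (P ⊔ M : Subgroup G) ∣ Nat.card X :=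
      Subgroup.card_dvd_of_le (sup_le hPX hMX)
    have h3 := (P' : Subgroup X).card_mul_index
    rw [← hcP] at h3
    have h4 : Nat.card P * Nat.card M ∣ Nat.card P * ((P' : Subgroup X).index * Nat.card S) := by
      rw [← h1, ← mul_assoc, h3]
      exact Nat.mul_dvd_mul h2 dvd_rfl
    exact Nat.dvd_of_mul_dvd_mul_left Nat.card_pos h4
  have hidx : ¬ 2 ∣ (P' : Subgroup X).index := P'.not_dvd_index
  have hcommM : commutator M = ⊤ := by
    have h1 : (commutator M).map M.subtype = (⊤ : Subgroup M).map M.subtype := by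
      rw [commutator_def, Subgroup.map_commutator, ← MonoidHom.range_eq_map,
        Subgroup.range_subtype, hM]
    exact Subgroup.map_injective M.subtype_injective h1
  have hS2 : 2 < Nat.card S := by
    by_contra hcon
    push Not at hcon
    obtain ⟨Q⟩ : Nonempty (Sylow 2 M) := inferInstance
    have hQne := sylow_ne_two hcommM Q
    obtain ⟨n, hn⟩ := IsPGroup.iff_card.1 Q.isPGroup'
    have hQS : Nat.card (Q : Subgroup M) ∣ Nat.card S := by
      have h1 : Nat.card (Q : Subgroup M) ∣ (P' : Subgroup X).index * Nat.card S :=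
        ((Q : Subgroup M).card_subgroup_dvd_card).trans hcardS
      rw [hn] at h1 ⊢
      refine (Nat.Coprime.dvd_of_dvd_mul_left ?_ h1)
      exact Nat.Coprime.pow_left _ ((Nat.prime_two.coprime_iff_not_dvd).2 hidx)
    have h2M : 2 ∣ Nat.card M := by
      have h1 := orderOf_dvd_natCard (⟨z, hzM⟩ : M)
      rwa [Subgroup.orderOf_mk, hz] at h1
    have hQ2 : 2 ∣ Nat.card (Q : Subgroup M) := by
      have h1 := (Q : Subgroup M).card_mul_index
      have h3 : ¬ 2 ∣ (Q : Subgroup M).index := Q.not_dvd_index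
      rw [← h1] at h2M
      exact (Nat.prime_two.dvd_mul.1 h2M).resolve_right h3
    have h4 := Nat.le_of_dvd Nat.card_pos hQS
    have h5 := Nat.le_of_dvd Nat.card_pos hQ2
    apply hQne
    show Nat.card (Q : Subgroup M) = 2
    omega
  have hzz : z * z = 1 := by rw [← pow_two, ← hz, pow_orderOf_eq_one]
  have hz1 : z ≠ 1 := by
    rintro rfl; rw [orderOf_one] at hz; omega
  -- z in S
  have hzS : z ∈ S := by
    obtain ⟨n, hn⟩ := IsPGroup.iff_card.1 hSp
    have h2 : 2 ∣ Nat.card S := by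
      rw [hn]
      rcases Nat.eq_zero_or_pos n with h0 | h0
      · rw [h0, pow_zero] at hn; omega
      · exact dvd_pow_self 2 h0.ne'
    obtain ⟨t, ht⟩ := exists_prime_orderOf_dvd_card' 2 h2
    have h3 : (t : G) = z := hu t (hSM t.2) (by rw [Subgroup.orderOf_coe]; exact ht)
    rw [← h3]; exact t.2
  -- an element outside `{1, z}`
  obtain ⟨s, hsS, hs1, hsz⟩ : ∃ s ∈ S, s ≠ 1 ∧ s ≠ z := by
    by_contra hcon
    push Not at hcon
    have h1 : (S : Set G) ⊆ {1, z} := by
      intro s hs
      by_cases h2 : s = 1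
      · left; exact h2
      · right; exact hcon s hs h2
    have h2 := Set.ncard_le_ncard h1 (Set.toFinite _)
    have h3 := Set.ncard_pair (Ne.symm hz1)
    have h4 : (S : Set G).ncard = Nat.card S := rfl
    omega
  have hsq : ∀ t ∈ M, t * t = 1 → t = 1 ∨ t = z := by
    intro t ht h1
    by_cases h2 : t = 1
    · left; exact h2
    · right
      exact hu t ht (orderOf_eq_prime (by rw [pow_two]; exact h1) h2)
  refine ⟨S, hSp, hSM, hAP.trans hPS, hzS, ?_, ?_⟩
  · -- square root
    obtain ⟨k, hk⟩ := hSp ⟨s, hsS⟩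
    have hk' : s ^ 2 ^ k = 1 := congrArg Subtype.val hk
    have hex : ∃ k, s ^ 2 ^ k = 1 := ⟨k, hk'⟩
    set j := Nat.find hex with hj
    have hj1 : s ^ 2 ^ j = 1 := Nat.find_spec hex
    have hj0 : j ≠ 0 := by
      intro h0
      rw [h0, pow_zero, pow_one] at hj1
      exact hs1 hj1
    have hj2 : j ≠ 1 := by
      intro h0
      rw [h0, pow_one, pow_two] at hj1
      rcases hsq s (hSM hsS) hj1 with h | h
      · exact hs1 h
      · exact hsz h
    refine ⟨s ^ 2 ^ (j - 2), S.pow_mem hsS _, ?_⟩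
    have h1 : s ^ 2 ^ (j - 2) * s ^ 2 ^ (j - 2) = s ^ 2 ^ (j - 1) := by
      rw [← pow_add, ← two_mul, ← pow_succ']
      congr 2; omega
    rw [h1]
    have h2 : s ^ 2 ^ (j - 1) * s ^ 2 ^ (j - 1) = 1 := by
      rw [← pow_add, ← two_mul, ← pow_succ', Nat.sub_add_cancel (by omega)]
      exact hj1
    rcases hsq _ (M.pow_mem (hSM hsS) _) h2 with h3 | h3
    · exfalso
      exact Nat.find_min hex (show j - 1 < Nat.find hex by rw [← hj]; omega) h3
    · exact h3
  · -- almost fixed elements
    have hzc : ∀ a ∈ P, a * z * a⁻¹ = z := by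
      intro a ha
      have h1 : a * z * a⁻¹ ∈ M := (Subgroup.mem_normalizer_iff.1 (hXM (hPX ha)) z).1 hzM
      have h2 : (a * z * a⁻¹) * (a * z * a⁻¹) = 1 := by
        calc (a * z * a⁻¹) * (a * z * a⁻¹) = a * (z * z) * a⁻¹ := by group
          _ = 1 := by rw [hzz]; group
      rcases hsq _ h1 h2 with h3 | h3
      · exfalso
        apply hz1
        have h4 : z = a⁻¹ * (a * z * a⁻¹) * a := by group
        rw [h4, h3]; group
      · exact h3
    let zP : P := ⟨z, hzS.1⟩
    let Z' : Subgroup P := Subgroup.zpowers zP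
    have hZmem : ∀ y : P, y ∈ Z' → (y : G) = 1 ∨ (y : G) = z := by
      rintro y ⟨n, rfl⟩
      have h0 : zP * zP = 1 := Subtype.ext hzz
      show ((zP ^ n : P) : G) = 1 ∨ ((zP ^ n : P) : G) = z
      rcases Int.even_or_odd' n with ⟨k, rfl | rfl⟩
      · left
        rw [zpow_mul, zpow_two, h0, one_zpow]; rfl
      · right
        rw [zpow_add, zpow_mul, zpow_two, h0, one_zpow, one_mul, zpow_one]
    haveI hZn : Z'.Normal := by
      refine ⟨fun y hy a => ?_⟩
      have h1 : a * y * a⁻¹ = y := by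
        apply Subtype.ext
        show (a : G) * y * (a : G)⁻¹ = y
        rcases hZmem y hy with h2 | h2
        · rw [h2]; simp
        · rw [h2]; exact hzc a a.2
      rw [h1]; exact hy
    haveI hSn : (S.subgroupOf P).Normal := by
      refine ⟨fun y hy a => ?_⟩
      rw [Subgroup.mem_subgroupOf] at hy ⊢
      exact (Subgroup.mem_normalizer_iff.1 (hPS a.2) y).1 hy
    have hQp : IsPGroup 2 (P ⧸ Z') := hPp.to_quotient Z'
    set N : Subgroup (P ⧸ Z') := (S.subgroupOf P).map (QuotientGroup.mk' Z') with hN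
    haveI : N.Normal := hSn.map _ (QuotientGroup.mk'_surjective Z')
    have hNne : N ≠ ⊥ := by
      intro h0
      have h1 : QuotientGroup.mk' Z' ⟨s, hsS.1⟩ ∈ N := ⟨_, Subgroup.mem_subgroupOf.2 hsS, rfl⟩
      rw [h0, Subgroup.mem_bot] at h1
      have h2 : (⟨s, hsS.1⟩ : P) ∈ Z' := (QuotientGroup.eq_one_iff _).1 h1
      rcases hZmem _ h2 with h3 | h3
      · exact hs1 h3
      · exact hsz h3
    have hmeet := H72.PGroupCenter.normal_inf_center_ne_bot hQp N hNne
    obtain ⟨⟨y, hy⟩, hy1⟩ := Subgroup.ne_bot_iff_exists_ne_one.1 hmeet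
    obtain ⟨hyN, hyc⟩ := Subgroup.mem_inf.1 hy
    obtain ⟨x, hxS, hxy⟩ := hyN
    have hxS' : (x : G) ∈ S := Subgroup.mem_subgroupOf.1 hxS
    have hyne : y ≠ 1 := fun h => hy1 (Subtype.ext h)
    intro a ha
    refine ⟨x, hxS', ?_, ?_, ?_⟩
    · intro h1
      apply hyne
      have : x = 1 := Subtype.ext h1
      rw [← hxy, this, map_one]
    · intro h1
      apply hyne
      have : x = zP := Subtype.ext h1
      rw [← hxy, this]
      exact (QuotientGroup.eq_one_iff _).2 (Subgroup.mem_zpowers zP)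
    · have h1 := Subgroup.mem_center_iff.1 hyc (QuotientGroup.mk' Z' ⟨a, hAP ha⟩)
      rw [← hxy, ← map_mul, ← map_mul] at h1
      have h2 : (x * ⟨a, hAP ha⟩)⁻¹ * (⟨a, hAP ha⟩ * x) ∈ Z' := by
        exact QuotientGroup.eq.1 h1.symm
      have h3 := hZmem _ h2
      have h4 : (((x * ⟨a, hAP ha⟩)⁻¹ * (⟨a, hAP ha⟩ * x) : P) : G) =
          ((x : G) * a)⁻¹ * (a * x) := rfl
      rw [h4] at h3
      rcases h3 with h5 | h5
      · left
        have h6 : a * (x : G) = x * a := by
          have := inv_mul_eq_one.1 h5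
          exact this.symm
        rw [h6, mul_inv_cancel_right]
      · right
        have h6 : a * (x : G) = x * a * z := by
          rw [← h5]; group
        have h7 : a * z = z * a := mul_inv_eq_iff_eq_mul.1 (hzc a (hAP ha))
        rw [h6, mul_assoc (x : G) a z, h7]; group

end H49.IcP6
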