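import Cfsg.Agent.Lib.H89.MX0

/-!
S5316, piece ZB: `Z_1 = B`.
-/

set_option autoImplicit false

namespace H49.MXZB

open Subgroup Cfsg Cfsg.FusionSystem H67.HallPetrescu H57.Mc H89.MX H86.FusBasic
open scoped commutatorElement

section Gen

variable {Ω : Type*} [Group Ω]

theorem le_of_rel {p : ℕ} (hp : p.Prime) {A B D : Subgroup Ω} (hi : A.relIndex B = p) (hAD : A ≤ D) {y : Ω}
    (hyB : y ∈ B) (hyA : y ∉ A) (hyD : y ∈ D) (hAB : A ≤ B) : B ≤ D := by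
  have h1 : A ≤ B ⊓ D := le_inf hAB hAD
  have h2 := Subgroup.relIndex_mul_relIndex A (B ⊓ D) B h1 inf_le_left
  rw [hi] at h2
  rcases (Nat.dvd_prime hp).1 (Dvd.intro _ h2) with h3 | h3
  · exfalso
    rw [Subgroup.relIndex_eq_one] at h3
    exact hyA (h3 ⟨hyB, hyD⟩)
  · have h4 : (B ⊓ D).relIndex B = 1 := by
      rw [h3] at h2
      exact Nat.eq_of_mul_eq_mul_left hp.pos (by rw [h2, mul_one])
    rw [Subgroup.relIndex_eq_one] at h4
    exact h4.trans inf_le_right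

theorem zpowers_eq {p : ℕ} (hp : p.Prime) {A : Subgroup Ω} (hA : Nat.card A = p) {c : Ω} (hc : c ∈ A)
    (h1 : c ≠ 1) : zpowers c = A := by
  haveI : Finite A := Nat.finite_of_card_ne_zero (by rw [hA]; exact hp.ne_zero)
  have h2 : zpowers c ≤ A := by rw [zpowers_le]; exact hc
  apply Subgroup.eq_of_le_of_card_ge h2
  have h3 : Nat.card (zpowers c) ∣ p := hA ▸ Subgroup.card_dvd_of_le h2
  rcases (Nat.dvd_prime hp).1 h3 with h4 | h4
  · exfalso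
    rw [Subgroup.card_eq_one, zpowers_eq_bot] at h4
    exact h1 h4
  · rw [h4, hA]

theorem mem_mul {W B E : Subgroup Ω} (hE : ∀ x ∈ E, ∀ y ∈ E, x * y = y * x) (hW : W ≤ E) (hB : B ≤ E)
    {c : Ω} (hc : c ∈ W ⊔ B) : ∃ w ∈ W, ∃ b ∈ B, c = w * b := by
  rw [Subgroup.sup_eq_closure] at hc
  induction hc using Subgroup.closure_induction with
  | mem x hx =>
    rcases hx with hx | hx
    · exact ⟨x, hx, 1, B.one_mem, (mul_one x).symm⟩
    · exact ⟨1, W.one_mem, x, hx, (one_mul x).symm⟩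
  | one => exact ⟨1, W.one_mem, 1, B.one_mem, (one_mul 1).symm⟩
  | mul x y _ _ hx hy =>
    obtain ⟨w, hw, b, hb, rfl⟩ := hx
    obtain ⟨w', hw', b', hb', rfl⟩ := hy
    refine ⟨w * w', W.mul_mem hw hw', b * b', B.mul_mem hb hb', ?_⟩
    have h1 := hE b (hB hb) w' (hW hw')
    calc w * b * (w' * b') = w * (b * w') * b' := by group
      _ = w * (w' * b) * b' := by rw [h1]
      _ = w * w' * (b * b') := by group
  | inv x _ hx =>
    obtain ⟨w, hw, b, hb, rfl⟩ := hx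
    refine ⟨w⁻¹, W.inv_mem hw, b⁻¹, B.inv_mem hb, ?_⟩
    rw [mul_inv_rev]
    exact hE _ (E.inv_mem (hB hb)) _ (E.inv_mem (hW hw))

variable {S : Subgroup Ω}

theorem restr {F : FusionSystem S} {N V : Subgroup Ω} [Finite V] (hN : N ≤ S) (hV : V ≤ N) {γ : MulAut N}
    (hγ : γ ∈ F.autGroup N) (h : ∀ x : N, (x : Ω) ∈ V → ((γ x : N) : Ω) ∈ V) :
    ∃ φ ∈ F.autGroup V, ∀ v : V, ((φ v : V) : Ω) = γ ⟨v, hV v.2⟩ := by
  have h1 : IsIso F (γ : N ≃* N) := (mem_autGroup F hN).1 hγ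
  obtain ⟨T, f, hT, hf, hfx, -⟩ := h1.restrict hV
  have hTV : T ≤ V := by
    intro t ht
    have h2 := hfx (f.symm ⟨t, ht⟩)
    rw [MulEquiv.apply_symm_apply] at h2
    have h3 := h ⟨f.symm ⟨t, ht⟩, hV (f.symm ⟨t, ht⟩).2⟩ (f.symm ⟨t, ht⟩).2
    have h4 : ((⟨t, ht⟩ : T) : Ω) ∈ V := by rw [h2]; exact h3
    exact h4
  have hTV' : T = V := Subgroup.eq_of_le_of_card_ge hTV (Nat.card_congr f.toEquiv).le
  subst hTV'
  exact ⟨f, hf.mem_autGroup, hfx⟩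

theorem mem_K {i : ℕ} {x : Ω} : x ∈ K S i ↔ ∃ h : x ∈ S, (⟨x, h⟩ : S) ∈ lcsF ↥S i := by
  constructor
  · rintro ⟨y, hy, rfl⟩
    exact ⟨y.2, hy⟩
  · rintro ⟨h, hx⟩
    exact ⟨_, hx, rfl⟩

theorem mem_T {i : ℕ} {x : Ω} : x ∈ T S i ↔ ∃ h : x ∈ S, (⟨x, h⟩ : S) ∈ TC ↥S i := by
  constructor
  · rintro ⟨y, hy, rfl⟩
    exact ⟨y.2, hy⟩
  · rintro ⟨h, hx⟩
    exact ⟨_, hx, rfl⟩

theorem K_le (i : ℕ) : K S i ≤ S := fun _ hx => (mem_K.1 hx).1

theorem K_mono {i j : ℕ} (h : i ≤ j) : K S j ≤ K S i := Subgroup.map_mono (K_anti h)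

theorem coe_K {i : ℕ} {x : S} : (x : Ω) ∈ K S i ↔ x ∈ lcsF ↥S i := by
  rw [mem_K]
  exact ⟨fun ⟨_, h⟩ => h, fun h => ⟨x.2, h⟩⟩

theorem coe_T {i : ℕ} {x : S} : (x : Ω) ∈ T S i ↔ x ∈ TC ↥S i := by
  rw [mem_T]
  exact ⟨fun ⟨_, h⟩ => h, fun h => ⟨x.2, h⟩⟩

theorem card_K [Finite S] {p n : ℕ} (h : MC p n ↥S) {i : ℕ} (hi : 2 ≤ i) (hin : i ≤ n) :
    Nat.card (K S i) = p ^ (n - i) := by
  rw [← h.cardK i hi hin]
  exact (Nat.card_congr ((lcsF ↥S i).equivMapOfInjective S.subtype S.subtype_injective).toEquiv).symm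

theorem comm_K {i j : ℕ} {x y : Ω} (hx : x ∈ K S i) (hy : y ∈ K S j) : x * y * x⁻¹ * y⁻¹ ∈ K S (i + j) := by
  obtain ⟨hx1, hx2⟩ := mem_K.1 hx
  obtain ⟨hy1, hy2⟩ := mem_K.1 hy
  have h1 := comm_memK hx2 hy2
  rw [← coe_K] at h1
  simpa [commutatorElement_def] using h1

theorem conj_K {i : ℕ} {g x : Ω} (hg : g ∈ S) (hx : x ∈ K S i) : g * x * g⁻¹ ∈ K S i := by
  obtain ⟨hx1, hx2⟩ := mem_K.1 hx
  have h1 := (normalK (G := ↥S) i).conj_mem _ hx2 ⟨g, hg⟩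
  rw [← coe_K] at h1
  simpa using h1

end Gen

section G

variable {G : Type*} [Group G] [Finite G] {p n : ℕ} [hp : Fact p.Prime]

/-- every element of `γ_2 y` is conjugate to `y` modulo `Z_2`. -/
theorem conj_y (h : MC p n G) (h6 : 6 ≤ n) (hm : ∀ i, 2 ≤ i → i < n - 2 → TC G 2 ≤ TC G i) {y u : G}
    (hy : y ∉ TC G 2) (hu : u ∈ lcsF G 2) : ∃ g : G, (g * y * g⁻¹)⁻¹ * (u * y) ∈ lcsF G (n - 2) := by
  have hq := h.quot (N := n - 2) (by omega) (by omega)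
  have hun : Unif (n - 2) (QuotientGroup.mk y : G ⧸ lcsF G (n - 2)) := by
    intro i hi hin hc
    rw [mk_memTC (by omega)] at hc
    rw [h.TC_eq hi (by omega) (hm i hi (by omega))] at hc
    exact hy hc
  obtain ⟨g, hg⟩ := hq.conj_unif (by omega) hun ((mk_memK (by omega)).2 hu)
  obtain ⟨g, rfl⟩ := QuotientGroup.mk_surjective g
  refine ⟨g, ?_⟩
  rw [← QuotientGroup.mk_inv, ← QuotientGroup.mk_mul, ← QuotientGroup.mk_mul, ← QuotientGroup.mk_mul] at hg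
  exact QuotientGroup.eq.1 hg

/-- `[γ_2, Z_3] ≠ 1` for an exceptional group. -/
theorem exists_comm (h : MC p n G) (h6 : 6 ≤ n) (hm : ∀ i, 2 ≤ i → i < n - 2 → TC G 2 ≤ TC G i)
    (hex : ¬ TC G 2 ≤ TC G (n - 2)) : ∃ u ∈ lcsF G 2, ∃ z ∈ lcsF G (n - 3), ⁅u, z⁆ ≠ 1 := by
  by_contra hne
  push_neg at hne
  apply hex
  intro x hx w hw
  rw [h.K_n (by omega) (by omega), mem_bot]
  have h1 : lcsF G (n - 2) ≤ CM (⊥ : Subgroup G) x := by
    have h2 : n - 2 = (n - 3) + 1 := by omega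
    rw [h2, ← K_succ (by omega), Subgroup.commutator_le]
    intro z hz s _
    rw [mem_CM, mem_bot]
    have h3 := deriv (N := n) (h.K_n (by omega) le_rfl) (i := 1) (j := n - 3) le_rfl (by omega) (by omega)
      (x := x) (y := z) s (by rw [K_one]; exact mem_top x) hz
    have h4 : ⁅x, z⁆ ∈ lcsF G (n - 1) := by
      have h5 := comm_symm (hm (n - 3) (by omega) (by omega) hx z hz)
      rwa [show n - 3 + 2 = n - 1 by omega] at h5
    have h6' : ⁅s, ⁅x, z⁆⁆ = 1 := by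
      rw [commutatorElement_eq_one_iff_mul_comm]
      exact h.central (by omega) h4 s
    have h7 : ⁅⁅s, x⁆, z⁆ = 1 := hne _ (comm_memK (i := 1) (j := 1) (mem_top s) (mem_top x)) z hz
    rw [h6', h7, mul_one] at h3
    have h8 : ⁅z, s⁆ = ⁅s, z⁆⁻¹ := (commutatorElement_inv s z).symm
    rw [commutatorElement_eq_one_iff_mul_comm, h8]
    have h9 : Commute x ⁅s, z⁆ := by
      rw [← commutatorElement_eq_one_iff_commute]; exact h3.symm
    exact (h9.inv_right.eq).symm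
  have h2 := h1 hw
  rwa [mem_CM, mem_bot] at h2

end G

section Main

variable {Ω : Type*} [Group Ω] {S : Subgroup Ω} [Finite S] {p n : ℕ} [hp : Fact p.Prime] {F : FusionSystem S}
  {E W B : Subgroup Ω} {τ : MulAut E}

theorem hm (D : Dat S p n F E) : ∀ i, 2 ≤ i → i < n - 2 → TC ↥S 2 ≤ TC ↥S i :=
  (D.mc.blackburn (by have := D.hn; omega) (by have := D.hp; omega)).1

theorem E_le (D : Dat S p n F E) : E ≤ S := D.ess.1.1

omit [Finite S] in
theorem relIndex_of_card {A B : Subgroup Ω} (hAB : A ≤ B) {k : ℕ} (hA : Nat.card A = p ^ k)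
    (hB : Nat.card B = p ^ (k + 1)) : A.relIndex B = p := by
  have h1 := Subgroup.card_mul_index (A.subgroupOf B)
  rw [Nat.card_congr (Subgroup.subgroupOfEquivOfLe hAB).toEquiv, hA, hB, pow_succ] at h1
  exact Nat.eq_of_mul_eq_mul_left (pow_pos hp.out.pos _) h1

theorem K_le_cent (D : Dat S p n F E) {i : ℕ} (hi : 2 ≤ i) :
    K S i ≤ centralizerIn S (K S (n - 2)) := by
  intro x hx
  refine ⟨K_le _ hx, mem_centralizer_iff.2 fun z hz => ?_⟩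
  have h1 := comm_K hz hx
  have hn := D.hn
  have h2 : K S (n - 2 + i) = ⊥ := by
    unfold K
    rw [D.mc.K_n (by omega) (by omega), Subgroup.map_bot]
  rw [h2, mem_bot] at h1
  calc z * x = (z * x * z⁻¹ * x⁻¹) * (x * z) := by group
    _ = x * z := by rw [h1, one_mul]

theorem cent_le_T (D : Dat S p n F E) : centralizerIn S (K S (n - 2)) ≤ T S (n - 2) := by
  rintro x ⟨hx1, hx2⟩
  rw [mem_T]
  refine ⟨hx1, fun z hz => ?_⟩
  have hn := D.hn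
  have h1 : z * ⟨x, hx1⟩ = ⟨x, hx1⟩ * z := by
    apply Subtype.ext
    exact mem_centralizer_iff.1 hx2 z (coe_K.2 hz)
  rw [commutatorElement_eq_one_iff_mul_comm.2 h1]
  exact one_mem _

theorem relIndex_E (D : Dat S p n F E) (h2 : K S (n - 2) ≤ E) : (K S (n - 2)).relIndex E = p := by
  have hn := D.hn
  refine relIndex_of_card h2 (k := 2) ?_ D.card
  rw [card_K D.mc (by omega) (by omega)]
  congr 1; omega

theorem card_Q (D : Dat S p n F E) (h6 : 6 ≤ n) : Nat.card (Q ↥S (n - 5)) = p ^ 5 := by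
  rcases Nat.lt_or_ge 6 n with h7 | h7
  · rw [Q_of (by omega), D.mc.cardK _ (by omega) (by omega)]
    congr 1; omega
  · have h8 : n = 6 := by omega
    subst h8
    rw [show 6 - 5 = 1 from rfl, Q_one]
    have h1 := Subgroup.card_mul_index (TC ↥S 2)
    rw [D.mc.index_TC le_rfl (by omega), D.mc.card, pow_succ p 5] at h1
    exact Nat.eq_of_mul_eq_mul_right hp.out.pos h1

theorem claim (D : Dat S p n F E) (h6 : 6 ≤ n) (h2 : K S (n - 2) ≤ E)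
    (hex : ¬ TC ↥S 2 ≤ TC ↥S (n - 2)) (hE1 : ¬ E ≤ T S 2) (hN : Nat.card (normalizerIn S E) = p ^ 4)
    {χ : MulAut (centralizerIn S (K S (n - 2)))} (hχ : χ ∈ F.autGroup (centralizerIn S (K S (n - 2))))
    (hZ : ∀ x : centralizerIn S (K S (n - 2)), (x : Ω) ∈ K S (n - 2) →
      ((χ x : centralizerIn S (K S (n - 2))) : Ω) ∈ K S (n - 2))
    (x : centralizerIn S (K S (n - 2)))
    (hx : ((χ x : centralizerIn S (K S (n - 2))) : Ω) ∈ K S 2) : (x : Ω) ∈ K S 2 := by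
  by_contra hne
  have hn := D.hn
  have hES := E_le D
  have hm := hm D
  obtain ⟨y, hyE, hyT⟩ := SetLike.not_le_iff_exists.1 hE1
  have hyS := hES hyE
  have hEC : E ≤ centralizerIn S (K S (n - 2)) := fun e he =>
    ⟨hES he, mem_centralizer_iff.2 fun z hz => D.comm z (h2 hz) e he⟩
  have hxS : (x : Ω) ∈ S := x.2.1
  have hrel : (lcsF ↥S 2).relIndex (TC ↥S (n - 2)) = p := by
    have h1 := Subgroup.relIndex_mul_index (K2_le_TC (G := ↥S) (n - 2))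
    rw [D.mc.index_K2 (by omega), D.mc.index_TC (by omega) (by omega), pow_two] at h1
    exact Nat.eq_of_mul_eq_mul_right hp.out.pos h1
  have hTD : TC ↥S (n - 2) ≤ lcsF ↥S 2 ⊔ E.subgroupOf S := by
    refine le_of_rel hp.out hrel le_sup_left (y := ⟨y, hyS⟩) ?_ ?_ ?_ (K2_le_TC _)
    · exact coe_T.1 (cent_le_T D (hEC hyE))
    · intro hc
      exact hyT (coe_T.2 (K2_le_TC 2 hc))
    · exact (le_sup_right : E.subgroupOf S ≤ _) hyE
  have hx1 : (⟨x, hxS⟩ : S) ∈ TC ↥S (n - 2) := coe_T.1 (cent_le_T D x.2)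
  obtain ⟨u, hu, e, he, hue⟩ := Subgroup.mem_sup_of_normal_left.1 (hTD hx1)
  have heE : (e : Ω) ∈ E := he
  have heT : e ∉ TC ↥S 2 := by
    intro hc
    by_cases hc2 : e ∈ lcsF ↥S 2
    · apply hne
      have h3 := mul_mem hu hc2
      rw [hue] at h3
      exact coe_K.2 h3
    · exact hex (D.mc.le_of_P1 (by omega) (K2_le_TC _) hc hc2 (coe_T.1 (cent_le_T D (hEC heE))))
  obtain ⟨g, hg⟩ := conj_y D.mc h6 hm heT hu
  rw [hue] at hg
  -- the conjugate of `E`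
  set E₁ : Subgroup Ω := E.map (MulAut.conj (g : Ω)).toMonoidHom with hE₁
  have hc1 : F.IsConj E E₁ := isConj_conj F hES g.2
  have hmem : ∀ v, v ∈ E₁ ↔ ∃ w ∈ E, (g : Ω) * w * (g : Ω)⁻¹ = v := by
    intro v
    rw [hE₁, Subgroup.mem_map]
    rfl
  have hKE₁ : K S (n - 2) ≤ E₁ := by
    intro z hz
    rw [hmem]
    refine ⟨(g : Ω)⁻¹ * z * (g : Ω), h2 ?_, by group⟩
    have := conj_K (S.inv_mem g.2) hz
    rwa [inv_inv] at this
  have hxE₁ : (x : Ω) ∈ E₁ := by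
    have h3 : ((g * e * g⁻¹)⁻¹ * ⟨x, hxS⟩ : S) ∈ lcsF ↥S (n - 2) := hg
    rw [← coe_K] at h3
    have h4 : (g : Ω) * e * (g : Ω)⁻¹ ∈ E₁ := (hmem _).2 ⟨e, heE, rfl⟩
    have h5 := mul_mem h4 (hKE₁ h3)
    have h6 : (g : Ω) * e * (g : Ω)⁻¹ * (((g * e * g⁻¹)⁻¹ * ⟨x, hxS⟩ : S) : Ω) = x := by
      rw [Subgroup.coe_mul, Subgroup.coe_inv, Subgroup.coe_mul, Subgroup.coe_mul, Subgroup.coe_inv]
      group
    rwa [h6] at h5
  have hE₁C : E₁ ≤ centralizerIn S (K S (n - 2)) := by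
    intro v hv
    obtain ⟨w, hw, rfl⟩ := (hmem v).1 hv
    refine ⟨S.mul_mem (S.mul_mem g.2 (hES hw)) (S.inv_mem g.2), mem_centralizer_iff.2 fun z hz => ?_⟩
    have h3 := conj_K (S.inv_mem g.2) hz
    rw [inv_inv] at h3
    have h4 := D.comm _ (h2 h3) w hw
    calc z * ((g : Ω) * w * (g : Ω)⁻¹) = (g : Ω) * (((g : Ω)⁻¹ * z * (g : Ω)) * w) * (g : Ω)⁻¹ := by group
      _ = (g : Ω) * (w * ((g : Ω)⁻¹ * z * (g : Ω))) * (g : Ω)⁻¹ := by rw [h4]
      _ = (g : Ω) * w * (g : Ω)⁻¹ * z := by group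
  have hCS : centralizerIn S (K S (n - 2)) ≤ S := inf_le_left
  obtain ⟨V, f, hV, hf, hfx, hVm⟩ := ((mem_autGroup F hCS).1 hχ).restrict hE₁C
  have hc2 : F.IsConj E V := isConj_trans hc1 hf.isConj
  have hcard := D.ess.2.1.2 V hc2
  rw [hN] at hcard
  haveI : Finite (K S (n - 2)) := Finite.of_injective (Subgroup.inclusion (K_le (S := S) (n - 2)))
    (Subgroup.inclusion_injective _)
  have hKC : K S (n - 2) ≤ centralizerIn S (K S (n - 2)) := hKE₁.trans hE₁C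
  obtain ⟨φ, -, hφ⟩ := restr hCS hKC hχ hZ
  have hKV : K S (n - 2) ≤ V := by
    intro z hz
    have h3 := hφ (φ.symm ⟨z, hz⟩)
    rw [MulEquiv.apply_symm_apply] at h3
    have h4 := hfx ⟨φ.symm ⟨z, hz⟩, hKE₁ (φ.symm ⟨z, hz⟩).2⟩
    have h5 : z = (f ⟨φ.symm ⟨z, hz⟩, hKE₁ (φ.symm ⟨z, hz⟩).2⟩ : Ω) := by
      rw [h4]; exact h3
    rw [h5]; exact (f _).2
  have hVK : V ≤ K S 2 := by
    have hrel2 : (K S (n - 2)).relIndex E₁ = p := by
      refine relIndex_of_card hKE₁ (k := 2) ?_ ?_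
      · rw [card_K D.mc (by omega) (by omega)]
        congr 1; omega
      · rw [← isConj_card hc1]; exact D.card
    have h3 : E₁ ≤ (((K S 2).comap ((centralizerIn S (K S (n - 2))).subtype.comp χ.toMonoidHom)).map
        (centralizerIn S (K S (n - 2))).subtype) := by
      refine le_of_rel hp.out hrel2 ?_ (y := (x : Ω)) hxE₁ ?_ ?_ hKE₁
      · intro z hz
        exact ⟨⟨z, hKC hz⟩, K_mono (by omega) (hZ ⟨z, hKC hz⟩ hz), rfl⟩
      · intro hc; exact hne (K_mono (by omega) hc)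
      · exact ⟨x, hx, rfl⟩
    intro v hv
    obtain ⟨⟨w, hw⟩, hw2, hw3⟩ := h3 (f.symm ⟨v, hv⟩).2
    have h4 := hfx (f.symm ⟨v, hv⟩)
    rw [MulEquiv.apply_symm_apply] at h4
    have h5 : v = (χ ⟨f.symm ⟨v, hv⟩, hE₁C (f.symm ⟨v, hv⟩).2⟩ : Ω) := h4
    rw [h5]
    have h6 : (⟨f.symm ⟨v, hv⟩, hE₁C (f.symm ⟨v, hv⟩).2⟩ : centralizerIn S (K S (n - 2))) = ⟨w, hw⟩ :=
      Subtype.ext hw3.symm
    rw [h6]
    exact hw2
  have hQN : (Q ↥S (n - 5)).map S.subtype ≤ normalizerIn S V := by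
    have h3 : ∀ a ∈ Q ↥S (n - 5), ∀ t ∈ V, (a : Ω) * t * (a : Ω)⁻¹ ∈ V := by
      intro a ha t ht
      have htK := hVK ht
      have h4 := D.mc.comm_deg (by omega) (m := n - 2) hm (i := n - 5) (j := 2) (by omega) (by omega) ha
        (y := ⟨t, K_le _ htK⟩) (by rw [Q_of le_rfl]; exact coe_K.1 htK)
      have h5 : min (n - 5 + 2 + 1) (n - 2 + 1) = n - 2 := by omega
      rw [h5, ← coe_K] at h4
      have h6 := mul_mem (hKV h4) ht
      simpa [commutatorElement_def] using h6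
    rintro _ ⟨a, ha, rfl⟩
    refine ⟨a.2, ?_⟩
    show (a : Ω) ∈ normalizer (V : Set Ω)
    rw [Subgroup.mem_normalizer_iff]
    intro t
    constructor
    · intro ht; exact h3 a ha t ht
    · intro ht
      have h4 := h3 a⁻¹ (inv_mem ha) _ ht
      have h5 : ((a⁻¹ : S) : Ω) * ((a : Ω) * t * (a : Ω)⁻¹) * ((a⁻¹ : S) : Ω)⁻¹ = t := by
        simp [mul_assoc]
      rwa [h5] at h4
  haveI : Finite (normalizerIn S V) := Finite.of_injective (Subgroup.inclusion (inf_le_left : normalizerIn S V ≤ S))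
    (Subgroup.inclusion_injective _)
  have h3 := Subgroup.card_le_of_le hQN
  have h4 : Nat.card ((Q ↥S (n - 5)).map S.subtype) = p ^ 5 := by
    rw [← card_Q D h6]
    exact (Nat.card_congr ((Q ↥S (n - 5)).equivMapOfInjective S.subtype S.subtype_injective).toEquiv).symm
  rw [h4] at h3
  have h5 : p ^ 4 < p ^ 5 := Nat.pow_lt_pow_right hp.out.one_lt (by omega)
  omega

theorem z1_eq_of (D : Dat S p n F E) (h6 : 6 ≤ n) (h2 : K S (n - 2) ≤ E)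
    (hex : ¬ TC ↥S 2 ≤ TC ↥S (n - 2)) (hE1 : ¬ E ≤ T S 2) (H : Tau S p F E (K S (n - 2)) τ W B)
    (hX : ∃ γ ∈ F.autGroup (normalizerIn S E), γ * γ = 1 ∧
      ∀ (x : E) (hx : (x : Ω) ∈ normalizerIn S E), ((γ ⟨x, hx⟩ : normalizerIn S E) : Ω) = τ x)
    (hQ : K S (n - 3) ≤ normalizer (E : Set Ω) → ∀ γ ∈ F.autGroup (normalizerIn S E),
      ∀ x : normalizerIn S E, (x : Ω) ∈ K S (n - 3) → ((γ x : normalizerIn S E) : Ω) ∈ K S (n - 3))
    (hPE : ∀ φ ∈ F.autGroup (K S (n - 3)),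
      (∀ v : K S (n - 3), (v : Ω) ∈ K S (n - 2) → ((φ v : K S (n - 3)) : Ω) ∈ K S (n - 2)) →
      ∃ ψ ∈ F.autGroup (centralizerIn S (K S (n - 2))), ∀ (v : K S (n - 3))
        (hv : (v : Ω) ∈ centralizerIn S (K S (n - 2))),
        ((ψ ⟨v, hv⟩ : centralizerIn S (K S (n - 2))) : Ω) = φ v) :
    K S (n - 1) = B := by
  obtain ⟨γ, hγ, hγ2, hγτ⟩ := hX
  have hn := D.hn
  have h5 := D.hp
  have hES := E_le D
  have hm := hm D
  -- `Z_3` normalizes `E`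
  have h3a : ∀ g ∈ K S (n - 3), ∀ e ∈ E, g * e * g⁻¹ ∈ E := by
    intro g hg e he
    have h1 := comm_K hg (mem_K.2 ⟨hES he, by rw [K_one]; exact mem_top _⟩ : e ∈ K S 1)
    rw [show n - 3 + 1 = n - 2 by omega] at h1
    have h3 := E.mul_mem (h2 h1) he
    have h4 : g * e * g⁻¹ * e⁻¹ * e = g * e * g⁻¹ := by group
    rwa [h4] at h3
  have h3N : K S (n - 3) ≤ normalizer (E : Set Ω) := by
    intro g hg
    rw [Subgroup.mem_normalizer_iff]
    intro e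
    constructor
    · intro he; exact h3a g hg e he
    · intro he
      have h4 := h3a g⁻¹ (inv_mem hg) _ he
      have h5 : g⁻¹ * (g * e * g⁻¹) * g⁻¹⁻¹ = e := by group
      rwa [h5] at h4
  have hZ3N : K S (n - 3) ≤ normalizerIn S E := le_inf (K_le _) h3N
  have hEN : E ≤ normalizerIn S E := le_inf hES Subgroup.le_normalizer
  have hq := hQ h3N γ hγ
  haveI : Finite (K S (n - 3)) := Finite.of_injective (Subgroup.inclusion (K_le (S := S) (n - 3)))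
    (Subgroup.inclusion_injective _)
  obtain ⟨φ, hφ, hφγ⟩ := restr (F := F) inf_le_left hZ3N hγ hq
  -- `E ∩ Z_3 = Z_2`
  have hE3 : ∀ x, x ∈ E → x ∈ K S (n - 3) → x ∈ K S (n - 2) := by
    intro x hxE hx3
    by_contra hne
    apply hE1
    have h1 := le_of_rel hp.out (relIndex_E D h2) (K_mono (by omega) : K S (n - 2) ≤ K S (n - 3)) hxE hne hx3 h2
    refine (h1.trans (K_mono (by omega : 2 ≤ n - 3))).trans ?_
    exact Subgroup.map_mono (K2_le_TC 2)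
  have hγ2' : ∀ v : normalizerIn S E, (v : Ω) ∈ K S (n - 2) → ((γ v : normalizerIn S E) : Ω) ∈ K S (n - 2) := by
    intro v hv
    refine hE3 _ ?_ (hq v (K_mono (by omega) hv))
    have h1 := hγτ ⟨v, h2 hv⟩ v.2
    have h3 : ((γ v : normalizerIn S E) : Ω) = τ ⟨v, h2 hv⟩ := h1
    rw [h3]; exact (τ _).2
  have hφ2 : ∀ v : K S (n - 3), (v : Ω) ∈ K S (n - 2) → ((φ v : K S (n - 3)) : Ω) ∈ K S (n - 2) := by
    intro v hv
    rw [hφγ]
    exact hγ2' _ hv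
  obtain ⟨ψ, hψ, hψφ⟩ := hPE φ hφ hφ2
  have h3C : K S (n - 3) ≤ centralizerIn S (K S (n - 2)) := K_le_cent D (by omega)
  have h2C : K S 2 ≤ centralizerIn S (K S (n - 2)) := K_le_cent D le_rfl
  have hψ3 : ∀ (v : Ω) (hv : v ∈ K S (n - 3)), ((ψ ⟨v, h3C hv⟩ : centralizerIn S (K S (n - 2))) : Ω) =
      γ ⟨v, hZ3N hv⟩ := by
    intro v hv
    exact (hψφ ⟨v, hv⟩ (h3C hv)).trans (hφγ ⟨v, hv⟩)
  have hψi : ∀ x : centralizerIn S (K S (n - 2)), (x : Ω) ∈ K S (n - 2) →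
      ((ψ⁻¹ x : centralizerIn S (K S (n - 2))) : Ω) ∈ K S (n - 2) := by
    intro x hx
    have hx3 : (x : Ω) ∈ K S (n - 3) := K_mono (by omega) hx
    have hgx := hγ2' ⟨x, hZ3N hx3⟩ hx
    have hgx3 := hq ⟨x, hZ3N hx3⟩ hx3
    have h1 := hψ3 _ hgx3
    have h4 : γ (γ ⟨x, hZ3N hx3⟩) = ⟨x, hZ3N hx3⟩ := by
      have := DFunLike.congr_fun hγ2 ⟨(x : Ω), hZ3N hx3⟩
      exact this
    have h5' : (⟨((γ ⟨x, hZ3N hx3⟩ : normalizerIn S E) : Ω), hZ3N hgx3⟩ : normalizerIn S E) =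
        γ ⟨x, hZ3N hx3⟩ := rfl
    rw [h5', h4] at h1
    have h6' : ψ ⟨((γ ⟨x, hZ3N hx3⟩ : normalizerIn S E) : Ω), h3C hgx3⟩ = x := Subtype.ext h1
    have h7 : ψ⁻¹ x = ⟨((γ ⟨x, hZ3N hx3⟩ : normalizerIn S E) : Ω), h3C hgx3⟩ :=
      (ψ.symm_apply_eq).2 h6'.symm
    rw [h7]
    exact hgx
  have hψK : ∀ x : centralizerIn S (K S (n - 2)), (x : Ω) ∈ K S 2 →
      ((ψ x : centralizerIn S (K S (n - 2))) : Ω) ∈ K S 2 := by
    intro x hx
    refine claim D h6 h2 hex hE1 H.cardN (χ := ψ⁻¹) (inv_mem hψ) hψi (ψ x) ?_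
    have h1 : ψ⁻¹ (ψ x) = x := ψ.symm_apply_apply x
    rw [h1]; exact hx
  obtain ⟨u, hu, z, hz, huz⟩ := exists_comm D.mc h6 hm hex
  have huK : (u : Ω) ∈ K S 2 := coe_K.2 hu
  have hzK : (z : Ω) ∈ K S (n - 3) := coe_K.2 hz
  set c : Ω := u * z * (u : Ω)⁻¹ * (z : Ω)⁻¹ with hc
  have hc1 : c ≠ 1 := by
    intro h1
    apply huz
    apply Subtype.ext
    simpa [commutatorElement_def] using h1
  have hcK : c ∈ K S (n - 1) := by
    have h1 := comm_K huK hzK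
    rwa [show 2 + (n - 3) = n - 1 by omega] at h1
  have hcE : c ∈ E := h2 (K_mono (by omega) hcK)
  have hc3 : c ∈ K S (n - 3) := K_mono (by omega) hcK
  have hτc : ((τ ⟨c, hcE⟩ : E) : Ω) ∈ K S (n - 1) := by
    have h1 := hψ3 c hc3
    have h3 : ((γ ⟨c, hZ3N hc3⟩ : normalizerIn S E) : Ω) = τ ⟨c, hcE⟩ := hγτ ⟨c, hcE⟩ (hZ3N hc3)
    rw [← h3, ← h1]
    have h4 : (⟨c, h3C hc3⟩ : centralizerIn S (K S (n - 2))) =
        ⟨u, h2C huK⟩ * ⟨z, h3C hzK⟩ * (⟨u, h2C huK⟩)⁻¹ * (⟨z, h3C hzK⟩)⁻¹ := Subtype.ext hc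
    rw [h4, map_mul, map_mul, map_mul, map_inv, map_inv]
    have h5' := hψK ⟨u, h2C huK⟩ huK
    have h6' : ((ψ ⟨z, h3C hzK⟩ : centralizerIn S (K S (n - 2))) : Ω) ∈ K S (n - 3) := by
      rw [hψ3 z hzK]
      exact hq _ hzK
    have h7 := comm_K h5' h6'
    rw [show 2 + (n - 3) = n - 1 by omega] at h7
    exact h7
  -- decomposition
  have hBE : B ≤ E := H.BC.trans h2
  obtain ⟨w, hw, b, hb, hcwb⟩ := mem_mul D.comm H.WE hBE (by rw [H.sup]; exact hcE : c ∈ W ⊔ B)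
  have hwE : w ∈ E := H.WE hw
  have hbE : b ∈ E := hBE hb
  have hτ : ((τ ⟨c, hcE⟩ : E) : Ω) = w⁻¹ * b := by
    have h1 : (⟨c, hcE⟩ : E) = ⟨w, hwE⟩ * ⟨b, hbE⟩ := Subtype.ext hcwb
    rw [h1, map_mul, H.inv ⟨w, hwE⟩ hw, H.fix ⟨b, hbE⟩ hb]
    rfl
  rw [hτ] at hτc
  have hw2 : w ^ 2 ∈ K S (n - 1) := by
    have h1 := mul_mem hcK (inv_mem hτc)
    have h3 : c * (w⁻¹ * b)⁻¹ = w ^ 2 := by
      rw [hcwb, mul_inv_rev, inv_inv, pow_two, mul_assoc, mul_inv_cancel_left]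
    rwa [h3] at h1
  have hodd : p % 2 = 1 := by
    rcases hp.out.eq_two_or_odd with h1 | h1
    · omega
    · exact h1
  have hwK : w ∈ K S (n - 1) := by
    have h1 := pow_mem hw2 ((p + 1) / 2)
    rw [← pow_mul, show 2 * ((p + 1) / 2) = p + 1 by omega, pow_succ, D.pow w hwE, one_mul] at h1
    exact h1
  have hcardK : Nat.card (K S (n - 1)) = p := by
    rw [card_K D.mc (by omega) (by omega), show n - (n - 1) = 1 by omega, pow_one]
  by_cases hw1 : w = 1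
  · rw [hw1, one_mul] at hcwb
    rw [← zpowers_eq hp.out hcardK hcK hc1]
    exact zpowers_eq hp.out H.cardB (by rw [hcwb]; exact hb) hc1
  · exfalso
    have h1 : W ⊓ K S (n - 2) = K S (n - 1) := by
      rw [← zpowers_eq hp.out hcardK hwK hw1]
      exact (zpowers_eq hp.out H.cardV ⟨hw, K_mono (by omega) hwK⟩ hw1).symm
    obtain ⟨y, hyE, hyT⟩ := SetLike.not_le_iff_exists.1 hE1
    apply hyT
    rw [mem_T]
    refine ⟨hES hyE, ?_⟩
    rw [← D.mc.TC_eq (i := n - 3) (by omega) (by omega) (hm _ (by omega) (by omega))]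
    intro g hg
    have hgK : (g : Ω) ∈ K S (n - 3) := coe_K.2 hg
    have h3 := H.com y hyE g g.2 (h3N hgK)
    rw [h1] at h3
    rw [← coe_K, show n - 3 + 2 = n - 1 by omega]
    simpa [commutatorElement_def] using h3

end Main

end H49.MXZB
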