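import Cfsg.Agent.Lib.H49.MXZB
import Cfsg.Agent.Lib.H84.MXX
import Cfsg.Agent.Lib.H64.MXPE
import Cfsg.Agent.Lib.H26.MXQ

/-!
S5316, piece ZB: `Z_1 = B` (verbatim form).
-/

set_option autoImplicit false

namespace H49.MXZB

open Subgroup Cfsg Cfsg.FusionSystem H67.HallPetrescu H57.Mc H89.MX

variable {Ω : Type*} [Group Ω] {S : Subgroup Ω} [Finite S] {p n : ℕ} [hp : Fact p.Prime] {F : FusionSystem S}
  {E C W B : Subgroup Ω} {τ : MulAut E}

theorem z1_eq (D : Dat S p n F E) (h6 : 6 ≤ n) (h2 : K S (n - 2) ≤ E) (hex : ¬ TC ↥S 2 ≤ TC ↥S (n - 2))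
    (hE1 : ¬ E ≤ T S 2) (H : Tau S p F E (K S (n - 2)) τ W B) : K S (n - 1) = B := by
  refine z1_eq_of D h6 h2 hex hE1 H (H84.MXX.ext D H)
    (fun h3 γ hγ => H26.MXQ.invK3 D H.cardN h3 hγ) (fun φ hφ f2 => ?_)
  have hn := D.hn
  refine H64.MXPE.part_ext D.mc.isPGroup D.sat (V3 := K S (n - 3)) (V2 := K S (n - 2)) (K_le _)
    (K_mono (by omega)) (fun g hg v hv => conj_K hg hv) (fun g hg v hv => conj_K hg hv) ?_ ?_ hφ f2
  · intro x hx y hy
    have h1 := comm_K hx hy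
    have h3 : K S (n - 3 + (n - 3)) = ⊥ := by
      unfold K
      rw [D.mc.K_n (by omega) (by omega), Subgroup.map_bot]
    rw [h3, mem_bot] at h1
    calc x * y = (x * y * x⁻¹ * y⁻¹) * (y * x) := by group
      _ = y * x := by rw [h1, one_mul]
  · refine relIndex_of_card (K_mono (by omega)) (k := 2) ?_ ?_
    · rw [card_K D.mc (by omega) (by omega)]
      congr 1; omega
    · rw [card_K D.mc (by omega) (by omega)]
      congr 1; omega

end H49.MXZB
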