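import Cfsg.Agent.Lib.H93.GolayMod

/-!
The cocycle of the Parker loop on the Golay code: `th x z` is additive in `z`, its defect of additivity in `x` is
the number of common points of `x, y, z`, and `th x x` is a quarter of the weight (all modulo 2).
-/

set_option autoImplicit false

namespace H49.PL

open Cfsg H8.GolayCode H8.GolayCount H8.GolayBasic H8.M24Mem H93.GolayMod

/-- half of the size of the common support -/
def hh (x b : GolayPt → ZMod 2) : ZMod 2 := (((support₂ x ∩ support₂ b).card / 2 : ℕ) : ZMod 2)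

/-- triple intersection -/
def T3 (x y z : GolayPt → ZMod 2) : ZMod 2 := ∑ p, x p * y p * z p

/-- a quarter of the weight -/
def qq (x : GolayPt → ZMod 2) : ZMod 2 := (((support₂ x).card / 4 : ℕ) : ZMod 2)

/-- dot product -/
def dot (x y : GolayPt → ZMod 2) : ZMod 2 := ∑ p, x p * y p

theorem dot_add_left (x y z : GolayPt → ZMod 2) : dot (x + y) z = dot x z + dot y z := by
  unfold dot
  rw [← Finset.sum_add_distrib]
  exact Finset.sum_congr rfl fun p _ => by rw [Pi.add_apply, add_mul]

theorem mem_GS {x : GolayPt → ZMod 2} (hx : x ∈ golayCode) : support₂ x ∈ GS := ⟨x, hx, rfl⟩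

theorem T3_eq (x y z : GolayPt → ZMod 2) :
    T3 x y z = (((support₂ x ∩ support₂ y) ∩ support₂ z).card : ZMod 2) := by
  have h : ∀ i, x i * y i * z i = if i ∈ (support₂ x ∩ support₂ y) ∩ support₂ z then 1 else 0 := by
    intro i
    simp only [support₂, Finset.mem_inter, Finset.mem_filter, Finset.mem_univ, true_and]
    generalize x i = a
    generalize y i = b
    generalize z i = c
    revert a b c
    decide
  unfold T3
  rw [Finset.sum_congr rfl fun i _ => h i, Finset.sum_ite_mem]
  simp

theorem hh_add {x y b : GolayPt → ZMod 2} (hx : x ∈ golayCode) (hy : y ∈ golayCode) (hb : b ∈ golayCode) :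
    hh (x + y) b = hh x b + hh y b + T3 x y b := by
  have e0 : (support₂ (x + y) ∩ support₂ b) = symmDiff (support₂ x ∩ support₂ b) (support₂ y ∩ support₂ b) := by
    rw [support_add]
    ext p
    simp only [Finset.mem_inter, Finset.mem_symmDiff]
    tauto
  have e1 := card_symmDiff (support₂ x ∩ support₂ b) (support₂ y ∩ support₂ b)
  have e2 : (support₂ x ∩ support₂ b) ∩ (support₂ y ∩ support₂ b) = (support₂ x ∩ support₂ y) ∩ support₂ b := by
    ext p
    simp only [Finset.mem_inter]
    tauto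
  rw [← e0, e2] at e1
  obtain ⟨a1, h1⟩ := (inter_even (mem_GS hx) (mem_GS hb)).two_dvd
  obtain ⟨a2, h2⟩ := (inter_even (mem_GS hy) (mem_GS hb)).two_dvd
  obtain ⟨a3, h3⟩ := (inter_even (mem_GS (golayCode.add_mem hx hy)) (mem_GS hb)).two_dvd
  unfold hh
  rw [T3_eq, ← Nat.cast_add, ← Nat.cast_add, ZMod.natCast_eq_natCast_iff]
  rw [h1, h2, h3]
  rw [h1, h2, h3] at e1
  unfold Nat.ModEq
  omega

theorem hh_comm (x y : GolayPt → ZMod 2) : hh x y = hh y x := by
  unfold hh; rw [Finset.inter_comm]

theorem T3_comm12 (x y z : GolayPt → ZMod 2) : T3 x y z = T3 y x z := by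
  unfold T3; exact Finset.sum_congr rfl fun p _ => by ring

/-- the Nat masks of the correction terms -/
def Lm (m : ℕ) : ℕ := (List.range m).foldl (fun a j => if (pop (basisL.getD j 0 &&& basisL.getD m 0) / 2) % 2 = 1 then a ||| 2 ^ j else a) 0

/-- the cocycle of the Parker loop -/
def th (x z : GolayPt → ZMod 2) : ZMod 2 :=
  ∑ m ∈ Finset.range 12, z (pt m) * (hh x (wd (basisL.getD m 0)) + dot x (wd (Lm m)))

theorem th_add_right (x z z' : GolayPt → ZMod 2) : th x (z + z') = th x z + th x z' := by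
  unfold th
  rw [← Finset.sum_add_distrib]
  exact Finset.sum_congr rfl fun m _ => by rw [Pi.add_apply, add_mul]

theorem wd_bmul (b : Bool) (n : ℕ) : wd (bmul b n) = (if b then (1 : ZMod 2) else 0) • wd n := by
  cases b
  · simp [bmul, wd_zero]
  · simp [bmul]

theorem expand {z : GolayPt → ZMod 2} (hz : z ∈ golayCode) :
    z = ∑ m ∈ Finset.range 12, z (pt m) • wd (basisL.getD m 0) := by
  obtain ⟨k, _, rfl⟩ := mem_golay_iff_exists.1 hz
  have h : ∀ m, m < 12 → wd (cw k) (pt m) = if k.testBit m then (1 : ZMod 2) else 0 := by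
    intro m hm
    unfold wd
    rw [idx_pt m (by omega), cw_testBit_low k m hm]
  rw [Finset.sum_congr rfl fun m hm => by rw [h m (Finset.mem_range.1 hm), ← wd_bmul]]
  simp only [Finset.sum_range_succ, Finset.sum_range_zero, zero_add]
  conv_lhs => unfold cw
  simp only [wd_xor]
  simp only [basisL, List.getD_cons_zero, List.getD_cons_succ]
  abel

theorem T3_sum (x y : GolayPt → ZMod 2) {ι : Type*} (s : Finset ι) (c : ι → ZMod 2) (w : ι → GolayPt → ZMod 2) :
    T3 x y (∑ i ∈ s, c i • w i) = ∑ i ∈ s, c i * T3 x y (w i) := by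
  unfold T3
  simp only [Finset.sum_apply, Pi.smul_apply, smul_eq_mul, Finset.mul_sum]
  rw [Finset.sum_comm]
  exact Finset.sum_congr rfl fun i _ => Finset.sum_congr rfl fun p _ => by ring

theorem basis_mem {m : ℕ} (hm : m < 12) : wd (basisL.getD m 0) ∈ golayCode := by
  have h : ∀ m < 12, basisL.getD m 0 < 2 ^ 24 ∧ cw (basisL.getD m 0 % 4096) = basisL.getD m 0 := by decide +kernel
  exact (wd_mem_iff (h m hm).1).2 (h m hm).2

theorem th_add_left {x y z : GolayPt → ZMod 2} (hx : x ∈ golayCode) (hy : y ∈ golayCode) (hz : z ∈ golayCode) :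
    th (x + y) z = th x z + th y z + T3 x y z := by
  have e : T3 x y z = ∑ m ∈ Finset.range 12, z (pt m) * T3 x y (wd (basisL.getD m 0)) := by
    conv_lhs => rw [expand hz]
    rw [T3_sum]
  rw [e]
  unfold th
  rw [← Finset.sum_add_distrib, ← Finset.sum_add_distrib]
  refine Finset.sum_congr rfl fun m hm => ?_
  rw [hh_add hx hy (basis_mem (Finset.mem_range.1 hm)), dot_add_left]
  ring

/-! ### evaluation on bit masks -/

theorem support_and (m n : ℕ) : support₂ (wd m) ∩ support₂ (wd n) = support₂ (wd (m &&& n)) := by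
  ext p
  rw [Finset.mem_inter, mem_support_wd, mem_support_wd, mem_support_wd, Nat.testBit_and, Bool.and_eq_true]

theorem and_lt {m n : ℕ} (hm : m < 2 ^ 24) : m &&& n < 2 ^ 24 :=
  lt_of_le_of_lt Nat.and_le_left hm

/-- bit mask version of the cocycle -/
def thN (x z : ℕ) : ℕ :=
  ∑ m ∈ Finset.range 12, (z.testBit m).toNat * (pop (x &&& basisL.getD m 0) / 2 + pop (x &&& Lm m))

theorem th_wd {x : ℕ} (hx : x < 2 ^ 24) (z : ℕ) : th (wd x) (wd z) = (thN x z : ZMod 2) := by
  unfold th thN
  rw [Nat.cast_sum]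
  refine Finset.sum_congr rfl fun m hm => ?_
  rw [Nat.cast_mul, Nat.cast_add]
  have e1 : wd z (pt m) = ((z.testBit m).toNat : ZMod 2) := by
    unfold wd
    rw [idx_pt m (by have := Finset.mem_range.1 hm; omega)]
    cases z.testBit m <;> simp
  have e2 : hh (wd x) (wd (basisL.getD m 0)) = ((pop (x &&& basisL.getD m 0) / 2 : ℕ) : ZMod 2) := by
    unfold hh
    rw [support_and, card_support_wd (and_lt hx)]
  have e3 : dot (wd x) (wd (Lm m)) = (pop (x &&& Lm m) : ZMod 2) := by
    unfold dot
    rw [dot_eq_card, support_and, card_support_wd (and_lt hx)]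
  rw [e1, e2, e3]

theorem th_self {x : GolayPt → ZMod 2} (hx : x ∈ golayCode) : th x x = qq x := by
  obtain ⟨k, _, rfl⟩ := mem_golay_iff_exists.1 hx
  have h : allB (fun n => Nat.beq (thN n n % 2) ((pop n / 4) % 2)) basisL 0 = true := by
    decide +kernel
  have h1 := allCode h k
  rw [th_wd (cw_lt k)]
  unfold qq
  rw [card_support_wd (cw_lt k), ZMod.natCast_eq_natCast_iff]
  exact Nat.eq_of_beq_eq_true h1

end H49.PL
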