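import Cfsg.Agent.Lib.H49.PL1

/-!
A 2-cocycle on an elementary abelian 2-group with values in `ZMod 2` vanishing on the diagonal is a coboundary.
-/

set_option autoImplicit false

namespace H49.PL

/-- the extension of `V` by `ZMod 2` with the given cocycle -/
structure CX (V : Type*) (β : V → V → ZMod 2) where
  v : V
  s : ZMod 2

theorem CX.ext' {V : Type*} {β : V → V → ZMod 2} {a b : CX V β} (h1 : a.v = b.v) (h2 : a.s = b.s) : a = b := by
  cases a; cases b; simp only at h1 h2; rw [h1, h2]

theorem exists_coboundary {V : Type*} [AddCommGroup V] [Module (ZMod 2) V] (β : V → V → ZMod 2)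
    (h0 : β 0 0 = 0) (hc : ∀ x y z, β x y + β (x + y) z = β y z + β x (y + z)) (hd : ∀ x, β x x = 0) :
    ∃ F : V → ZMod 2, ∀ x y, F (x + y) = F x + F y + β x y := by
  have z2 : ∀ a : ZMod 2, a + a = 0 := by decide
  have v2 : ∀ x : V, x + x = 0 := fun x => by
    have : (2 : ZMod 2) • x = x + x := two_smul _ x
    rw [← this, show (2 : ZMod 2) = 0 by decide, zero_smul]
  have b1 : ∀ x, β 0 x = 0 := by
    intro x
    have h := hc 0 0 x
    rw [zero_add, zero_add, h0, zero_add] at h
    have h2 : β 0 x + 0 = β 0 x + β 0 x := by rw [add_zero]; exact h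
    exact (add_left_cancel h2).symm
  have b2 : ∀ x, β x 0 = 0 := by
    intro x
    have h := hc x 0 0
    rw [add_zero, add_zero, h0, zero_add, z2] at h
    exact h.symm
  letI iadd : Add (CX V β) := ⟨fun a b => ⟨a.v + b.v, a.s + b.s + β a.v b.v⟩⟩
  letI izero : Zero (CX V β) := ⟨⟨0, 0⟩⟩
  letI ineg : Neg (CX V β) := ⟨fun a => a⟩
  have hadd : ∀ a b : CX V β, a + b = ⟨a.v + b.v, a.s + b.s + β a.v b.v⟩ := fun _ _ => rfl
  have hzero : (0 : CX V β) = ⟨0, 0⟩ := rfl
  have assoc : ∀ a b c : CX V β, a + b + c = a + (b + c) := by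
    intro a b c
    apply CX.ext'
    · simp only [hadd, add_assoc]
    · simp only [hadd]
      have := hc a.v b.v c.v
      linear_combination this
  have zadd : ∀ a : CX V β, 0 + a = a := by
    intro a
    apply CX.ext'
    · simp only [hadd, hzero, zero_add]
    · simp only [hadd, hzero, zero_add, b1, add_zero]
  have addz : ∀ a : CX V β, a + 0 = a := by
    intro a
    apply CX.ext'
    · simp only [hadd, hzero, add_zero]
    · simp only [hadd, hzero, add_zero, b2]
  have self2 : ∀ a : CX V β, a + a = 0 := by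
    intro a
    apply CX.ext'
    · simp only [hadd, hzero, v2]
    · simp only [hadd, hzero, z2, hd, add_zero]
  have comm : ∀ a b : CX V β, a + b = b + a := by
    intro a b
    have h1 : (a + b) + (b + a) = 0 := by
      rw [assoc a b (b + a), ← assoc b b a, self2, zadd, self2]
    have h2 : (a + b) + (a + b) = 0 := self2 _
    have h3 : b + a = (a + b) + ((a + b) + (b + a)) := by rw [← assoc, h2, zadd]
    rw [h3, h1, addz]
  letI inst : AddCommGroup (CX V β) :=
    { add := (· + ·)
      zero := 0
      neg := fun a => a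
      add_assoc := assoc
      zero_add := zadd
      add_zero := addz
      nsmul := nsmulRec
      zsmul := zsmulRec
      neg_add_cancel := self2
      add_comm := comm }
  letI imod : Module (ZMod 2) (CX V β) := AddCommGroup.zmodModule (fun a => by
    rw [two_nsmul]; exact self2 a)
  let π : CX V β →+ V :=
    { toFun := CX.v
      map_zero' := rfl
      map_add' := fun _ _ => rfl }
  let π' : CX V β →ₗ[ZMod 2] V := AddMonoidHom.toZModLinearMap 2 π
  have hsurj : Function.Surjective π' := fun v => ⟨⟨v, 0⟩, rfl⟩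
  obtain ⟨σ, hσ⟩ := LinearMap.exists_rightInverse_of_surjective π' (LinearMap.range_eq_top.2 hsurj)
  have hσv : ∀ v, (σ v).v = v := fun v => congrArg (fun f : V →ₗ[ZMod 2] V => f v) hσ
  refine ⟨fun v => (σ v).s, fun x y => ?_⟩
  have h1 : σ (x + y) = σ x + σ y := map_add σ x y
  have h2 : (σ x + σ y).s = (σ x).s + (σ y).s + β (σ x).v (σ y).v := rfl
  rw [hσv, hσv] at h2
  show (σ (x + y)).s = _
  rw [h1, h2]

end H49.PL
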