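import Mathlib

/-!
The 10-dimensional module of `2⁴ : A₆` in moment coordinates: explicit matrices and linear algebra over `𝔽₂`.
-/

set_option autoImplicit false
set_option linter.unusedSimpArgs false
set_option linter.unusedVariables false

namespace H49.TD

abbrev Vc := Fin 10 → ZMod 2

theorem z2 (a : ZMod 2) : a + a = 0 := by revert a; decide

theorem vadd (x : Vc) : x + x = 0 := funext fun i => z2 (x i)

theorem vneg (x : Vc) : -x = x := neg_eq_of_add_eq_zero_left (vadd x)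

theorem eq_of_add {x y : Vc} (h : x + y = 0) : x = y := by
  rw [eq_neg_of_add_eq_zero_left h, vneg]

theorem add_of_eq {x y : Vc} (h : x = y) : x + y = 0 := by rw [h, vadd]

theorem vcancel {x y z : Vc} (h : x + y = z) : x = z + y := by
  rw [← h, add_assoc, vadd, add_zero]

theorem iff10 {x y : Vc} : x = y ↔ x 0 = y 0 ∧ x 1 = y 1 ∧ x 2 = y 2 ∧ x 3 = y 3 ∧ x 4 = y 4 ∧ x 5 = y 5 ∧
    x 6 = y 6 ∧ x 7 = y 7 ∧ x 8 = y 8 ∧ x 9 = y 9 := by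
  constructor
  · intro h; subst h; simp
  · rintro ⟨h0, h1, h2, h3, h4, h5, h6, h7, h8, h9⟩
    funext i
    fin_cases i <;> assumption

def A1 (x : Vc) : Vc := ![x 0, x 1 + x 0, x 2, x 3, x 4, x 5 + x 3, x 6 + x 4, x 7, x 8, x 9 + x 2]
def A2 (x : Vc) : Vc := ![x 0, x 1, x 2 + x 0, x 3, x 4, x 5, x 6, x 7 + x 3, x 8 + x 4, x 9 + x 1]
def A3 (x : Vc) : Vc := ![x 0, x 1, x 2, x 3 + x 0, x 4, x 5 + x 1, x 6, x 7 + x 2, x 8, x 9 + x 4]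
def A4 (x : Vc) : Vc := ![x 0, x 1, x 2, x 3, x 4 + x 0, x 5, x 6 + x 1, x 7, x 8 + x 2, x 9 + x 3]
def Y1 (x : Vc) : Vc := ![x 0, x 1, x 2, x 4, x 3 + x 4, x 6, x 5 + x 6, x 8, x 7 + x 8, x 9 + x 4]
def Y2 (x : Vc) : Vc := ![x 0, x 2, x 1 + x 2, x 3, x 4, x 7, x 8, x 5 + x 7, x 6 + x 8, x 9 + x 2]
def SS (x : Vc) : Vc := ![x 0, x 1, x 2 + x 1, x 3, x 4 + x 3, x 5, x 6 + x 5, x 7 + x 5, x 8 + x 7 + x 6 + x 5,
  x 9 + x 1 + x 3]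
def TT (x : Vc) : Vc := ![x 0, x 1, x 2 + x 1 + x 4, x 3 + x 1, x 4, x 5 + x 1, x 6, x 7 + x 5 + x 6 + x 1 + x 9,
  x 8 + x 6 + x 4, x 9 + x 1]
def ST (x : Vc) : Vc := SS (TT x)

/-- unit vector at 9 -/
def h9 (a : ZMod 2) : Vc := ![0, 0, 0, 0, 0, 0, 0, 0, 0, a]
def m79 (a : ZMod 2) : Vc := ![0, 0, 0, 0, 0, 0, 0, a, 0, a]

/-- the five-dimensional fixed space of `2⁴` -/
def U5 (x : Vc) : Prop := x 0 = 0 ∧ x 1 = 0 ∧ x 2 = 0 ∧ x 3 = 0 ∧ x 4 = 0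

/-- its four-dimensional submodule -/
def U4 (x : Vc) : Prop := x 0 = 0 ∧ x 1 = 0 ∧ x 2 = 0 ∧ x 3 = 0 ∧ x 4 = 0 ∧ x 9 = 0

def f1 (x : Vc) : Vc := ![x 1, 0, x 9, 0, 0, 0, 0, 0, 0, 0]
def f2 (x : Vc) : Vc := ![x 2, x 9, 0, 0, 0, 0, 0, 0, 0, 0]
def f3 (x : Vc) : Vc := ![x 3, 0, 0, 0, x 9, 0, 0, 0, 0, 0]
def f4 (x : Vc) : Vc := ![x 4, 0, 0, x 9, 0, 0, 0, 0, 0, 0]
def p1 (x : Vc) : Vc := ![0, 0, x 9, 0, 0, 0, 0, 0, 0, 0]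
def p2 (x : Vc) : Vc := ![0, 0, 0, 0, x 9, 0, 0, 0, 0, 0]
def fk (x : Vc) : Vc := ![0, 0, 0, 0, 0, x 6, 0, x 8 + x 6, 0, 0]
def pr (x : Vc) : Vc := ![0, 0, 0, 0, 0, x 5, x 6, x 7, x 8, x 9]
def k8 : Vc := ![0, 0, 0, 0, 0, 0, 0, 0, 1, 0]
def uT : Vc := ![0, 0, 0, 0, 0, 1, 0, 1, 1, 1]

macro "vg" : tactic => `(tactic| (simp only [iff10, U4, U5, Pi.add_apply, Pi.zero_apply] at *; simp [-Matrix.cons_add, -Matrix.add_cons, A1, A2, A3, A4, Y1, Y2, SS, TT, ST, f1, f2,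
  f3, f4, p1, p2, fk, pr, k8, uT, h9, m79] at *; try grind))

/-! ### additivity -/

theorem A1_add (x y : Vc) : A1 (x + y) = A1 x + A1 y := by vg
theorem A2_add (x y : Vc) : A2 (x + y) = A2 x + A2 y := by vg
theorem A3_add (x y : Vc) : A3 (x + y) = A3 x + A3 y := by vg
theorem A4_add (x y : Vc) : A4 (x + y) = A4 x + A4 y := by vg
theorem SS_add (x y : Vc) : SS (x + y) = SS x + SS y := by vg
theorem TT_add (x y : Vc) : TT (x + y) = TT x + TT y := by vg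
theorem ST_add (x y : Vc) : ST (x + y) = ST x + ST y := by
  show SS (TT (x + y)) = _
  rw [TT_add, SS_add]; rfl

/-! ### the steps -/

theorem inv1 (x : Vc) (h : Y1 x = x) (h' : A1 x = x) : Y1 (f1 x) = f1 x ∧ f1 x + A1 (f1 x) = x := by vg
theorem inv2 (x : Vc) (h : Y1 x = x) (h' : A2 x = x) : Y1 (f2 x) = f2 x ∧ f2 x + A2 (f2 x) = x := by vg
theorem inv3 (x : Vc) (h : Y2 x = x) (h' : A3 x = x) : Y2 (f3 x) = f3 x ∧ f3 x + A3 (f3 x) = x := by vg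
theorem inv4 (x : Vc) (h : Y2 x = x) (h' : A4 x = x) : Y2 (f4 x) = f4 x ∧ f4 x + A4 (f4 x) = x := by vg

theorem pair1 (x : Vc) (h1 : Y1 x = x) (h2 : A1 x = x) (h3 : A2 x = x) :
    Y1 (p1 x) = p1 x ∧ p1 x + A2 (p1 x) = 0 ∧ A1 (p1 x) + x = p1 x := by vg

theorem pair2 (x : Vc) (h1 : Y2 x = x) (h2 : A3 x = x) (h3 : A4 x = x) :
    Y2 (p2 x) = p2 x ∧ p2 x + A4 (p2 x) = 0 ∧ A3 (p2 x) + x = p2 x := by vg

theorem norm1 (d e : Vc) (h1 : Y1 d = d) (h2 : d + A2 d = 0) (h3 : Y1 e = e) (h4 : e + A1 (A2 e) = 0)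
    (h5 : d + A2 e = e + A1 (A2 d)) : ∃ n, Y1 n = n ∧ n + A2 n = d ∧ n + A1 (A2 n) = e := by
  refine ⟨![d 2, d 9, e 9 + d 2 + d 9, 0, 0, 0, 0, 0, 0, 0], ?_⟩
  vg

theorem norm2 (d e : Vc) (h1 : Y2 d = d) (h2 : d + A4 d = 0) (h3 : Y2 e = e) (h4 : e + A3 (A4 e) = 0)
    (h5 : d + A4 e = e + A3 (A4 d)) (h6 : Y1 (Y1 d) + Y1 e + d + A4 e = 0) : d = h9 (d 9) ∧ e = h9 (e 9) := by vg

theorem step8 (x : Vc) (h1 : A1 x = x) (h2 : A3 x = x) (h3 : x + A3 (Y1 x) = Y1 (Y1 x))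
    (h4 : A1 (Y2 x) + x = Y2 (Y2 x)) : U4 x := by vg

theorem step9a (r : Vc) (h : r + A2 r = 0) : r + A1 (A3 r) = m79 (r 2) := by vg

theorem step9b (u : Vc) (a : ZMod 2) (h1 : U4 (u + A1 (A3 u)))
    (h2 : m79 a + (u + A2 u) + A1 (Y2 (u + A1 (A3 u))) = 0) :
    u + A1 (A3 u) = ![0, 0, 0, 0, 0, (u + A1 (A3 u)) 5, 0, 0, 0, 0] := by vg

/-- locally trivial modulo `U4` -/
theorem h1 (d1 d2 d3 d4 : Vc) (e1 : d1 + A1 d1 = 0) (e2 : d2 + A2 d2 = 0) (e3 : d3 + A3 d3 = 0) (e4 : d4 + A4 d4 = 0)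
    (c12 : d1 + A1 d2 = d2 + A2 d1) (c13 : d1 + A1 d3 = d3 + A3 d1) (c14 : d1 + A1 d4 = d4 + A4 d1) :
    ∃ n, U4 (n + d1 + A1 n) ∧ U4 (n + d2 + A2 n) ∧ U4 (n + d3 + A3 n) ∧ U4 (n + d4 + A4 n) := by
  refine ⟨![d1 1, d2 9, d1 9, d4 9, d3 9, 0, 0, 0, 0, 0], ?_⟩
  vg

theorem cen5 (x : Vc) (h1 : U4 (x + A1 x)) (h2 : U4 (x + A2 x)) (h3 : U4 (x + A3 x)) (h4 : U4 (x + A4 x)) : U5 x := by
  vg

theorem cen5' (x : Vc) (h1 : U4 (x + A1 (A4 x))) (h2 : U4 (x + A3 x)) (h3 : U4 (x + A4 x)) (h4 : U4 (x + A2 x)) :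
    U5 x := by vg

theorem U5_fix1 (x : Vc) (h : U5 x) : A1 x = x := by vg
theorem U5_fix2 (x : Vc) (h : U5 x) : A2 x = x := by vg
theorem U5_fix3 (x : Vc) (h : U5 x) : A3 x = x := by vg
theorem U5_fix4 (x : Vc) (h : U5 x) : A4 x = x := by vg

theorem U4_U5 {x : Vc} (h : U4 x) : U5 x := ⟨h.1, h.2.1, h.2.2.1, h.2.2.2.1, h.2.2.2.2.1⟩

theorem U4_zero : U4 0 := ⟨rfl, rfl, rfl, rfl, rfl, rfl⟩

theorem U4_add {x y : Vc} (hx : U4 x) (hy : U4 y) : U4 (x + y) := by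
  simp only [U4, Pi.add_apply] at *
  grind

theorem U5_add {x y : Vc} (hx : U5 x) (hy : U5 y) : U5 (x + y) := by
  simp only [U5, Pi.add_apply] at *
  grind

theorem U4_SS (x : Vc) (h : U4 x) : U4 (SS x) := by vg
theorem U4_TT (x : Vc) (h : U4 x) : U4 (TT x) := by vg
theorem U4_ST (x : Vc) (h : U4 x) : U4 (ST x) := U4_SS _ (U4_TT _ h)

theorem kap (x : Vc) (h : U4 x) (h1 : ST x + ST (ST x) + ST (ST (ST x)) + SS x = 0) :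
    U4 (fk x) ∧ x + fk x + SS (fk x) = fk x + TT (fk x) + SS (fk x + TT (fk x)) +
      TT (fk x + TT (fk x) + SS (fk x + TT (fk x))) := by vg

theorem prS (x : Vc) (h : U5 (x + SS x)) : U5 (pr x) ∧ pr x + SS (pr x) = x + SS x := by vg
theorem prT (x : Vc) (h : U5 (x + TT x)) : U5 (pr x) ∧ pr x + TT (pr x) = x + TT x := by vg

theorem kap' (x : Vc) (h : U5 x) (h1 : SS x = x) (h2 : TT x = x) : x = 0 ∨ x = k8 := by
  have h3 : x 8 = 0 ∨ x 8 = 1 := by generalize x 8 = a; revert a; decide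
  rcases h3 with h3 | h3
  · left; vg
  · right; vg

theorem uT_inv : uT + TT uT = 0 := by decide +kernel
theorem uT_U5 : U5 uT := ⟨rfl, rfl, rfl, rfl, rfl⟩
theorem uT_norm : SS uT + ST (SS uT) + ST (ST (SS uT)) + ST (ST (ST (SS uT))) = k8 := by vg

end H49.TD
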