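import Cfsg.Agent.Lib.H49.TD9
import Cfsg.Agent.Lib.H49.CE3

/-!
Elements of `M22`: a subgroup `2⁴ : (3 × A₅) : 2` part.
-/

set_option autoImplicit false

namespace H49.TD.Dat

open Cfsg H8.GolayCode H8.GolayCount H8.GolayBasic H8.M24Mem H93.GolayMod H49.M22D

def q_a1 : Equiv.Perm GolayPt := permT (tab 0xbda69aca303386c09e8253c856a160) (tab 0xbda69aca303386c09e8253c856a160) (by decide +kernel)
theorem mm_a1 : q_a1 ∈ Spor.M22 := ⟨⟨permT_mem _ (by decide +kernel), by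
  show q_a1 none = none
  decide +kernel⟩, by
  show q_a1 (some 0) = some 0
  decide +kernel⟩
def g_a1 : Spor.M22 := ⟨q_a1, mm_a1⟩
def q_a2 : Equiv.Perm GolayPt := permT (tab 0xbd8c77ca309b82c1a545a5502591a0) (tab 0xbd8c77ca309b82c1a545a5502591a0) (by decide +kernel)
theorem mm_a2 : q_a2 ∈ Spor.M22 := ⟨⟨permT_mem _ (by decide +kernel), by
  show q_a2 none = none
  decide +kernel⟩, by
  show q_a2 (some 0) = some 0
  decide +kernel⟩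
def g_a2 : Spor.M22 := ⟨q_a2, mm_a2⟩
def q_a3 : Equiv.Perm GolayPt := permT (tab 0xbd8646ca300ba6c320aa12d34a9de0) (tab 0xbd8646ca300ba6c320aa12d34a9de0) (by decide +kernel)
theorem mm_a3 : q_a3 ∈ Spor.M22 := ⟨⟨permT_mem _ (by decide +kernel), by
  show q_a3 none = none
  decide +kernel⟩, by
  show q_a3 (some 0) = some 0
  decide +kernel⟩
def g_a3 : Spor.M22 := ⟨q_a3, mm_a3⟩
def q_a4 : Equiv.Perm GolayPt := permT (tab 0xbd8ad24a3013a8c52c660a2b34bce0) (tab 0xbd8ad24a3013a8c52c660a2b34bce0) (by decide +kernel)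
theorem mm_a4 : q_a4 ∈ Spor.M22 := ⟨⟨permT_mem _ (by decide +kernel), by
  show q_a4 none = none
  decide +kernel⟩, by
  show q_a4 (some 0) = some 0
  decide +kernel⟩
def g_a4 : Spor.M22 := ⟨q_a4, mm_a4⟩
def q_y1 : Equiv.Perm GolayPt := permT (tab 0xbc924a39913d9b05a0a612ab31bc20) (tab 0xbb8b325a0c149b159aaa7a13419c20) (by decide +kernel)
theorem mm_y1 : q_y1 ∈ Spor.M22 := ⟨⟨permT_mem _ (by decide +kernel), by
  show q_y1 none = none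
  decide +kernel⟩, by
  show q_y1 (some 0) = some 0
  decide +kernel⟩
def g_y1 : Spor.M22 := ⟨q_y1, mm_y1⟩
def q_y2 : Equiv.Perm GolayPt := permT (tab 0xbb8c9ad9917c8706d1443cd0558820) (tab 0xbca6a33a0c7d9711a6853d48868820) (by decide +kernel)
theorem mm_y2 : q_y2 ∈ Spor.M22 := ⟨⟨permT_mem _ (by decide +kernel), by
  show q_y2 none = none
  decide +kernel⟩, by
  show q_y2 (some 0) = some 0
  decide +kernel⟩
def g_y2 : Spor.M22 := ⟨q_y2, mm_y2⟩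
def q_s : Equiv.Perm GolayPt := permT (tab 0xbc91425a11139ac1a555394d35bc20) (tab 0xbc91425a11139ac1a555394d35bc20) (by decide +kernel)
theorem mm_s : q_s ∈ Spor.M22 := ⟨⟨permT_mem _ (by decide +kernel), by
  show q_s none = none
  decide +kernel⟩, by
  show q_s (some 0) = some 0
  decide +kernel⟩
def g_s : Spor.M22 := ⟨q_s, mm_s⟩
def q_t : Equiv.Perm GolayPt := permT (tab 0xbc1679ca367b1aeaa0aaa0d2231020) (tab 0xbc1679ca367b1aeaa0aaa0d2231020) (by decide +kernel)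
theorem mm_t : q_t ∈ Spor.M22 := ⟨⟨permT_mem _ (by decide +kernel), by
  show q_t none = none
  decide +kernel⟩, by
  show q_t (some 0) = some 0
  decide +kernel⟩
def g_t : Spor.M22 := ⟨q_t, mm_t⟩
def q_gr : Equiv.Perm GolayPt := permT (tab 0xbb0655c1d17c8d669d02a4d49a9020) (tab 0xbb06733a127c5769948953682aa020) (by decide +kernel)
theorem mm_gr : q_gr ∈ Spor.M22 := ⟨⟨permT_mem _ (by decide +kernel), by
  show q_gr none = none
  decide +kernel⟩, by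
  show q_gr (some 0) = some 0
  decide +kernel⟩
def g_gr : Spor.M22 := ⟨q_gr, mm_gr⟩
def q_gs : Equiv.Perm GolayPt := permT (tab 0xb9e168b9a15d10c9a64250cc5abc80) (tab 0xbd06e5a67514a2c79d4db148132200) (by decide +kernel)
theorem mm_gs : q_gs ∈ Spor.M22 := ⟨⟨permT_mem _ (by decide +kernel), by
  show q_gs none = none
  decide +kernel⟩, by
  show q_gs (some 0) = some 0
  decide +kernel⟩
def g_gs : Spor.M22 := ⟨q_gs, mm_gs⟩
def q_gt : Equiv.Perm GolayPt := permT (tab 0xb86a85cdb2644cf81147139251d2c0) (tab 0xb86a2941cb61a2f9a4b44348a19ec0) (by decide +kernel)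
theorem mm_gt : q_gt ∈ Spor.M22 := ⟨⟨permT_mem _ (by decide +kernel), by
  show q_gt none = none
  decide +kernel⟩, by
  show q_gt (some 0) = some 0
  decide +kernel⟩
def g_gt : Spor.M22 := ⟨q_gt, mm_gt⟩
theorem r_a11 : g_a1 * g_a1 = 1 := ext22 (by
  show ∀ p, q_a1 (q_a1 p) = p
  decide +kernel)
theorem r_a22 : g_a2 * g_a2 = 1 := ext22 (by
  show ∀ p, q_a2 (q_a2 p) = p
  decide +kernel)
theorem r_a33 : g_a3 * g_a3 = 1 := ext22 (by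
  show ∀ p, q_a3 (q_a3 p) = p
  decide +kernel)
theorem r_a44 : g_a4 * g_a4 = 1 := ext22 (by
  show ∀ p, q_a4 (q_a4 p) = p
  decide +kernel)
theorem r_ss : g_s * g_s = 1 := ext22 (by
  show ∀ p, q_s (q_s p) = p
  decide +kernel)
theorem r_tt : g_t * g_t = 1 := ext22 (by
  show ∀ p, q_t (q_t p) = p
  decide +kernel)
theorem r_a12 : g_a1 * g_a2 = g_a2 * g_a1 := ext22 (by
  show ∀ p, q_a1 (q_a2 p) = q_a2 (q_a1 p)
  decide +kernel)
theorem r_a13 : g_a1 * g_a3 = g_a3 * g_a1 := ext22 (by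
  show ∀ p, q_a1 (q_a3 p) = q_a3 (q_a1 p)
  decide +kernel)
theorem r_a14 : g_a1 * g_a4 = g_a4 * g_a1 := ext22 (by
  show ∀ p, q_a1 (q_a4 p) = q_a4 (q_a1 p)
  decide +kernel)
theorem r_a23 : g_a2 * g_a3 = g_a3 * g_a2 := ext22 (by
  show ∀ p, q_a2 (q_a3 p) = q_a3 (q_a2 p)
  decide +kernel)
theorem r_a24 : g_a2 * g_a4 = g_a4 * g_a2 := ext22 (by
  show ∀ p, q_a2 (q_a4 p) = q_a4 (q_a2 p)
  decide +kernel)
theorem r_a34 : g_a3 * g_a4 = g_a4 * g_a3 := ext22 (by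
  show ∀ p, q_a3 (q_a4 p) = q_a4 (q_a3 p)
  decide +kernel)
theorem r_y12 : g_y1 * g_y2 = g_y2 * g_y1 := ext22 (by
  show ∀ p, q_y1 (q_y2 p) = q_y2 (q_y1 p)
  decide +kernel)
theorem r_y1a1 : g_y1 * g_a1 = g_a1 * g_y1 := ext22 (by
  show ∀ p, q_y1 (q_a1 p) = q_a1 (q_y1 p)
  decide +kernel)
theorem r_y1a2 : g_y1 * g_a2 = g_a2 * g_y1 := ext22 (by
  show ∀ p, q_y1 (q_a2 p) = q_a2 (q_y1 p)
  decide +kernel)
theorem r_y1a3 : g_y1 * g_a3 = g_a4 * g_y1 := ext22 (by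
  show ∀ p, q_y1 (q_a3 p) = q_a4 (q_y1 p)
  decide +kernel)
theorem r_y1a4 : g_y1 * g_a4 = g_a3 * g_a4 * g_y1 := ext22 (by
  show ∀ p, q_y1 (q_a4 p) = q_a3 (q_a4 (q_y1 p))
  decide +kernel)
theorem r_y2a3 : g_y2 * g_a3 = g_a3 * g_y2 := ext22 (by
  show ∀ p, q_y2 (q_a3 p) = q_a3 (q_y2 p)
  decide +kernel)
theorem r_y2a4 : g_y2 * g_a4 = g_a4 * g_y2 := ext22 (by
  show ∀ p, q_y2 (q_a4 p) = q_a4 (q_y2 p)
  decide +kernel)
theorem r_y2a1 : g_y2 * g_a1 = g_a2 * g_y2 := ext22 (by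
  show ∀ p, q_y2 (q_a1 p) = q_a2 (q_y2 p)
  decide +kernel)
theorem r_y2a2 : g_y2 * g_a2 = g_a1 * g_a2 * g_y2 := ext22 (by
  show ∀ p, q_y2 (q_a2 p) = q_a1 (q_a2 (q_y2 p))
  decide +kernel)
theorem r_sa1 : g_s * g_a1 = g_a1 * g_a2 * g_s := ext22 (by
  show ∀ p, q_s (q_a1 p) = q_a1 (q_a2 (q_s p))
  decide +kernel)
theorem r_sa2 : g_s * g_a2 = g_a2 * g_s := ext22 (by
  show ∀ p, q_s (q_a2 p) = q_a2 (q_s p)
  decide +kernel)
theorem r_sa3 : g_s * g_a3 = g_a3 * g_a4 * g_s := ext22 (by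
  show ∀ p, q_s (q_a3 p) = q_a3 (q_a4 (q_s p))
  decide +kernel)
theorem r_sa4 : g_s * g_a4 = g_a4 * g_s := ext22 (by
  show ∀ p, q_s (q_a4 p) = q_a4 (q_s p)
  decide +kernel)
theorem r_ta1 : g_t * g_a1 = g_a1 * g_a2 * g_a3 * g_t := ext22 (by
  show ∀ p, q_t (q_a1 p) = q_a1 (q_a2 (q_a3 (q_t p)))
  decide +kernel)
theorem r_ta2 : g_t * g_a2 = g_a2 * g_t := ext22 (by
  show ∀ p, q_t (q_a2 p) = q_a2 (q_t p)
  decide +kernel)
theorem r_ta3 : g_t * g_a3 = g_a3 * g_t := ext22 (by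
  show ∀ p, q_t (q_a3 p) = q_a3 (q_t p)
  decide +kernel)
theorem r_ta4 : g_t * g_a4 = g_a2 * g_a4 * g_t := ext22 (by
  show ∀ p, q_t (q_a4 p) = q_a2 (q_a4 (q_t p))
  decide +kernel)
theorem r_gr1 : g_gr * g_a1 = g_a2 * g_gr := ext22 (by
  show ∀ p, q_gr (q_a1 p) = q_a2 (q_gr p)
  decide +kernel)
theorem r_gr2 : g_gr * g_a2 = g_a1 * g_a3 * g_gr := ext22 (by
  show ∀ p, q_gr (q_a2 p) = q_a1 (q_a3 (q_gr p))
  decide +kernel)
theorem r_gs1 : g_gs * g_a1 = g_s * g_gs := ext22 (by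
  show ∀ p, q_gs (q_a1 p) = q_s (q_gs p)
  decide +kernel)
theorem r_gt1 : g_gt * g_a1 = g_t * g_gt := ext22 (by
  show ∀ p, q_gt (q_a1 p) = q_t (q_gt p)
  decide +kernel)
theorem r_y1p : g_y1 ^ 3 = 1 := ext22 (by
  show ∀ p, (q_y1 ^ 3) p = p
  intro p
  rw [pow_three]
  revert p
  show ∀ p, q_y1 (q_y1 (q_y1 p)) = p
  decide +kernel)
theorem r_y2p : g_y2 ^ 3 = 1 := ext22 (by
  show ∀ p, (q_y2 ^ 3) p = p
  intro p
  rw [pow_three]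
  revert p
  show ∀ p, q_y2 (q_y2 (q_y2 p)) = p
  decide +kernel)
theorem r_st4 : g_s * g_t * (g_s * g_t) * (g_s * g_t * (g_s * g_t)) = 1 := ext22 (by
  show ∀ p, q_s (q_t (q_s (q_t (q_s (q_t (q_s (q_t p))))))) = p
  decide +kernel)
theorem f_w : ∃ F : Subgroup Spor.M22, g_a2 ∈ F ∧ g_a4 ∉ F :=
  ⟨stW (wd 0x2002),
    (by show ∀ p, wd 0x2002 (q_a2 p) = wd 0x2002 p; decide +kernel),
    (by show ¬ ∀ p, wd 0x2002 (q_a4 p) = wd 0x2002 p; decide +kernel)⟩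
theorem f_u : ∃ F : Subgroup Spor.M22, g_a2 ∈ F ∧ g_a4 ∈ F ∧ g_a3 ∉ F :=
  ⟨stW (wd 0x102082),
    (by show ∀ p, wd 0x102082 (q_a2 p) = wd 0x102082 p; decide +kernel),
    (by show ∀ p, wd 0x102082 (q_a4 p) = wd 0x102082 p; decide +kernel),
    (by show ¬ ∀ p, wd 0x102082 (q_a3 p) = wd 0x102082 p; decide +kernel)⟩
theorem f_e : ∃ F : Subgroup Spor.M22, g_a2 ∈ F ∧ g_a4 ∈ F ∧ g_a3 ∈ F ∧ g_a1 * g_a4 ∉ F :=
  ⟨stW (wd 0x200f68),
    (by show ∀ p, wd 0x200f68 (q_a2 p) = wd 0x200f68 p; decide +kernel),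
    (by show ∀ p, wd 0x200f68 (q_a4 p) = wd 0x200f68 p; decide +kernel),
    (by show ∀ p, wd 0x200f68 (q_a3 p) = wd 0x200f68 p; decide +kernel),
    (by show ¬ ∀ p, wd 0x200f68 (q_a1 (q_a4 p)) = wd 0x200f68 p; decide +kernel)⟩
theorem f_s : ∃ F : Subgroup Spor.M22, g_a2 ∈ F ∧ g_a4 ∈ F ∧ g_a3 ∈ F ∧ g_a1 * g_a4 ∈ F ∧ g_s ∉ F :=
  ⟨stW (wd 0x10000),
    (by show ∀ p, wd 0x10000 (q_a2 p) = wd 0x10000 p; decide +kernel),
    (by show ∀ p, wd 0x10000 (q_a4 p) = wd 0x10000 p; decide +kernel),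
    (by show ∀ p, wd 0x10000 (q_a3 p) = wd 0x10000 p; decide +kernel),
    (by show ∀ p, wd 0x10000 (q_a1 (q_a4 p)) = wd 0x10000 p; decide +kernel),
    (by show ¬ ∀ p, wd 0x10000 (q_s p) = wd 0x10000 p; decide +kernel)⟩
theorem f_r : ∃ F : Subgroup Spor.M22, g_a2 ∈ F ∧ g_a4 ∈ F ∧ g_a3 ∈ F ∧ g_a1 * g_a4 ∈ F ∧ g_s ∈ F ∧ g_t * g_s * g_t ∉ F :=
  ⟨stW (wd 0x30000),
    (by show ∀ p, wd 0x30000 (q_a2 p) = wd 0x30000 p; decide +kernel),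
    (by show ∀ p, wd 0x30000 (q_a4 p) = wd 0x30000 p; decide +kernel),
    (by show ∀ p, wd 0x30000 (q_a3 p) = wd 0x30000 p; decide +kernel),
    (by show ∀ p, wd 0x30000 (q_a1 (q_a4 p)) = wd 0x30000 p; decide +kernel),
    (by show ∀ p, wd 0x30000 (q_s p) = wd 0x30000 p; decide +kernel),
    (by show ¬ ∀ p, wd 0x30000 (q_t (q_s (q_t p))) = wd 0x30000 p; decide +kernel)⟩
theorem f_t : ∃ F : Subgroup Spor.M22, g_a2 ∈ F ∧ g_a4 ∈ F ∧ g_a3 ∈ F ∧ g_a1 * g_a4 ∈ F ∧ g_s ∈ F ∧ g_t * g_s * g_t ∈ F ∧ g_t ∉ F :=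
  ⟨stW (wd 0x1000),
    (by show ∀ p, wd 0x1000 (q_a2 p) = wd 0x1000 p; decide +kernel),
    (by show ∀ p, wd 0x1000 (q_a4 p) = wd 0x1000 p; decide +kernel),
    (by show ∀ p, wd 0x1000 (q_a3 p) = wd 0x1000 p; decide +kernel),
    (by show ∀ p, wd 0x1000 (q_a1 (q_a4 p)) = wd 0x1000 p; decide +kernel),
    (by show ∀ p, wd 0x1000 (q_s p) = wd 0x1000 p; decide +kernel),
    (by show ∀ p, wd 0x1000 (q_t (q_s (q_t p))) = wd 0x1000 p; decide +kernel),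
    (by show ¬ ∀ p, wd 0x1000 (q_t p) = wd 0x1000 p; decide +kernel)⟩

theorem f_z : g_a2 ≠ 1 := by
  intro h
  have h1 : ∀ p, q_a2 p = p := fun p => congrArg (fun x : Spor.M22 => (x : Equiv.Perm GolayPt) p) h
  revert h1
  decide +kernel

end H49.TD.Dat
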