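import Cfsg.Agent.Lib.H49.TD10

/-!
Coordinates on the ten-dimensional quotient of the cocode.
-/

set_option autoImplicit false

namespace H49.TD.Dat

open Cfsg H8.GolayCode H8.GolayCount H8.GolayBasic H8.M24Mem H93.GolayMod H93.GolayDual H49.M22D

abbrev Wd := GolayPt → ZMod 2

def Mk : Fin 10 → ℕ := ![0x38affe, 0x200f68, 0x382238, 0x288174, 0x1007b4, 0x670160, 0x415720, 0x2d5030, 0x561230, 0x67531c]
def ep : Fin 10 → ℕ := ![0x2, 0x802, 0x2002, 0x8002, 0x82, 0x14000, 0x420000, 0x60000, 0x5000, 0x31000]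

/-- coordinates -/
def co : Wd →ₗ[ZMod 2] Vc := LinearMap.pi fun j => ∑ p, wd (Mk j) p • LinearMap.proj p

theorem co_apply (w : Wd) (j : Fin 10) : co w j = ∑ p, wd (Mk j) p * w p := by
  unfold co
  rw [LinearMap.pi_apply, LinearMap.sum_apply]
  rfl

/-- lifts of coordinates -/
def ld : Vc →ₗ[ZMod 2] Wd := ∑ j, (LinearMap.proj j : Vc →ₗ[ZMod 2] ZMod 2).smulRight (wd (ep j))

theorem ld_apply (x : Vc) : ld x = ∑ j, x j • wd (ep j) := by
  unfold ld
  rw [LinearMap.sum_apply]
  rfl

theorem ld_single (j : Fin 10) : ld (Pi.single j 1) = wd (ep j) := by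
  rw [ld_apply, Finset.sum_eq_single j]
  · rw [Pi.single_eq_same, one_smul]
  · intro i _ hi
    rw [Pi.single_eq_of_ne hi, zero_smul]
  · intro h; exact absurd (Finset.mem_univ _) h

theorem co_ep : ∀ j : Fin 10, co (wd (ep j)) = Pi.single j 1 := by
  have h : ∀ j i : Fin 10, ∑ p, wd (Mk i) p * wd (ep j) p = (Pi.single j 1 : Fin 10 → ZMod 2) i := by
    decide +kernel
  intro j
  funext i
  rw [co_apply]
  exact h j i

theorem vext {ι : Type*} [Finite ι] [DecidableEq ι] {V : Type*} [AddCommGroup V] {f g : (ι → ZMod 2) → V}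
    (hf : ∀ x y, f (x + y) = f x + f y)
    (hg : ∀ x y, g (x + y) = g x + g y) (h : ∀ j, f (Pi.single j 1) = g (Pi.single j 1)) (x : ι → ZMod 2) :
    f x = g x := by
  have f0 : f 0 = 0 := by
    have := hf 0 0
    rw [add_zero] at this
    exact left_eq_add.1 this
  have g0 : g 0 = 0 := by
    have := hg 0 0
    rw [add_zero] at this
    exact left_eq_add.1 this
  let F : (ι → ZMod 2) →+ V := ⟨⟨f, f0⟩, hf⟩
  let G : (ι → ZMod 2) →+ V := ⟨⟨g, g0⟩, hg⟩
  have hFG : F = G := by
    apply AddMonoidHom.functions_ext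
    intro i y
    have hy : y = 0 ∨ y = 1 := by revert y; decide
    rcases hy with rfl | rfl
    · rw [Pi.single_zero, map_zero, map_zero]
    · exact h i
  exact congrArg (fun F : (ι → ZMod 2) →+ V => F x) hFG

theorem co_ld (x : Vc) : co (ld x) = x := by
  refine vext (f := fun x => co (ld x)) (g := fun x => x) ?_ ?_ ?_ x
  · intro x y
    simp only [map_add]
  · intro x y; rfl
  · intro j
    show co (ld (Pi.single j 1)) = Pi.single j 1
    rw [ld_single, co_ep]

theorem Mk_mem (j : Fin 10) : wd (Mk j) ∈ golayCode := by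
  have h : ∀ j : Fin 10, Mk j < 2 ^ 24 ∧ cw (Mk j % 4096) = Mk j := by decide +kernel
  exact (wd_mem_iff (h j).1).2 (h j).2

theorem co_code {c : Wd} (hc : c ∈ golayCode) : co c = 0 := by
  funext j
  rw [co_apply]
  exact golay_orth (Mk_mem j) hc

theorem co_none : co (Pi.single none 1) = 0 := by
  have h : ∀ i : Fin 10, ∑ p, wd (Mk i) p * (Pi.single none 1 : Wd) p = 0 := by decide +kernel
  funext j
  rw [co_apply]
  exact h j

theorem co_zero' : co (Pi.single (some 0) 1) = 0 := by
  have h : ∀ i : Fin 10, ∑ p, wd (Mk i) p * (Pi.single (some 0) 1 : Wd) p = 0 := by decide +kernel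
  funext j
  rw [co_apply]
  exact h j

/-- the annihilator of the coordinates -/
theorem of_co {w : Wd} (h : co w = 0) :
    ∃ a b : ZMod 2, w + a • Pi.single none 1 + b • Pi.single (some 0) 1 ∈ golayCode := by
  refine ⟨∑ p, wd 0xd4b004 p * w p, ∑ p, wd 0x13e005 p * w p, ?_⟩
  set a := ∑ p, wd 0xd4b004 p * w p with ha
  set b := ∑ p, wd 0x13e005 p * w p with hb
  set w' := w + a • (Pi.single none 1 : Wd) + b • (Pi.single (some 0) 1 : Wd) with hw'
  let M : Submodule (ZMod 2) Wd :=
    { carrier := {c | ∑ i, c i * w' i = 0}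
      zero_mem' := by simp
      add_mem' := by
        intro x y hx hy
        show ∑ i, (x i + y i) * w' i = 0
        simp only [add_mul, Finset.sum_add_distrib]
        have hx' : ∑ i, x i * w' i = 0 := hx
        have hy' : ∑ i, y i * w' i = 0 := hy
        rw [hx', hy', add_zero]
      smul_mem' := by
        intro r x hx
        show ∑ i, (r * x i) * w' i = 0
        have hx' : ∑ i, x i * w' i = 0 := hx
        simp only [mul_assoc, ← Finset.mul_sum, hx', mul_zero] }
  have key : ∀ c : Wd, ∑ i, c i * w' i = ∑ i, c i * w i + a * c none + b * c (some 0) := by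
    intro c
    have e : ∀ i, c i * w' i = c i * w i + (c i * (a * (Pi.single none 1 : Wd) i)) +
        (c i * (b * (Pi.single (some 0) 1 : Wd) i)) := by
      intro i
      show c i * (w i + a * (Pi.single none 1 : Wd) i + b * (Pi.single (some 0) 1 : Wd) i) = _
      ring
    have e1 : ∑ i, c i * (a * (Pi.single none 1 : Wd) i) = a * c none := by
      rw [Finset.sum_eq_single none]
      · rw [Pi.single_eq_same]; ring
      · intro i _ hi
        rw [Pi.single_eq_of_ne hi]; ring
      · intro h; exact absurd (Finset.mem_univ _) h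
    have e2 : ∑ i, c i * (b * (Pi.single (some 0) 1 : Wd) i) = b * c (some 0) := by
      rw [Finset.sum_eq_single (some 0)]
      · rw [Pi.single_eq_same]; ring
      · intro i _ hi
        rw [Pi.single_eq_of_ne hi]; ring
      · intro h; exact absurd (Finset.mem_univ _) h
    rw [Finset.sum_congr rfl fun i _ => e i, Finset.sum_add_distrib, Finset.sum_add_distrib, e1, e2]
  have hD1 : wd 0xd4b004 ∈ M := by
    show ∑ i, wd 0xd4b004 i * w' i = 0
    rw [key, ← ha]
    have h1 : wd 0xd4b004 none = 1 := by decide +kernel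
    have h2 : wd 0xd4b004 (some 0) = 0 := by decide +kernel
    rw [h1, h2, mul_one, mul_zero, add_zero]
    exact z2 a
  have hD2 : wd 0x13e005 ∈ M := by
    show ∑ i, wd 0x13e005 i * w' i = 0
    rw [key, ← hb]
    have h1 : wd 0x13e005 none = 0 := by decide +kernel
    have h2 : wd 0x13e005 (some 0) = 1 := by decide +kernel
    rw [h1, h2, mul_one, mul_zero, add_zero]
    exact z2 b
  have hMk : ∀ j, wd (Mk j) ∈ M := by
    intro j
    show ∑ i, wd (Mk j) i * w' i = 0
    have h1 : ∀ j, wd (Mk j) none = 0 ∧ wd (Mk j) (some 0) = 0 := by decide +kernel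
    rw [key, (h1 j).1, (h1 j).2, mul_zero, mul_zero, add_zero, add_zero, ← co_apply, h]
    rfl
  have hb0 : wd 0xc75001 ∈ M := by
    have e : wd 0xc75001 = wd 0xd4b004 + wd 0x13e005 := by
      simp only [← wd_xor, Nat.reduceXor]
    rw [e]
    exact M.add_mem (hD1) (hD2)
  have hb1 : wd 0x49f002 ∈ M := by
    have e : wd 0x49f002 = wd 0x38affe + wd 0x200f68 + wd 0x1007b4 + wd 0x415720 := by
      simp only [← wd_xor, Nat.reduceXor]
    rw [e]
    exact M.add_mem (M.add_mem (M.add_mem (hMk 0) (hMk 1)) (hMk 4)) (hMk 6)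
  have hb2 : wd 0xd4b004 ∈ M := by
    have e : wd 0xd4b004 = wd 0xd4b004 := by
      rfl
    rw [e]
    exact hD1
  have hb3 : wd 0x6e3008 ∈ M := by
    have e : wd 0x6e3008 = wd 0x382238 + wd 0x561230 := by
      simp only [← wd_xor, Nat.reduceXor]
    rw [e]
    exact M.add_mem (hMk 2) (hMk 8)
  have hb4 : wd 0x9b3010 ∈ M := by
    have e : wd 0x9b3010 = wd 0x288174 + wd 0x670160 + wd 0xd4b004 := by
      simp only [← wd_xor, Nat.reduceXor]
    rw [e]
    exact M.add_mem (M.add_mem (hMk 3) (hMk 5)) (hD1)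
  have hb5 : wd 0xb66020 ∈ M := by
    have e : wd 0xb66020 = wd 0x288174 + wd 0x670160 + wd 0x2d5030 + wd 0xd4b004 := by
      simp only [← wd_xor, Nat.reduceXor]
    rw [e]
    exact M.add_mem (M.add_mem (M.add_mem (hMk 3) (hMk 5)) (hMk 7)) (hD1)
  have hb6 : wd 0xecc040 ∈ M := by
    have e : wd 0xecc040 = wd 0x382238 + wd 0x670160 + wd 0x67531c + wd 0xd4b004 := by
      simp only [← wd_xor, Nat.reduceXor]
    rw [e]
    exact M.add_mem (M.add_mem (M.add_mem (hMk 2) (hMk 5)) (hMk 9)) (hD1)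
  have hb7 : wd 0x1ed080 ∈ M := by
    have e : wd 0x1ed080 = wd 0x288174 + wd 0x1007b4 + wd 0x670160 + wd 0x415720 := by
      simp only [← wd_xor, Nat.reduceXor]
    rw [e]
    exact M.add_mem (M.add_mem (M.add_mem (hMk 3) (hMk 4)) (hMk 5)) (hMk 6)
  have hb8 : wd 0x3da100 ∈ M := by
    have e : wd 0x3da100 = wd 0x382238 + wd 0x288174 + wd 0x670160 + wd 0x2d5030 + wd 0x67531c := by
      simp only [← wd_xor, Nat.reduceXor]
    rw [e]
    exact M.add_mem (M.add_mem (M.add_mem (M.add_mem (hMk 2) (hMk 3)) (hMk 5)) (hMk 7)) (hMk 9)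
  have hb9 : wd 0x7b4200 ∈ M := by
    have e : wd 0x7b4200 = wd 0x2d5030 + wd 0x561230 := by
      simp only [← wd_xor, Nat.reduceXor]
    rw [e]
    exact M.add_mem (hMk 7) (hMk 8)
  have hb10 : wd 0xb1d400 ∈ M := by
    have e : wd 0xb1d400 = wd 0x382238 + wd 0x415720 + wd 0x2d5030 + wd 0x561230 + wd 0x67531c + wd 0xd4b004 := by
      simp only [← wd_xor, Nat.reduceXor]
    rw [e]
    exact M.add_mem (M.add_mem (M.add_mem (M.add_mem (M.add_mem (hMk 2) (hMk 6)) (hMk 7)) (hMk 8)) (hMk 9)) (hD1)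
  have hb11 : wd 0xe3a800 ∈ M := by
    have e : wd 0xe3a800 = wd 0x200f68 + wd 0x670160 + wd 0x415720 + wd 0x561230 + wd 0x67531c + wd 0xd4b004 := by
      simp only [← wd_xor, Nat.reduceXor]
    rw [e]
    exact M.add_mem (M.add_mem (M.add_mem (M.add_mem (M.add_mem (hMk 1) (hMk 5)) (hMk 6)) (hMk 8)) (hMk 9)) (hD1)
  have hle : golayCode ≤ M := by
    apply golay_le_of_basis
    intro b hb
    simp only [basisL, List.mem_cons, List.not_mem_nil, or_false] at hb
    rcases hb with rfl | rfl | rfl | rfl | rfl | rfl | rfl | rfl | rfl | rfl | rfl | rfl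
    · exact hb0
    · exact hb1
    · exact hb2
    · exact hb3
    · exact hb4
    · exact hb5
    · exact hb6
    · exact hb7
    · exact hb8
    · exact hb9
    · exact hb10
    · exact hb11
  exact mem_of_orth fun c hc => hle hc

theorem co_single (p : GolayPt) : co (Pi.single p 1) = fun j => wd (Mk j) p := by
  funext j
  rw [co_apply, Finset.sum_eq_single p]
  · rw [Pi.single_eq_same, mul_one]
  · intro i _ hi
    rw [Pi.single_eq_of_ne hi, mul_zero]
  · intro h; exact absurd (Finset.mem_univ _) h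

theorem sh_single (σ : Equiv.Perm GolayPt) (p : GolayPt) : sh σ (Pi.single p 1) = Pi.single (σ p) 1 := by
  rw [sh_apply]
  funext q
  by_cases h : q = σ p
  · subst h
    rw [Equiv.symm_apply_apply, Pi.single_eq_same, Pi.single_eq_same]
  · rw [Pi.single_eq_of_ne h, Pi.single_eq_of_ne]
    intro h'
    exact h (by rw [← h', Equiv.apply_symm_apply])

theorem act {σ : Equiv.Perm GolayPt} {A : Vc → Vc} (hA : ∀ x y, A (x + y) = A x + A y)
    (h : ∀ p i, wd (Mk i) (σ p) = A (fun j => wd (Mk j) p) i) (w : Wd) : co (sh σ w) = A (co w) := by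
  refine vext (f := fun w => co (sh σ w)) (g := fun w => A (co w)) ?_ ?_ ?_ w
  · intro x y
    simp only [map_add]
  · intro x y
    simp only [map_add, hA]
  · intro p
    show co (sh σ (Pi.single p 1)) = A (co (Pi.single p 1))
    rw [sh_single, co_single, co_single]
    funext j
    exact h p j

theorem Y1_add (x y : Vc) : Y1 (x + y) = Y1 x + Y1 y := by vg
theorem Y2_add (x y : Vc) : Y2 (x + y) = Y2 x + Y2 y := by vg
theorem act_a1 (w : Wd) : co (sh q_a1 w) = A1 (co w) := act A1_add (by decide +kernel) w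
theorem act_a2 (w : Wd) : co (sh q_a2 w) = A2 (co w) := act A2_add (by decide +kernel) w
theorem act_a3 (w : Wd) : co (sh q_a3 w) = A3 (co w) := act A3_add (by decide +kernel) w
theorem act_a4 (w : Wd) : co (sh q_a4 w) = A4 (co w) := act A4_add (by decide +kernel) w
theorem act_y1 (w : Wd) : co (sh q_y1 w) = Y1 (co w) := act Y1_add (by decide +kernel) w
theorem act_y2 (w : Wd) : co (sh q_y2 w) = Y2 (co w) := act Y2_add (by decide +kernel) w
theorem act_s (w : Wd) : co (sh q_s w) = SS (co w) := act SS_add (by decide +kernel) w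
theorem act_t (w : Wd) : co (sh q_t w) = TT (co w) := act TT_add (by decide +kernel) w

end H49.TD.Dat
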