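import Cfsg.Agent.Lib.H49.TD11

/-!
A splitting criterion for extensions of `M23` by elementary abelian 2-groups.
-/

set_option autoImplicit false

namespace H49.TD

open Cfsg Subgroup H8.GolayCode H8.GolayCount H8.GolayBasic H8.M24Mem H93.GolayMod H49.M22D

universe u v

theorem index22 : (Spor.M22.subgroupOf Spor.M23).index = 23 := by
  have h1 := (Spor.M22.subgroupOf Spor.M23).card_mul_index
  have h2 : Nat.card (Spor.M22.subgroupOf Spor.M23) = Nat.card Spor.M22 :=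
    Nat.card_congr (Subgroup.subgroupOfEquivOfLe (inf_le_left : Spor.M22 ≤ Spor.M23)).toEquiv
  rw [h2, H57.M24Fus2.card_M22, H57.M24Fus2.card_M23] at h1
  omega

theorem index_comap22 {Q : Type v} [Group Q] (ρ : Q →* Equiv.Perm GolayPt) (hρ : ∀ q, ρ q ∈ Spor.M23)
    (hs : ∀ σ ∈ Spor.M23, ∃ q, ρ q = σ) : (Spor.M22.comap ρ).index = 23 := by
  let ρ' : Q →* Spor.M23 := ρ.codRestrict Spor.M23 hρ
  have h1 : Function.Surjective ρ' := by
    rintro ⟨σ, hσ⟩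
    obtain ⟨q, hq⟩ := hs σ hσ
    exact ⟨q, Subtype.ext hq⟩
  have h2 : Spor.M22.comap ρ = (Spor.M22.subgroupOf Spor.M23).comap ρ' := rfl
  rw [h2, index_comap_of_surjective _ h1, index22]

/-- complements from a subgroup over `M22` meeting the kernel in a group of order two -/
theorem crit {Q : Type v} [Group Q] [Finite Q] (ρ : Q →* Equiv.Perm GolayPt) (hρ : ∀ q, ρ q ∈ Spor.M23)
    (hs : ∀ σ ∈ Spor.M23, ∃ q, ρ q = σ) (hsq : ∀ x, ρ x = 1 → x * x = 1) (F : Subgroup Q) (c : Q)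
    (hF1 : ∀ f ∈ F, ρ f (some 0) = some 0) (hF2 : ∀ σ ∈ Spor.M22, ∃ f ∈ F, ρ f = σ) (hc : c ∈ F) (hc1 : c ≠ 1)
    (hc2 : ρ c = 1) (hF3 : ∀ f ∈ F, ρ f = 1 → f = 1 ∨ f = c)
    (hAB : ∀ A ∈ F, ∀ B ∈ F, ρ A = p_e * p_s → ρ B = p_t * (p_e * p_s) * p_t → A * B * A = B) :
    ∃ H : Subgroup Q, IsComplement' ρ.ker H := by
  have hF22 : ∀ f ∈ F, ρ f ∈ Spor.M22 := fun f hf => ⟨hρ f, hF1 f hf⟩
  let σ : F →* Spor.M22 := (ρ.comp F.subtype).codRestrict Spor.M22 (fun f => hF22 f.1 f.2)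
  have hσ : ∀ f : F, ((σ f : Spor.M22) : Equiv.Perm GolayPt) = ρ f.1 := fun f => rfl
  have hσ1 : ∀ f : F, σ f = 1 ↔ ρ f.1 = 1 := by
    intro f
    rw [← hσ]
    exact ⟨fun h => by rw [h]; rfl, fun h => Subtype.ext h⟩
  have hsσ : Function.Surjective σ := by
    rintro ⟨τ, hτ⟩
    obtain ⟨f, hf, hfτ⟩ := hF2 τ hτ
    exact ⟨⟨f, hf⟩, Subtype.ext hfτ⟩
  have hcard : Nat.card σ.ker = 2 := by
    rw [Nat.card_eq_two_iff]
    refine ⟨1, ⟨⟨c, hc⟩, (hσ1 _).2 hc2⟩, ?_, ?_⟩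
    · intro h
      exact hc1 (congrArg (fun x : σ.ker => ((x : F) : Q)) h).symm
    · rw [Set.eq_univ_iff_forall]
      rintro ⟨⟨f, hf⟩, hk⟩
      rcases hF3 f hf ((hσ1 _).1 hk) with h | h
      · left; exact Subtype.ext (Subtype.ext h)
      · right
        exact Subtype.ext (Subtype.ext h)
  obtain ⟨χ, hχ, hχ1⟩ := M22D.char hsσ hcard (by
    intro A B hA hB
    apply Subtype.ext
    apply hAB A.1 A.2 B.1 B.2
    · rw [← hσ, hA]; rfl
    · rw [← hσ, hB]; rfl)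
  have hχc : χ ⟨c, hc⟩ = 1 := hχ1 _ ((hσ1 _).2 hc2) (fun h => hc1 (congrArg Subtype.val h))
  have χ1 : χ 1 = 0 := by
    have := hχ 1 1
    rw [mul_one] at this
    exact left_eq_add.1 this
  let A : Subgroup Q :=
    { carrier := {q | ∃ h : q ∈ F, χ ⟨q, h⟩ = 0}
      one_mem' := ⟨F.one_mem, χ1⟩
      mul_mem' := by
        rintro a b ⟨ha, ha'⟩ ⟨hb, hb'⟩
        refine ⟨F.mul_mem ha hb, ?_⟩
        have := hχ ⟨a, ha⟩ ⟨b, hb⟩
        rw [ha', hb', add_zero] at this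
        exact this
      inv_mem' := by
        rintro a ⟨ha, ha'⟩
        refine ⟨F.inv_mem ha, ?_⟩
        have := hχ ⟨a, ha⟩ ⟨a⁻¹, F.inv_mem ha⟩
        rw [show (⟨a, ha⟩ : F) * ⟨a⁻¹, F.inv_mem ha⟩ = 1 from Subtype.ext (mul_inv_cancel a), χ1, ha', zero_add] at this
        exact this.symm }
  have hAU : A ≤ Spor.M22.comap ρ := by
    rintro a ⟨ha, -⟩
    exact hF22 a ha
  have hAK : A ⊓ ρ.ker = ⊥ := by
    rw [eq_bot_iff]
    rintro a ⟨⟨ha, ha'⟩, hk⟩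
    rw [mem_bot]
    rcases hF3 a ha hk with h | h
    · exact h
    · exfalso
      subst h
      rw [hχc] at ha'
      exact absurd ha' (by decide)
  have hKA : ρ.ker ⊔ A = Spor.M22.comap ρ := by
    apply le_antisymm
    · rw [sup_le_iff]
      refine ⟨?_, hAU⟩
      intro q hq
      show ρ q ∈ Spor.M22
      rw [show ρ q = 1 from hq]
      exact Spor.M22.one_mem
    · intro q hq
      obtain ⟨f, hf, hfq⟩ := hF2 (ρ q) hq
      have h2 : ∀ a, a ∈ A → ρ a = ρ q → q ∈ ρ.ker ⊔ A := by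
        intro a ha haq
        have h3 : q = (q * a⁻¹) * a := by group
        rw [h3]
        refine (ρ.ker ⊔ A).mul_mem (mem_sup_left ?_) (mem_sup_right ha)
        show ρ (q * a⁻¹) = 1
        rw [map_mul, map_inv, haq, mul_inv_cancel]
      have h4 : χ ⟨f, hf⟩ = 0 ∨ χ ⟨f, hf⟩ = 1 := by
        generalize χ ⟨f, hf⟩ = a
        revert a; decide
      rcases h4 with h4 | h4
      · exact h2 f ⟨hf, h4⟩ hfq
      · refine h2 (f * c) ⟨F.mul_mem hf hc, ?_⟩ (by rw [map_mul, hc2, mul_one, hfq])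
        have := hχ ⟨f, hf⟩ ⟨c, hc⟩
        rw [h4, hχc] at this
        exact this.trans (by decide)
  have hcomm : IsMulCommutative ρ.ker := ⟨⟨fun a b => Subtype.ext (CE.comm3 (hsq _ a.2) (hsq _ b.2)
    (hsq _ (by
      have h5 : ρ a.1 = 1 := a.2
      have h6 : ρ b.1 = 1 := b.2
      rw [map_mul, h5, h6, mul_one])))⟩⟩
  have hp : IsPGroup 2 ρ.ker := by
    intro a
    refine ⟨1, ?_⟩
    rw [pow_one, pow_two]
    exact Subtype.ext (hsq _ a.2)
  obtain ⟨n, hn⟩ := IsPGroup.iff_card.1 hp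
  have hcop : (Nat.card ρ.ker).Coprime (Spor.M22.comap ρ).index := by
    rw [hn, index_comap22 ρ hρ hs]
    exact Nat.Coprime.pow_left n (by decide)
  exact H2.Gaschutz.exists_complement ρ.ker _ hcop A hAU hAK hKA

end H49.TD
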