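import Cfsg.Agent.Lib.H49.TD12

/-!
Extensions of `M23` by the cocode: a subgroup `2 . M22`.
-/

set_option autoImplicit false

namespace H49.TD

open Cfsg Subgroup H8.GolayCode H8.GolayCount H8.GolayBasic H8.M24Mem H93.GolayMod H49.M22D H49.TD.Dat

universe u v

/-- an extension of `M23` by the cocode -/
structure CocExt (E : Type u) [Group E] where
  π : E →* Equiv.Perm GolayPt
  hπ : ∀ g, π g ∈ Spor.M23
  surj : ∀ σ ∈ Spor.M23, ∃ g, π g = σ
  θ : Wd → E
  add : ∀ w w', θ (w + w') = θ w * θ w'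
  one : ∀ w, θ w = 1 ↔ (w ∈ golayCode ∨ w + Pi.single none 1 ∈ golayCode)
  ker : ∀ v, π v = 1 ↔ ∃ w, θ w = v
  equi : ∀ g w, θ (sh (π g) w) = g * θ w * g⁻¹

theorem z01 : ∀ a : ZMod 2, a = 0 ∨ a = 1 := by decide

theorem wadd (w : Wd) : w + w = 0 := funext fun p => z2 (w p)

theorem weq {w w' : Wd} (h : w + w' = 0) : w = w' := by
  have : w = w + w' + w' := by rw [add_assoc, wadd, add_zero]
  rw [this, h, zero_add]

namespace CocExt

variable {E : Type u} [Group E] (D : CocExt E)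

theorem θ_zero : D.θ 0 = 1 := (D.one 0).2 (Or.inl golayCode.zero_mem)

theorem θ_sq (w : Wd) : D.θ w * D.θ w = 1 := by rw [← D.add, wadd, D.θ_zero]

theorem θ_inv (w : Wd) : (D.θ w)⁻¹ = D.θ w := inv_eq_of_mul_eq_one_right (D.θ_sq w)

theorem π_θ (w : Wd) : D.π (D.θ w) = 1 := (D.ker _).2 ⟨w, rfl⟩

theorem θ_none : D.θ (Pi.single none 1) = 1 := (D.one _).2 (Or.inr (by rw [wadd]; exact golayCode.zero_mem))

theorem θ_comm (w w' : Wd) : D.θ w * D.θ w' = D.θ w' * D.θ w := by rw [← D.add, ← D.add, add_comm]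

/-- the distinguished element -/
def c : E := D.θ (Pi.single (some 0) 1)

theorem cc : D.c * D.c = 1 := D.θ_sq _

theorem π_c : D.π D.c = 1 := D.π_θ _

theorem c_ne : D.c ≠ 1 := by
  intro h
  have h1 := (D.one _).1 h
  have e1 : (Pi.single (some 0) 1 : Wd) = wd (2 ^ 0) := by
    rw [single_eq]
    rfl
  have e2 : (Pi.single none 1 : Wd) = wd (2 ^ 23) := by
    rw [single_eq]
    rfl
  rw [e1, e2, ← wd_xor, wd_mem_iff (by decide), wd_mem_iff (by decide)] at h1
  revert h1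
  decide +kernel

theorem co_of_one {w : Wd} (h : D.θ w = 1) : co w = 0 := by
  rcases (D.one w).1 h with h | h
  · exact co_code h
  · have := co_code h
    rw [map_add, co_none, add_zero] at this
    exact this

theorem co_of_c {w : Wd} (h : D.θ w = D.c) : co w = 0 := by
  have h1 : D.θ (w + Pi.single (some 0) 1) = 1 := by
    rw [D.add, h]; exact D.cc
  have h2 := D.co_of_one h1
  rw [map_add, co_zero', add_zero] at h2
  exact h2

theorem of_co {w : Wd} (h : co w = 0) : D.θ w = 1 ∨ D.θ w = D.c := by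
  obtain ⟨a, b, hab⟩ := Dat.of_co h
  have h1 : D.θ (w + a • Pi.single none 1 + b • Pi.single (some 0) 1) = 1 := (D.one _).2 (Or.inl hab)
  have ha : D.θ (a • Pi.single none 1) = 1 := by
    rcases z01 a with rfl | rfl
    · rw [zero_smul, D.θ_zero]
    · rw [one_smul, D.θ_none]
  rw [D.add, D.add, ha, mul_one] at h1
  rcases z01 b with rfl | rfl
  · left
    rw [zero_smul, D.θ_zero, mul_one] at h1
    exact h1
  · right
    rw [one_smul] at h1
    exact (eq_inv_of_mul_eq_one_left h1).trans (D.θ_inv _)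

/-- the stabiliser of a point -/
def St : Subgroup E := Spor.M22.comap D.π

theorem mem_St {g : E} : g ∈ D.St ↔ D.π g ∈ Spor.M22 := Iff.rfl

theorem θ_mem (w : Wd) : D.θ w ∈ D.St := by
  rw [D.mem_St, D.π_θ]
  exact Spor.M22.one_mem

theorem c_comm {g : E} (hg : D.π g (some 0) = some 0) : g * D.c = D.c * g := by
  have h1 := D.equi g (Pi.single (some 0) 1)
  rw [sh_single, hg] at h1
  have h2 : D.c = g * D.c * g⁻¹ := h1
  exact (eq_mul_inv_iff_mul_eq.1 h2).symm

def c0 : D.St := ⟨D.c, D.θ_mem _⟩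

def K0 : Subgroup D.St := zpowers D.c0

theorem mem_K0 {x : D.St} : x ∈ D.K0 ↔ x.1 = 1 ∨ x.1 = D.c := by
  constructor
  · rintro ⟨i, rfl⟩
    rcases Int.even_or_odd' i with ⟨k, rfl | rfl⟩
    · left
      show (((D.c0 : D.St) ^ (2 * k) : D.St) : E) = 1
      rw [SubgroupClass.coe_zpow, zpow_mul, zpow_two, show (D.c0 : E) = D.c from rfl, D.cc, one_zpow]
    · right
      show (((D.c0 : D.St) ^ (2 * k + 1) : D.St) : E) = D.c
      rw [SubgroupClass.coe_zpow, zpow_add, zpow_mul, zpow_two, zpow_one, show (D.c0 : E) = D.c from rfl, D.cc,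
        one_zpow, one_mul]
  · rintro (h | h)
    · have : x = 1 := Subtype.ext h
      rw [this]; exact one_mem _
    · have : x = D.c0 := Subtype.ext h
      rw [this]; exact mem_zpowers _

instance : D.K0.Normal := ⟨by
  intro n hn g
  have h1 : g * n * g⁻¹ = n := by
    rw [mul_inv_eq_iff_eq_mul]
    apply Subtype.ext
    show g.1 * n.1 = n.1 * g.1
    rcases D.mem_K0.1 hn with h | h
    · rw [h, mul_one, one_mul]
    · rw [h]; exact D.c_comm g.2.2
  rw [h1]
  exact hn⟩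

/-- restriction to the stabiliser -/
def πs : D.St →* Spor.M22 := (D.π.comp D.St.subtype).codRestrict Spor.M22 (fun f => f.2)

theorem πs_coe (f : D.St) : ((D.πs f : Spor.M22) : Equiv.Perm GolayPt) = D.π f.1 := rfl

def πb : D.St ⧸ D.K0 →* Spor.M22 := QuotientGroup.lift D.K0 D.πs (by
  intro x hx
  apply Subtype.ext
  show D.π x.1 = 1
  rcases D.mem_K0.1 hx with h | h
  · rw [h, map_one]
  · rw [h, D.π_c])

theorem πb_mk (x : D.St) : D.πb (QuotientGroup.mk x) = D.πs x := rfl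

def tb (w : Wd) : D.St ⧸ D.K0 := QuotientGroup.mk ⟨D.θ w, D.θ_mem w⟩

theorem tb_add (w w' : Wd) : D.tb (w + w') = D.tb w * D.tb w' := by
  unfold tb
  rw [← QuotientGroup.mk_mul]
  congr 1
  exact Subtype.ext (D.add w w')

theorem tb_one_iff (w : Wd) : D.tb w = 1 ↔ co w = 0 := by
  unfold tb
  rw [QuotientGroup.eq_one_iff, D.mem_K0]
  constructor
  · rintro (h | h)
    · exact D.co_of_one h
    · exact D.co_of_c h
  · exact D.of_co

theorem tb_eq {w w' : Wd} (h : co w = co w') : D.tb w = D.tb w' := by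
  have h1 : D.tb (w + w') = 1 := (D.tb_one_iff _).2 (by rw [map_add, h, vadd])
  have h2 : D.tb (w' + w') = 1 := (D.tb_one_iff _).2 (by rw [map_add, vadd])
  rw [D.tb_add] at h1 h2
  exact mul_right_cancel (h1.trans h2.symm)

theorem tb_act {σ : Equiv.Perm GolayPt} {A : Vc → Vc} (hA : ∀ w, co (sh σ w) = A (co w)) {a : Spor.M22} (ha : (a : Equiv.Perm GolayPt) = σ)
    (g : D.St ⧸ D.K0) (hg : D.πb g = a) (x : Vc) : g * D.tb (ld x) = D.tb (ld (A x)) * g := by
  obtain ⟨g, rfl⟩ := QuotientGroup.mk_surjective g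
  have h1 : D.π g.1 = σ := by rw [← ha, ← hg]; rfl
  have h2 : D.tb (ld (A x)) = D.tb (sh σ (ld x)) := D.tb_eq (by rw [co_ld, hA, co_ld])
  rw [h2]
  unfold tb
  rw [← QuotientGroup.mk_mul, ← QuotientGroup.mk_mul]
  congr 1
  apply Subtype.ext
  show g.1 * D.θ (ld x) = D.θ (sh σ (ld x)) * g.1
  rw [← h1, D.equi]
  group

/-- the quotient extension of `M22` -/
def mext : MExt (D.St ⧸ D.K0) Spor.M22 where
  π := D.πb
  surj := by
    intro a
    obtain ⟨g, hg⟩ := D.surj _ a.2.1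
    have h1 : g ∈ D.St := by rw [D.mem_St, hg]; exact a.2
    refine ⟨QuotientGroup.mk ⟨g, h1⟩, ?_⟩
    rw [D.πb_mk]
    exact Subtype.ext hg
  t := fun x => D.tb (ld x)
  add := by
    intro x y
    rw [map_add, D.tb_add]
  inj := by
    intro x hx
    have := (D.tb_one_iff _).1 hx
    rwa [co_ld] at this
  ker := by
    intro v
    obtain ⟨v, rfl⟩ := QuotientGroup.mk_surjective v
    constructor
    · intro h
      have h1 : D.π v.1 = 1 := by
        have := congrArg (fun x : Spor.M22 => (x : Equiv.Perm GolayPt)) h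
        exact this
      obtain ⟨w, hw⟩ := (D.ker _).1 h1
      refine ⟨co w, ?_⟩
      rw [D.tb_eq (w := ld (co w)) (w' := w) (by rw [co_ld])]
      unfold tb
      congr 1
      exact Subtype.ext hw
    · rintro ⟨x, hx⟩
      rw [← hx]
      apply Subtype.ext
      exact D.π_θ _
  a1 := g_a1
  a2 := g_a2
  a3 := g_a3
  a4 := g_a4
  y1 := g_y1
  y2 := g_y2
  s := g_s
  s' := g_t
  gr := g_gr
  gs := g_gs
  gt := g_gt
  hA1 := fun g hg x => D.tb_act act_a1 rfl g hg x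
  hA2 := fun g hg x => D.tb_act act_a2 rfl g hg x
  hA3 := fun g hg x => D.tb_act act_a3 rfl g hg x
  hA4 := fun g hg x => D.tb_act act_a4 rfl g hg x
  hY1 := fun g hg x => D.tb_act act_y1 rfl g hg x
  hY2 := fun g hg x => D.tb_act act_y2 rfl g hg x
  hS := fun g hg x => D.tb_act act_s rfl g hg x
  hT := fun g hg x => D.tb_act act_t rfl g hg x
  a11 := r_a11
  a12 := r_a12
  a13 := r_a13
  a14 := r_a14
  a23 := r_a23
  a24 := r_a24
  a34 := r_a34
  a22 := r_a22
  a33 := r_a33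
  a44 := r_a44
  y1p := r_y1p
  y2p := r_y2p
  y12 := r_y12
  y1a1 := r_y1a1
  y1a2 := r_y1a2
  y1a3 := r_y1a3
  y1a4 := r_y1a4
  y2a3 := r_y2a3
  y2a4 := r_y2a4
  y2a1 := r_y2a1
  y2a2 := r_y2a2
  sa1 := r_sa1
  sa2 := r_sa2
  sa3 := r_sa3
  sa4 := r_sa4
  ta1 := r_ta1
  ta2 := r_ta2
  ta3 := r_ta3
  ta4 := r_ta4
  ss := r_ss
  tt := r_tt
  st4 := r_st4
  gr1 := r_gr1
  gr2 := r_gr2
  gs1 := r_gs1
  gt1 := r_gt1

/-- a subgroup `2 . M22` -/
structure IsF (F : Subgroup E) : Prop where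
  fix : ∀ f ∈ F, D.π f (some 0) = some 0
  surj : ∀ σ ∈ Spor.M22, ∃ f ∈ F, D.π f = σ
  c_mem : D.c ∈ F
  ker : ∀ f ∈ F, D.π f = 1 → f = 1 ∨ f = D.c

theorem exists_F [Finite E] : ∃ F : Subgroup E, D.IsF F := by
  obtain ⟨H, hH⟩ := D.mext.split f_z f_w f_u f_e f_s f_r f_t card_M22
  refine ⟨(H.comap (QuotientGroup.mk' D.K0)).map D.St.subtype, ?_, ?_, ?_, ?_⟩
  · rintro _ ⟨x, -, rfl⟩
    exact x.2.2
  · intro σ hσ
    obtain ⟨g, hg⟩ := D.surj _ hσ.1
    have h1 : g ∈ D.St := by rw [D.mem_St, hg]; exact hσ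
    obtain ⟨⟨k, h⟩, hkh⟩ := hH.2 (QuotientGroup.mk ⟨g, h1⟩)
    obtain ⟨x, hx⟩ := QuotientGroup.mk_surjective h.1
    refine ⟨x.1, ⟨x, ?_, rfl⟩, ?_⟩
    · show (QuotientGroup.mk x : D.St ⧸ D.K0) ∈ H
      rw [hx]; exact h.2
    · have h2 : D.πb k.1 * D.πb h.1 = D.πb (QuotientGroup.mk ⟨g, h1⟩) := by
        rw [← map_mul]
        exact congrArg D.πb hkh
      rw [show D.πb k.1 = 1 from k.2, one_mul, ← hx] at h2
      have h3 := congrArg (fun x : Spor.M22 => (x : Equiv.Perm GolayPt)) h2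
      exact h3.trans hg
  · refine ⟨D.c0, ?_, rfl⟩
    show (QuotientGroup.mk D.c0 : D.St ⧸ D.K0) ∈ H
    rw [(QuotientGroup.eq_one_iff _).2 (D.mem_K0.2 (Or.inr rfl))]
    exact H.one_mem
  · rintro _ ⟨x, hx, rfl⟩ h
    have h1 : (QuotientGroup.mk x : D.St ⧸ D.K0) ∈ D.mext.π.ker ⊓ H := ⟨Subtype.ext h, hx⟩
    rw [hH.disjoint.eq_bot, mem_bot] at h1
    exact D.mem_K0.1 ((QuotientGroup.eq_one_iff _).1 h1)

end CocExt

end H49.TD
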