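import Cfsg.Agent.Lib.H49.TD13

/-!
Uniqueness of the nonsplit extension of `M23` by the cocode.
-/

set_option autoImplicit false

namespace H49.TD

open Cfsg Subgroup H8.GolayCode H8.GolayCount H8.GolayBasic H8.M24Mem H93.GolayMod H49.M22D H49.TD.Dat

universe u v

theorem relAB : p_e * p_s * (p_t * (p_e * p_s) * p_t) * (p_e * p_s) = p_t * (p_e * p_s) * p_t := Equiv.ext (by
  show ∀ p, p_e (p_s (p_t (p_e (p_s (p_t (p_e (p_s p))))))) = p_t (p_e (p_s (p_t p)))
  decide +kernel)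

namespace CocExt

section one

variable {E : Type u} [Group E] (D : CocExt E)

theorem aba [Finite E] (hns : ¬ ∃ H : Subgroup E, IsComplement' D.π.ker H) {F : Subgroup E} (hF : D.IsF F) {A B : E}
    (hA : A ∈ F) (hB : B ∈ F) (pA : D.π A = p_e * p_s) (pB : D.π B = p_t * (p_e * p_s) * p_t) :
    A * B * A = B * D.c := by
  have com : ∀ f ∈ F, f * D.c = D.c * f := fun f hf => D.c_comm (hF.fix f hf)
  have two : ∀ f ∈ F, ∀ g ∈ F, D.π f = D.π g → f = g ∨ f = g * D.c := by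
    intro f hf g hg hfg
    rcases hF.ker (g⁻¹ * f) (F.mul_mem (F.inv_mem hg) hf) (by rw [map_mul, map_inv, hfg, inv_mul_cancel]) with h | h
    · left; exact (inv_mul_eq_one.1 h).symm
    · right; rw [← h]; group
  rcases two _ (F.mul_mem (F.mul_mem hA hB) hA) B hB (by rw [map_mul, map_mul, pA, pB, relAB]) with h | h
  · exfalso
    apply hns
    refine crit D.π D.hπ D.surj ?_ F D.c hF.fix hF.surj hF.c_mem D.c_ne D.π_c hF.ker ?_
    · intro x hx
      obtain ⟨w, rfl⟩ := (D.ker x).1 hx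
      exact D.θ_sq w
    · intro A' hA' B' hB' pA' pB'
      have hAc := com A hA
      have hBc := com B hB
      have hcc := D.cc
      have key1 : (A * D.c) * B * (A * D.c) = A * B * A := by
        calc (A * D.c) * B * (A * D.c) = A * (D.c * B) * (A * D.c) := by group
          _ = A * (B * D.c) * (A * D.c) := by rw [hBc]
          _ = A * B * (D.c * A) * D.c := by group
          _ = A * B * (A * D.c) * D.c := by rw [hAc]
          _ = A * B * A * (D.c * D.c) := by group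
          _ = A * B * A := by rw [hcc, mul_one]
      have key2 : ∀ X, X * D.c = D.c * X → X * (B * D.c) * X = X * B * X * D.c := by
        intro X hX
        calc X * (B * D.c) * X = X * B * (D.c * X) := by group
          _ = X * B * (X * D.c) := by rw [hX]
          _ = _ := by group
      have hAc2 : (A * D.c) * D.c = D.c * (A * D.c) := by rw [hAc, mul_assoc, hAc]
      rcases two A' hA' A hA (by rw [pA, pA']) with rfl | rfl <;> rcases two B' hB' B hB (by rw [pB, pB']) with rfl | rfl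
      · exact h
      · rw [key2 _ hAc, h]
      · rw [key1, h]
      · rw [key2 _ hAc2, key1, h]
  · exact h

end one

section two

variable {E : Type u} [Group E] {E' : Type v} [Group E'] (D : CocExt E) (D' : CocExt E')

/-- the fibre product -/
def P : Subgroup (E × E') where
  carrier := {x | D.π x.1 = D'.π x.2}
  one_mem' := by show D.π 1 = D'.π 1; rw [map_one, map_one]
  mul_mem' := by
    intro a b ha hb
    show D.π (a.1 * b.1) = D'.π (a.2 * b.2)
    rw [map_mul, map_mul, show D.π a.1 = D'.π a.2 from ha, show D.π b.1 = D'.π b.2 from hb]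
  inv_mem' := by
    intro a ha
    show D.π (a.1)⁻¹ = D'.π (a.2)⁻¹
    rw [map_inv, map_inv, show D.π a.1 = D'.π a.2 from ha]

/-- the diagonal cocode -/
def DD : Subgroup (P D D') where
  carrier := {x | ∃ w, D.θ w = x.1.1 ∧ D'.θ w = x.1.2}
  one_mem' := ⟨0, D.θ_zero, D'.θ_zero⟩
  mul_mem' := by
    rintro a b ⟨w, hw, hw'⟩ ⟨y, hy, hy'⟩
    exact ⟨w + y, by rw [D.add, hw, hy]; rfl, by rw [D'.add, hw', hy']; rfl⟩
  inv_mem' := by
    rintro a ⟨w, hw, hw'⟩
    refine ⟨w, ?_, ?_⟩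
    · rw [← D.θ_inv, hw]; rfl
    · rw [← D'.θ_inv, hw']; rfl

instance : (DD D D').Normal := ⟨by
  rintro n ⟨w, hw, hw'⟩ g
  refine ⟨sh (D.π g.1.1) w, ?_, ?_⟩
  · rw [D.equi, hw]; rfl
  · rw [show D.π g.1.1 = D'.π g.1.2 from g.2, D'.equi, hw']; rfl⟩

/-- the projection to `M23` -/
def pr1 : P D D' →* Equiv.Perm GolayPt := (D.π.comp (MonoidHom.fst E E')).comp (P D D').subtype

def prQ : P D D' ⧸ DD D D' →* Equiv.Perm GolayPt := QuotientGroup.lift _ (pr1 D D') (by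
  rintro x ⟨w, hw, -⟩
  show D.π x.1.1 = 1
  rw [← hw, D.π_θ])

theorem prQ_mk (x : P D D') : prQ D D' (QuotientGroup.mk x) = D.π x.1.1 := rfl

theorem exists_H [Finite E] [Finite E'] (hns : ¬ ∃ H : Subgroup E, IsComplement' D.π.ker H)
    (hns' : ¬ ∃ H : Subgroup E', IsComplement' D'.π.ker H) :
    ∃ H : Subgroup (P D D' ⧸ DD D D'), IsComplement' (prQ D D').ker H := by
  obtain ⟨F, hF⟩ := D.exists_F
  obtain ⟨F', hF'⟩ := D'.exists_F
  let FF : Subgroup (P D D') := (F.prod F').comap (P D D').subtype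
  have mFF : ∀ x : P D D', x ∈ FF ↔ x.1.1 ∈ F ∧ x.1.2 ∈ F' := fun x => Iff.rfl
  have hPc : ((D.c, (1 : E')) : E × E') ∈ P D D' := by
    show D.π D.c = D'.π 1
    rw [D.π_c, map_one]
  have hcc : ∀ x : P D D', x.1.1 = D.c → x.1.2 = D'.c → (QuotientGroup.mk x : P D D' ⧸ DD D D') = 1 := by
    intro x h1 h2
    rw [QuotientGroup.eq_one_iff]
    exact ⟨Pi.single (some 0) 1, h1.symm, h2.symm⟩
  refine crit (prQ D D') ?_ ?_ ?_ (FF.map (QuotientGroup.mk' (DD D D'))) (QuotientGroup.mk ⟨(D.c, 1), hPc⟩) ?_ ?_ ?_ ?_ ?_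
    ?_ ?_
  · intro q
    obtain ⟨x, rfl⟩ := QuotientGroup.mk_surjective q
    exact D.hπ x.1.1
  · intro σ hσ
    obtain ⟨g, hg⟩ := D.surj σ hσ
    obtain ⟨g', hg'⟩ := D'.surj σ hσ
    exact ⟨QuotientGroup.mk ⟨(g, g'), hg.trans hg'.symm⟩, hg⟩
  · intro q hq
    obtain ⟨x, rfl⟩ := QuotientGroup.mk_surjective q
    rw [prQ_mk] at hq
    have hq' : D'.π x.1.2 = 1 := by rw [← hq]; exact x.2.symm
    obtain ⟨w, hw⟩ := (D.ker _).1 hq
    obtain ⟨w', hw'⟩ := (D'.ker _).1 hq'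
    rw [← QuotientGroup.mk_mul]
    have : x * x = 1 := by
      apply Subtype.ext
      apply Prod.ext
      · show x.1.1 * x.1.1 = 1
        rw [← hw, D.θ_sq]
      · show x.1.2 * x.1.2 = 1
        rw [← hw', D'.θ_sq]
    rw [this]; rfl
  · rintro _ ⟨x, hx, rfl⟩
    exact hF.fix _ hx.1
  · intro σ hσ
    obtain ⟨f, hf, hfσ⟩ := hF.surj σ hσ
    obtain ⟨f', hf', hfσ'⟩ := hF'.surj σ hσ
    exact ⟨_, ⟨⟨(f, f'), hfσ.trans hfσ'.symm⟩, ⟨hf, hf'⟩, rfl⟩, hfσ⟩
  · exact ⟨⟨(D.c, 1), hPc⟩, ⟨hF.c_mem, F'.one_mem⟩, rfl⟩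
  · intro h
    rw [QuotientGroup.eq_one_iff] at h
    obtain ⟨w, hw, hw'⟩ := h
    have h1 := (D.one w).2 ((D'.one w).1 hw')
    rw [hw] at h1
    exact D.c_ne h1
  · exact D.π_c
  · rintro _ ⟨x, hx, rfl⟩ h
    have h1 : D.π x.1.1 = 1 := h
    have h2 : D'.π x.1.2 = 1 := by rw [← h1]; exact x.2.symm
    rcases hF.ker _ hx.1 h1 with e1 | e1 <;> rcases hF'.ker _ hx.2 h2 with e2 | e2
    · left
      have : x = 1 := Subtype.ext (Prod.ext e1 e2)
      rw [this]; rfl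
    · right
      have e3 : (QuotientGroup.mk (x * ⟨(D.c, 1), hPc⟩) : P D D' ⧸ DD D D') = 1 := hcc _ (by
        show x.1.1 * D.c = D.c
        rw [show x.1.1 = 1 from e1, one_mul]) (by
        show x.1.2 * 1 = D'.c
        rw [mul_one]; exact e2)
      have e4 : (QuotientGroup.mk (⟨(D.c, 1), hPc⟩ * ⟨(D.c, 1), hPc⟩) : P D D' ⧸ DD D D') = 1 := by
        have : (⟨(D.c, 1), hPc⟩ * ⟨(D.c, 1), hPc⟩ : P D D') = 1 := by
          apply Subtype.ext
          apply Prod.ext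
          · exact D.cc
          · exact mul_one 1
        rw [this]; rfl
      rw [QuotientGroup.mk_mul] at e3 e4
      exact mul_right_cancel (e3.trans e4.symm)
    · right
      have : x = ⟨(D.c, 1), hPc⟩ := Subtype.ext (Prod.ext e1 e2)
      rw [this]; rfl
    · left
      exact hcc x e1 e2
  · rintro _ ⟨A, hA, rfl⟩ _ ⟨B, hB, rfl⟩ pA pB
    have pA1 : D.π A.1.1 = p_e * p_s := pA
    have pB1 : D.π B.1.1 = p_t * (p_e * p_s) * p_t := pB
    have pA2 : D'.π A.1.2 = p_e * p_s := by rw [← pA1]; exact A.2.symm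
    have pB2 : D'.π B.1.2 = p_t * (p_e * p_s) * p_t := by rw [← pB1]; exact B.2.symm
    have k1 := D.aba hns hF hA.1 hB.1 pA1 pB1
    have k2 := D'.aba hns' hF' hA.2 hB.2 pA2 pB2
    rw [← map_mul, ← map_mul]
    have e3 : (QuotientGroup.mk (B⁻¹ * (A * B * A)) : P D D' ⧸ DD D D') = 1 := hcc _ (by
      show B.1.1⁻¹ * (A.1.1 * B.1.1 * A.1.1) = D.c
      have k1' : A.1.1 * B.1.1 * A.1.1 = B.1.1 * D.c := k1
      rw [k1']; group) (by
      show B.1.2⁻¹ * (A.1.2 * B.1.2 * A.1.2) = D'.c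
      have k2' : A.1.2 * B.1.2 * A.1.2 = B.1.2 * D'.c := k2
      rw [k2']; group)
    rw [QuotientGroup.mk_mul, QuotientGroup.mk_inv, inv_mul_eq_one] at e3
    exact e3.symm

/-- uniqueness -/
theorem unique [Finite E] [Finite E'] (hns : ¬ ∃ H : Subgroup E, IsComplement' D.π.ker H)
    (hns' : ¬ ∃ H : Subgroup E', IsComplement' D'.π.ker H) : Nonempty (E ≃* E') := by
  obtain ⟨H, hH⟩ := exists_H D D' hns hns'
  let I : Subgroup (P D D') := H.comap (QuotientGroup.mk' (DD D D'))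
  have mI : ∀ x : P D D', x ∈ I ↔ (QuotientGroup.mk x : P D D' ⧸ DD D D') ∈ H := fun x => Iff.rfl
  have I1 : ∀ x ∈ I, D.π x.1.1 = 1 → x ∈ DD D D' := by
    intro x hx h
    have h1 : (QuotientGroup.mk x : P D D' ⧸ DD D D') ∈ (prQ D D').ker ⊓ H := ⟨h, hx⟩
    rw [hH.disjoint.eq_bot, mem_bot] at h1
    exact (QuotientGroup.eq_one_iff _).1 h1
  have I2 : DD D D' ≤ I := by
    intro x hx
    rw [mI, (QuotientGroup.eq_one_iff x).2 hx]
    exact H.one_mem
  have I3 : ∀ σ ∈ Spor.M23, ∃ x ∈ I, D.π x.1.1 = σ := by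
    intro σ hσ
    obtain ⟨g, hg⟩ := D.surj σ hσ
    obtain ⟨g', hg'⟩ := D'.surj σ hσ
    obtain ⟨⟨k, h⟩, hkh⟩ := hH.2 (QuotientGroup.mk ⟨(g, g'), hg.trans hg'.symm⟩)
    obtain ⟨x, hx⟩ := QuotientGroup.mk_surjective h.1
    refine ⟨x, ?_, ?_⟩
    · rw [mI, hx]; exact h.2
    · have h2 : prQ D D' k.1 * prQ D D' h.1 = D.π g := by
        rw [← map_mul]
        exact congrArg (prQ D D') hkh
      rw [show prQ D D' k.1 = 1 from k.2, one_mul, ← hx, prQ_mk] at h2
      exact h2.trans hg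
  let p1 : I →* E := ((MonoidHom.fst E E').comp (P D D').subtype).comp I.subtype
  let p2 : I →* E' := ((MonoidHom.snd E E').comp (P D D').subtype).comp I.subtype
  have b1 : Function.Bijective p1 := by
    constructor
    · rw [injective_iff_map_eq_one]
      rintro ⟨x, hx⟩ h
      have h1 : x.1.1 = 1 := h
      obtain ⟨w, hw, hw'⟩ := I1 x hx (by rw [h1, map_one])
      rw [h1] at hw
      have h2 := (D'.one w).2 ((D.one w).1 hw)
      rw [hw'] at h2
      exact Subtype.ext (Subtype.ext (Prod.ext h1 h2))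
    · intro g
      obtain ⟨x, hx, hxg⟩ := I3 (D.π g) (D.hπ g)
      obtain ⟨w, hw⟩ := (D.ker (g * x.1.1⁻¹)).1 (by rw [map_mul, map_inv, hxg, mul_inv_cancel])
      have hd : ((D.θ w, D'.θ w) : E × E') ∈ P D D' := by
        show D.π (D.θ w) = D'.π (D'.θ w)
        rw [D.π_θ, D'.π_θ]
      refine ⟨⟨⟨(D.θ w, D'.θ w), hd⟩ * x, I.mul_mem (I2 ⟨w, rfl, rfl⟩) hx⟩, ?_⟩
      show D.θ w * x.1.1 = g
      rw [hw]; group
  have b2 : Function.Bijective p2 := by
    constructor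
    · rw [injective_iff_map_eq_one]
      rintro ⟨x, hx⟩ h
      have h1 : x.1.2 = 1 := h
      obtain ⟨w, hw, hw'⟩ := I1 x hx (by rw [show D.π x.1.1 = D'.π x.1.2 from x.2, h1, map_one])
      rw [h1] at hw'
      have h2 := (D.one w).2 ((D'.one w).1 hw')
      rw [hw] at h2
      exact Subtype.ext (Subtype.ext (Prod.ext h2 h1))
    · intro g
      obtain ⟨x, hx, hxg⟩ := I3 (D'.π g) (D'.hπ g)
      have hxg' : D'.π x.1.2 = D'.π g := by rw [← hxg]; exact x.2.symm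
      obtain ⟨w, hw⟩ := (D'.ker (g * x.1.2⁻¹)).1 (by rw [map_mul, map_inv, hxg', mul_inv_cancel])
      have hd : ((D.θ w, D'.θ w) : E × E') ∈ P D D' := by
        show D.π (D.θ w) = D'.π (D'.θ w)
        rw [D.π_θ, D'.π_θ]
      refine ⟨⟨⟨(D.θ w, D'.θ w), hd⟩ * x, I.mul_mem (I2 ⟨w, rfl, rfl⟩) hx⟩, ?_⟩
      show D'.θ w * x.1.2 = g
      rw [hw]; group
  exact ⟨(MulEquiv.ofBijective p1 b1).symm.trans (MulEquiv.ofBijective p2 b2)⟩

end two

end CocExt

end H49.TD
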