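import Cfsg.Agent.Lib.H49.TD1

/-!
Extensions by the ten-dimensional module: commuting lifts.
-/

set_option autoImplicit false

namespace H49.TD

universe u v

/-- an extension of `G` by the ten-dimensional module together with named elements of `G` -/
structure MExt (Γ : Type u) [Group Γ] (G : Type v) [Group G] where
  π : Γ →* G
  surj : Function.Surjective π
  t : Vc → Γ
  add : ∀ x y, t (x + y) = t x * t y
  inj : ∀ x, t x = 1 → x = 0
  ker : ∀ v, π v = 1 ↔ ∃ x, t x = v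
  a1 : G
  a2 : G
  a3 : G
  a4 : G
  y1 : G
  y2 : G
  s : G
  s' : G
  gr : G
  gs : G
  gt : G
  hA1 : ∀ g, π g = a1 → ∀ x, g * t x = t (A1 x) * g
  hA2 : ∀ g, π g = a2 → ∀ x, g * t x = t (A2 x) * g
  hA3 : ∀ g, π g = a3 → ∀ x, g * t x = t (A3 x) * g
  hA4 : ∀ g, π g = a4 → ∀ x, g * t x = t (A4 x) * g
  hY1 : ∀ g, π g = y1 → ∀ x, g * t x = t (Y1 x) * g
  hY2 : ∀ g, π g = y2 → ∀ x, g * t x = t (Y2 x) * g
  hS : ∀ g, π g = s → ∀ x, g * t x = t (SS x) * g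
  hT : ∀ g, π g = s' → ∀ x, g * t x = t (TT x) * g
  a11 : a1 * a1 = 1
  a12 : a1 * a2 = a2 * a1
  a13 : a1 * a3 = a3 * a1
  a14 : a1 * a4 = a4 * a1
  a23 : a2 * a3 = a3 * a2
  a24 : a2 * a4 = a4 * a2
  a34 : a3 * a4 = a4 * a3
  a22 : a2 * a2 = 1
  a33 : a3 * a3 = 1
  a44 : a4 * a4 = 1
  y1p : y1 ^ 3 = 1
  y2p : y2 ^ 3 = 1
  y12 : y1 * y2 = y2 * y1
  y1a1 : y1 * a1 = a1 * y1
  y1a2 : y1 * a2 = a2 * y1
  y1a3 : y1 * a3 = a4 * y1
  y1a4 : y1 * a4 = a3 * a4 * y1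
  y2a3 : y2 * a3 = a3 * y2
  y2a4 : y2 * a4 = a4 * y2
  y2a1 : y2 * a1 = a2 * y2
  y2a2 : y2 * a2 = a1 * a2 * y2
  sa1 : s * a1 = a1 * a2 * s
  sa2 : s * a2 = a2 * s
  sa3 : s * a3 = a3 * a4 * s
  sa4 : s * a4 = a4 * s
  ta1 : s' * a1 = a1 * a2 * a3 * s'
  ta2 : s' * a2 = a2 * s'
  ta3 : s' * a3 = a3 * s'
  ta4 : s' * a4 = a2 * a4 * s'
  ss : s * s = 1
  tt : s' * s' = 1
  st4 : s * s' * (s * s') * (s * s' * (s * s')) = 1
  gr1 : gr * a1 = a2 * gr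
  gr2 : gr * a2 = a1 * a3 * gr
  gs1 : gs * a1 = s * gs
  gt1 : gt * a1 = s' * gt

namespace MExt

variable {Γ : Type u} [Group Γ] {G : Type v} [Group G] (D : MExt Γ G)

theorem t_zero : D.t 0 = 1 := by
  have h := D.add 0 0
  rw [add_zero] at h
  exact left_eq_mul.1 h

theorem t_sq (x : Vc) : D.t x * D.t x = 1 := by rw [← D.add, vadd, D.t_zero]

theorem t_comm (x y : Vc) : D.t x * D.t y = D.t y * D.t x := by rw [← D.add, ← D.add, add_comm]

theorem t_inj {x y : Vc} (h : D.t x = D.t y) : x = y := by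
  apply eq_of_add
  apply D.inj
  rw [D.add, h, D.t_sq]

theorem t_cancel {x y : Vc} {g : Γ} (h : D.t x * g = D.t y * g) : x = y := D.t_inj (mul_right_cancel h)

theorem t_inv (x : Vc) : (D.t x)⁻¹ = D.t x := inv_eq_of_mul_eq_one_right (D.t_sq x)

theorem π_t (x : Vc) : D.π (D.t x) = 1 := (D.ker _).2 ⟨x, rfl⟩

theorem π_tm (x : Vc) (g : Γ) : D.π (D.t x * g) = D.π g := by rw [map_mul, D.π_t, one_mul]

theorem diff {g h : Γ} (e : D.π g = D.π h) : ∃ x, g = D.t x * h := by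
  obtain ⟨x, hx⟩ := (D.ker (g * h⁻¹)).1 (by rw [map_mul, map_inv, e, mul_inv_cancel])
  exact ⟨x, by rw [hx]; group⟩

/-- action of an element on the module -/
def Ac (g : Γ) (A : Vc → Vc) : Prop := ∀ x, g * D.t x = D.t (A x) * g

theorem Ac.mul {g h : Γ} {A B : Vc → Vc} (hg : D.Ac g A) (hh : D.Ac h B) : D.Ac (g * h) (fun x => A (B x)) := by
  intro x
  rw [mul_assoc, hh x, ← mul_assoc, hg, mul_assoc]

theorem Ac.t {g : Γ} {A : Vc → Vc} (hg : D.Ac g A) (n : Vc) : D.Ac (D.t n * g) A := by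
  intro x
  rw [mul_assoc, hg x, ← mul_assoc, D.t_comm, mul_assoc]

theorem mm {g h : Γ} {A : Vc → Vc} (hg : D.Ac g A) (x y : Vc) : D.t x * g * (D.t y * h) = D.t (x + A y) * (g * h) := by
  rw [mul_assoc, ← mul_assoc g, hg y, mul_assoc (D.t (A y)), ← mul_assoc (D.t x), ← D.add]

theorem sq {g : Γ} {A : Vc → Vc} (hg : D.Ac g A) (x : Vc) : D.t x * g * (D.t x * g) = D.t (x + A x) * (g * g) :=
  D.mm hg x x

theorem sq_one {g : Γ} {A : Vc → Vc} (hg : D.Ac g A) {x : Vc} (h : D.t x * g * (D.t x * g) = 1) (h2 : g * g = 1) :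
    x + A x = 0 := by
  rw [D.sq hg, h2, mul_one] at h
  exact D.inj _ h

/-- transport of an identity by conjugation -/
theorem cj {y u u' w w' : Γ} {Y : Vc → Vc} (hY : D.Ac y Y) (h1 : y * u = u' * y) (h2 : y * w = w' * y) {ρ : Vc}
    (h : u = D.t ρ * w) : u' = D.t (Y ρ) * w' := by
  apply mul_right_cancel (b := y)
  rw [← h1, h, ← mul_assoc, hY, mul_assoc, h2, mul_assoc]

theorem fix {y u w : Γ} {Y : Vc → Vc} (hY : D.Ac y Y) (h1 : y * u = u * y) (h2 : y * w = w * y) {ρ : Vc}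
    (h : u = D.t ρ * w) : Y ρ = ρ := by
  have := D.cj hY h1 h2 h
  rw [h] at this
  exact (D.t_cancel this).symm

/-- commutators of involutions -/
theorem comm_fix {g h : Γ} {A B : Vc → Vc} (hA : D.Ac g A) (hB : D.Ac h B) (i1 : g * g = 1) (i2 : h * h = 1) {ρ : Vc}
    (e : g * h = D.t ρ * (h * g)) : A ρ = ρ ∧ B ρ = ρ := by
  have i1' : g⁻¹ = g := inv_eq_of_mul_eq_one_right i1
  have i2' : h⁻¹ = h := inv_eq_of_mul_eq_one_right i2
  have e2 : h * g = D.t ρ * (g * h) := by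
    rw [e, ← mul_assoc, D.t_sq, one_mul]
  constructor
  · apply D.t_inj
    have h1 : g * (g * h) = h := by rw [← mul_assoc, i1, one_mul]
    have h2 : g * (g * h) = D.t (A ρ) * D.t ρ * h := by
      calc g * (g * h) = g * D.t ρ * (h * g) := by rw [e, mul_assoc]
        _ = D.t (A ρ) * (g * h) * g := by rw [hA]; group
        _ = D.t (A ρ) * (D.t ρ * (h * g)) * g := by rw [e]
        _ = D.t (A ρ) * D.t ρ * h * (g * g) := by group
        _ = _ := by rw [i1, mul_one]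
    rw [h1] at h2
    have h3 : D.t (A ρ) * D.t ρ = 1 := right_eq_mul.1 (by rwa [eq_comm] at h2 ⊢)
    rw [← D.t_inv ρ]
    exact (inv_eq_of_mul_eq_one_left h3).symm
  · apply D.t_inj
    have h1 : h * (h * g) = g := by rw [← mul_assoc, i2, one_mul]
    have h2 : h * (h * g) = D.t (B ρ) * D.t ρ * g := by
      calc h * (h * g) = h * D.t ρ * (g * h) := by rw [e2, mul_assoc]
        _ = D.t (B ρ) * (h * g) * h := by rw [hB]; group
        _ = D.t (B ρ) * (D.t ρ * (g * h)) * h := by rw [e2]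
        _ = D.t (B ρ) * D.t ρ * g * (h * h) := by group
        _ = _ := by rw [i2, mul_one]
    rw [h1] at h2
    have h3 : D.t (B ρ) * D.t ρ = 1 := right_eq_mul.1 (by rwa [eq_comm] at h2 ⊢)
    rw [← D.t_inv ρ]
    exact (inv_eq_of_mul_eq_one_left h3).symm

theorem lift3 {k : G} (hk : k ^ 3 = 1) {g : Γ} (hg : D.π g = k) : (g ^ 4) ^ 3 = 1 ∧ D.π (g ^ 4) = k := by
  constructor
  · obtain ⟨σ, hσ⟩ := (D.ker (g ^ 3)).1 (by rw [map_pow, hg, hk])
    have h2 : D.t σ ^ 2 = 1 := by rw [pow_two, D.t_sq]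
    rw [← pow_mul, show 4 * 3 = 3 * 4 from rfl, pow_mul, ← hσ, show 4 = 2 * 2 from rfl, pow_mul, h2, one_pow]
  · rw [map_pow, hg, pow_succ, hk, one_mul]

theorem commLift {y : Γ} {Y : Vc → Vc} (hy : y ^ 3 = 1) (hY : D.Ac y Y) {g : Γ}
    (hg : D.π g * D.π y = D.π y * D.π g) : ∃ u, D.t u * g * y = y * (D.t u * g) := by
  obtain ⟨n, hn⟩ := D.diff (g := g * y) (h := y * g) (by rw [map_mul, map_mul, hg])
  have h1 : g * y * g⁻¹ = D.t n * y := by rw [hn]; group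
  have h2 : (D.t n * y) ^ 3 = 1 := by
    rw [← h1, conj_pow, hy]; group
  have h3 : (D.t n * y) ^ 3 = D.t (n + Y n + Y (Y n)) * y ^ 3 := by
    rw [pow_succ, pow_two, D.sq hY, D.mm (Ac.mul D hY hY), pow_succ, pow_two]
  rw [h3, hy, mul_one] at h2
  have h4 := eq_of_add (D.inj _ h2)
  refine ⟨Y n, ?_⟩
  have h5 : y * (D.t (Y n) * g) = D.t (n + Y n) * (y * g) := by rw [← mul_assoc y, hY, ← h4, mul_assoc]
  rw [h5, mul_assoc, hn, ← mul_assoc, ← D.add, add_comm n]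

/-- an involutory lift commuting with `y` -/
theorem invC {y g : Γ} {Y A f : Vc → Vc} (hY : D.Ac y Y) (hA : D.Ac g A)
    (hf : ∀ x, Y x = x → A x = x → Y (f x) = f x ∧ f x + A (f x) = x) (hgy : g * y = y * g)
    (hg : D.π g * D.π g = 1) : ∃ u, D.t u * g * (D.t u * g) = 1 ∧ D.t u * g * y = y * (D.t u * g) := by
  obtain ⟨σ, hσ⟩ := (D.ker (g * g)).1 (by rw [map_mul, hg])
  have e1 : Y σ = σ := D.fix hY (u := g * g) (w := 1) (by rw [← mul_assoc, ← hgy, mul_assoc, ← hgy, mul_assoc])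
    (by group) (by rw [mul_one, hσ])
  have e2 : A σ = σ := D.fix hA (u := g * g) (w := 1) (by group) (by group) (by rw [mul_one, hσ])
  obtain ⟨e3, e4⟩ := hf σ e1 e2
  refine ⟨f σ, ?_, ?_⟩
  · rw [D.sq hA, e4, ← hσ, D.t_sq]
  · rw [mul_assoc, hgy, ← mul_assoc, ← mul_assoc, hY, e3]

/-- making two involutory lifts commute -/
theorem pairC {y g h : Γ} {Y A B p : Vc → Vc} (hY : D.Ac y Y) (hA : D.Ac g A) (hB : D.Ac h B) (i1 : g * g = 1)
    (i2 : h * h = 1) (c1 : g * y = y * g) (c2 : h * y = y * h) (hπ : D.π g * D.π h = D.π h * D.π g)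
    (hp : ∀ x, Y x = x → A x = x → B x = x → Y (p x) = p x ∧ p x + B (p x) = 0 ∧ A (p x) + x = p x) :
    ∃ u, D.t u * h * (D.t u * h) = 1 ∧ D.t u * h * y = y * (D.t u * h) ∧ g * (D.t u * h) = D.t u * h * g := by
  obtain ⟨ρ, hρ⟩ := D.diff (g := g * h) (h := h * g) (by rw [map_mul, map_mul, hπ])
  obtain ⟨e1, e2⟩ := D.comm_fix hA hB i1 i2 hρ
  have e3 : Y ρ = ρ := D.fix hY (u := g * h) (w := h * g)
    (by rw [← mul_assoc, ← c1, mul_assoc, ← c2, mul_assoc]) (by rw [← mul_assoc, ← c2, mul_assoc, ← c1, mul_assoc]) hρ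
  obtain ⟨a1, a2, a3⟩ := hp ρ e3 e1 e2
  refine ⟨p ρ, ?_, ?_, ?_⟩
  · rw [D.sq hB, a2, i2, mul_one, D.t_zero]
  · rw [mul_assoc, c2, ← mul_assoc, ← mul_assoc, hY, a1]
  · rw [← mul_assoc, hA, mul_assoc, hρ, ← mul_assoc, ← D.add, a3, mul_assoc]

end MExt

end H49.TD
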