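import Cfsg.Agent.Lib.H49.TD2

/-!
Extensions by the ten-dimensional module: the elementary abelian group of order 16 lifts.
-/

set_option autoImplicit false

namespace H49.TD

universe u v

namespace MExt

variable {Γ : Type u} [Group Γ] {G : Type v} [Group G] (D : MExt Γ G)

theorem exInv {y : Γ} {Y A f : Vc → Vc} (hy : y ^ 3 = 1) (hY : D.Ac y Y) {a : G} (ha : a * a = 1)
    (hay : a * D.π y = D.π y * a) (hA : ∀ g, D.π g = a → D.Ac g A)
    (hf : ∀ x, Y x = x → A x = x → Y (f x) = f x ∧ f x + A (f x) = x) :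
    ∃ g, D.π g = a ∧ g * g = 1 ∧ g * y = y * g := by
  obtain ⟨g, hg⟩ := D.surj a
  obtain ⟨u, hu⟩ := D.commLift hy hY (g := g) (by rw [hg, hay])
  have h1 : D.π (D.t u * g) = a := by rw [D.π_tm, hg]
  obtain ⟨w, e1, e2⟩ := D.invC hY (hA _ h1) hf hu (by rw [h1, ha])
  exact ⟨_, by rw [D.π_tm, h1], e1, e2⟩

theorem exPair {y : Γ} {Y A B f f' p : Vc → Vc} (hy : y ^ 3 = 1) (hY : D.Ac y Y) {a b : G} (ha : a * a = 1)
    (hb : b * b = 1) (hay : a * D.π y = D.π y * a) (hby : b * D.π y = D.π y * b) (hab : a * b = b * a)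
    (hA : ∀ g, D.π g = a → D.Ac g A) (hB : ∀ g, D.π g = b → D.Ac g B)
    (hf : ∀ x, Y x = x → A x = x → Y (f x) = f x ∧ f x + A (f x) = x)
    (hf' : ∀ x, Y x = x → B x = x → Y (f' x) = f' x ∧ f' x + B (f' x) = x)
    (hp : ∀ x, Y x = x → A x = x → B x = x → Y (p x) = p x ∧ p x + B (p x) = 0 ∧ A (p x) + x = p x) :
    ∃ g h, D.π g = a ∧ D.π h = b ∧ g * g = 1 ∧ h * h = 1 ∧ g * y = y * g ∧ h * y = y * h ∧ g * h = h * g := by
  obtain ⟨g, g1, g2, g3⟩ := D.exInv hy hY ha hay hA hf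
  obtain ⟨h, h1, h2, h3⟩ := D.exInv hy hY hb hby hB hf'
  obtain ⟨u, e1, e2, e3⟩ := D.pairC hY (hA g g1) (hB h h1) g2 h2 g3 h3 (by rw [g1, h1, hab]) hp
  exact ⟨g, D.t u * h, g1, by rw [D.π_tm, h1], g2, e1, g3, e2, e3⟩

/-- an element of order 3 permuting the lifts of `a₁`, `a₂` -/
theorem exY2 {y v1 v2 : Γ} (hy : y ^ 3 = 1) (hπy : D.π y = D.y1) (p1 : D.π v1 = D.a1) (p2 : D.π v2 = D.a2)
    (i1 : v1 * v1 = 1) (i2 : v2 * v2 = 1) (c1 : v1 * y = y * v1) (c2 : v2 * y = y * v2) (c12 : v1 * v2 = v2 * v1) :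
    ∃ z, D.π z = D.y2 ∧ z ^ 3 = 1 ∧ z * y = y * z ∧ z * v1 = v2 * z ∧ z * v2 = v1 * v2 * z := by
  have hY : D.Ac y Y1 := D.hY1 _ hπy
  have hA1 : D.Ac v1 A1 := D.hA1 _ p1
  have hA2 : D.Ac v2 A2 := D.hA2 _ p2
  have hA12 : D.Ac (v1 * v2) (fun x => A1 (A2 x)) := Ac.mul D hA1 hA2
  obtain ⟨g0, hg0⟩ := D.surj D.y2
  obtain ⟨u, hu⟩ := D.commLift hy hY (g := g0) (by rw [hg0, hπy, D.y12])
  obtain ⟨g, hg⟩ : ∃ g, g = D.t u * g0 := ⟨_, rfl⟩
  rw [← hg] at hu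
  have hπg : D.π g = D.y2 := by rw [hg, D.π_tm, hg0]
  obtain ⟨d, hd⟩ := D.diff (g := g * v1) (h := v2 * g) (by rw [map_mul, map_mul, hπg, p1, p2, D.y2a1])
  obtain ⟨e, he⟩ := D.diff (g := g * v2) (h := v1 * v2 * g)
    (by rw [map_mul, map_mul, map_mul, hπg, p1, p2, D.y2a2])
  have hd1 : Y1 d = d := D.fix hY (u := g * v1) (w := v2 * g) (by rw [← mul_assoc, ← hu, mul_assoc, ← c1, mul_assoc])
    (by rw [← mul_assoc, ← c2, mul_assoc, ← hu, mul_assoc]) hd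
  have he1 : Y1 e = e := D.fix hY (u := g * v2) (w := v1 * v2 * g)
    (by rw [← mul_assoc, ← hu, mul_assoc, ← c2, mul_assoc])
    (by rw [← mul_assoc, ← mul_assoc, ← c1, mul_assoc v1, ← c2, mul_assoc v1, mul_assoc v2, ← hu]; group) he
  have gd : g * v1 * g⁻¹ = D.t d * v2 := by rw [hd]; group
  have ge : g * v2 * g⁻¹ = D.t e * (v1 * v2) := by rw [he]; group
  have i12 : v1 * v2 * (v1 * v2) = 1 := by
    calc v1 * v2 * (v1 * v2) = v1 * (v2 * v1) * v2 := by group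
      _ = v1 * v1 * (v2 * v2) := by rw [← c12]; group
      _ = 1 := by rw [i1, i2, one_mul]
  have hd2 : d + A2 d = 0 := D.sq_one hA2 (by
    rw [← gd]
    calc g * v1 * g⁻¹ * (g * v1 * g⁻¹) = g * (v1 * v1) * g⁻¹ := by group
      _ = 1 := by rw [i1]; group) i2
  have he2 : e + A1 (A2 e) = 0 := D.sq_one hA12 (by
    rw [← ge]
    calc g * v2 * g⁻¹ * (g * v2 * g⁻¹) = g * (v2 * v2) * g⁻¹ := by group
      _ = 1 := by rw [i2]; group) i12
  have hc : d + A2 e = e + A1 (A2 d) := by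
    have h1 : D.t d * v2 * (D.t e * (v1 * v2)) = D.t e * (v1 * v2) * (D.t d * v2) := by
      rw [← gd, ← ge]
      calc g * v1 * g⁻¹ * (g * v2 * g⁻¹) = g * (v1 * v2) * g⁻¹ := by group
        _ = g * (v2 * v1) * g⁻¹ := by rw [c12]
        _ = _ := by group
    rw [D.mm hA2, D.mm hA12] at h1
    have h2 : v2 * (v1 * v2) = v1 * v2 * v2 := by rw [← mul_assoc, ← c12]
    rw [h2] at h1
    exact D.t_cancel h1
  obtain ⟨n, n1, n2, n3⟩ := norm1 d e hd1 hd2 he1 he2 hc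
  obtain ⟨w, hw⟩ : ∃ w, w = D.t n * g := ⟨_, rfl⟩
  have w0 : D.π w = D.y2 := by rw [hw, D.π_tm, hπg]
  have w1 : w * v1 = v2 * w := by
    rw [hw, mul_assoc, hd, ← mul_assoc v2, hA2, ← mul_assoc, ← mul_assoc, ← D.add, ← n2, ← add_assoc, vadd,
      zero_add]
  have w2 : w * v2 = v1 * v2 * w := by
    rw [hw, mul_assoc, he, ← mul_assoc (v1 * v2), hA12, ← mul_assoc, ← mul_assoc, ← D.add, ← n3, ← add_assoc, vadd,
      zero_add]
  have w3 : w * y = y * w := by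
    rw [hw, mul_assoc, hu, ← mul_assoc, ← mul_assoc, hY, n1]
  have w4 : w * (v1 * v2) = v1 * w := by
    calc w * (v1 * v2) = (w * v1) * v2 := by group
      _ = v2 * (w * v2) := by rw [w1]; group
      _ = v2 * (v1 * v2) * w := by rw [w2]; group
      _ = v1 * (v2 * v2) * w := by rw [← mul_assoc, ← c12]; group
      _ = _ := by rw [i2, mul_one]
  have w33 : w ^ 3 = w * w * w := by rw [pow_succ, pow_two]
  have x1 : w ^ 3 * v1 = v1 * w ^ 3 := by
    rw [w33]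
    calc w * w * w * v1 = w * (w * (w * v1)) := by group
      _ = w * (w * v2 * w) := by rw [w1]; group
      _ = w * (v1 * v2) * w * w := by rw [w2]; group
      _ = v1 * (w * w * w) := by rw [w4]; group
  have x2 : w ^ 3 * v2 = v2 * w ^ 3 := by
    rw [w33]
    calc w * w * w * v2 = w * (w * (w * v2)) := by group
      _ = w * (w * (v1 * v2) * w) := by rw [w2]; group
      _ = (w * v1) * w * w := by rw [w4]; group
      _ = v2 * (w * w * w) := by rw [w1]; group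
  obtain ⟨q1, q2⟩ := D.lift3 D.y2p w0
  refine ⟨w ^ 4, q2, q1, ?_, ?_, ?_⟩
  · exact ((show Commute w y from w3).pow_left 4).eq
  · rw [pow_succ w 3, mul_assoc, w1, ← mul_assoc, x2, mul_assoc]
  · rw [pow_succ w 3, mul_assoc, w2]
    calc w ^ 3 * (v1 * v2 * w) = (w ^ 3 * v1) * v2 * w := by group
      _ = v1 * (w ^ 3 * v2) * w := by rw [x1]; group
      _ = _ := by rw [x2]; group

/-- the lifts of `a₃`, `a₄` permuted by `y` -/
theorem exQ2 {y z : Γ} (hy : y ^ 3 = 1) (hπy : D.π y = D.y1) (hz : z ^ 3 = 1) (hπz : D.π z = D.y2)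
    (hzy : z * y = y * z) :
    ∃ v3 v4, D.π v3 = D.a3 ∧ D.π v4 = D.a4 ∧ v3 * v3 = 1 ∧ v4 * v4 = 1 ∧ v3 * v4 = v4 * v3 ∧ v3 * z = z * v3 ∧
      v4 * z = z * v4 ∧ y * v3 = v4 * y ∧ y * v4 = v3 * v4 * y := by
  have hY : D.Ac y Y1 := D.hY1 _ hπy
  have hZ : D.Ac z Y2 := D.hY2 _ hπz
  obtain ⟨b, c, p3, p4, i3, i4, c3, c4, c34⟩ := D.exPair hz hZ D.a33 D.a44 (by rw [hπz, D.y2a3]) (by rw [hπz, D.y2a4])
    D.a34 D.hA3 D.hA4 inv3 inv4 pair2
  have hA3 : D.Ac b A3 := D.hA3 _ p3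
  have hA4 : D.Ac c A4 := D.hA4 _ p4
  have hA34 : D.Ac (b * c) (fun x => A3 (A4 x)) := Ac.mul D hA3 hA4
  obtain ⟨d, hd⟩ := D.diff (g := y * b) (h := c * y) (by rw [map_mul, map_mul, hπy, p3, p4, D.y1a3])
  obtain ⟨e, he⟩ := D.diff (g := y * c) (h := b * c * y)
    (by rw [map_mul, map_mul, map_mul, hπy, p3, p4, D.y1a4])
  have hd1 : Y2 d = d := D.fix hZ (u := y * b) (w := c * y) (by rw [← mul_assoc, hzy, mul_assoc, ← c3, mul_assoc])
    (by rw [← mul_assoc, ← c4, mul_assoc, hzy, mul_assoc]) hd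
  have he1 : Y2 e = e := D.fix hZ (u := y * c) (w := b * c * y)
    (by rw [← mul_assoc, hzy, mul_assoc, ← c4, mul_assoc])
    (by rw [← mul_assoc, ← mul_assoc, ← c3, mul_assoc b, ← c4, mul_assoc b, mul_assoc c, hzy]; group) he
  have gd : y * b * y⁻¹ = D.t d * c := by rw [hd]; group
  have ge : y * c * y⁻¹ = D.t e * (b * c) := by rw [he]; group
  have i34 : b * c * (b * c) = 1 := by
    calc b * c * (b * c) = b * (c * b) * c := by group
      _ = b * b * (c * c) := by rw [← c34]; group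
      _ = 1 := by rw [i3, i4, one_mul]
  have hd2 : d + A4 d = 0 := D.sq_one hA4 (by
    rw [← gd]
    calc y * b * y⁻¹ * (y * b * y⁻¹) = y * (b * b) * y⁻¹ := by group
      _ = 1 := by rw [i3]; group) i4
  have he2 : e + A3 (A4 e) = 0 := D.sq_one hA34 (by
    rw [← ge]
    calc y * c * y⁻¹ * (y * c * y⁻¹) = y * (c * c) * y⁻¹ := by group
      _ = 1 := by rw [i4]; group) i34
  have hc : d + A4 e = e + A3 (A4 d) := by
    have h1 : D.t d * c * (D.t e * (b * c)) = D.t e * (b * c) * (D.t d * c) := by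
      rw [← gd, ← ge]
      calc y * b * y⁻¹ * (y * c * y⁻¹) = y * (b * c) * y⁻¹ := by group
        _ = y * (c * b) * y⁻¹ := by rw [c34]
        _ = _ := by group
    rw [D.mm hA4, D.mm hA34] at h1
    have h2 : c * (b * c) = b * c * c := by rw [← mul_assoc, ← c34]
    rw [h2] at h1
    exact D.t_cancel h1
  have h6 : Y1 (Y1 d) + Y1 e + d + A4 e = 0 := by
    have e1 : y * b = D.t d * c * y := by rw [hd]; group
    have e2 : y * c = D.t e * (b * c) * y := by rw [he]; group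
    have y33 : y ^ 3 = y * y * y := by rw [pow_succ, pow_two]
    have e3 : y ^ 3 * b = D.t (Y1 (Y1 d) + Y1 e + d + A4 e) * b * y ^ 3 := by
      rw [y33]
      calc y * y * y * b = y * (y * (y * b)) := by group
        _ = y * (y * D.t d * c * y) := by rw [e1]; group
        _ = y * D.t (Y1 d) * (y * c) * y := by rw [hY]; group
        _ = D.t (Y1 (Y1 d)) * y * (D.t e * (b * c) * y) * y := by rw [hY, e2]
        _ = D.t (Y1 (Y1 d)) * (y * D.t e) * b * c * y * y := by group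
        _ = D.t (Y1 (Y1 d)) * D.t (Y1 e) * (y * b) * c * y * y := by rw [hY]; group
        _ = D.t (Y1 (Y1 d)) * D.t (Y1 e) * (D.t d * c * y) * c * y * y := by rw [e1]
        _ = D.t (Y1 (Y1 d)) * D.t (Y1 e) * D.t d * c * (y * c) * y * y := by group
        _ = D.t (Y1 (Y1 d)) * D.t (Y1 e) * D.t d * (c * D.t e) * (b * c) * y * y * y := by rw [e2]; group
        _ = D.t (Y1 (Y1 d)) * D.t (Y1 e) * D.t d * D.t (A4 e) * (c * b) * c * y * y * y := by rw [hA4]; group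
        _ = D.t (Y1 (Y1 d)) * D.t (Y1 e) * D.t d * D.t (A4 e) * b * (c * c) * (y * y * y) := by rw [← c34]; group
        _ = _ := by rw [i4, mul_one, D.add, D.add, D.add]
    rw [hy, one_mul, mul_one] at e3
    exact D.inj _ (right_eq_mul.1 (by rwa [eq_comm] at e3 ⊢))
  obtain ⟨k1, k2⟩ := norm2 d e hd1 hd2 he1 he2 hc h6
  obtain ⟨α, hα⟩ : ∃ α, α = d 9 := ⟨_, rfl⟩
  obtain ⟨β, hβ⟩ : ∃ β, β = e 9 := ⟨_, rfl⟩
  rw [← hα] at k1
  rw [← hβ] at k2
  have hadd : ∀ x y : ZMod 2, h9 x + h9 y = h9 (x + y) := by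
    intro x y; simp only [iff10, h9, Pi.add_apply]; simp
  have f3 : ∀ x, A3 (h9 x) = h9 x := by intro x; simp only [iff10, h9, A3]; simp
  have f4 : ∀ x, A4 (h9 x) = h9 x := by intro x; simp only [iff10, h9, A4]; simp
  have fY : ∀ x, Y1 (h9 x) = h9 x := by intro x; simp only [iff10, h9, Y1]; simp
  have fZ : ∀ x, Y2 (h9 x) = h9 x := by intro x; simp only [iff10, h9, Y2]; simp
  refine ⟨D.t (h9 β) * b, D.t (h9 (α + β)) * c, by rw [D.π_tm, p3], by rw [D.π_tm, p4], ?_, ?_, ?_, ?_, ?_, ?_, ?_⟩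
  · rw [D.sq hA3, i3, f3, vadd, D.t_zero, mul_one]
  · rw [D.sq hA4, i4, f4, vadd, D.t_zero, mul_one]
  · rw [D.mm hA3, D.mm hA4, f3, f4, c34, add_comm]
  · rw [mul_assoc, c3, ← mul_assoc, ← mul_assoc, hZ, fZ]
  · rw [mul_assoc, c4, ← mul_assoc, ← mul_assoc, hZ, fZ]
  · rw [← mul_assoc, hY, fY, mul_assoc, hd, k1, ← mul_assoc, ← D.add, hadd, add_comm β, mul_assoc]
  · rw [← mul_assoc, hY, fY, mul_assoc, he, k2, ← mul_assoc, ← D.add, hadd, D.mm hA3, f3, hadd]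
    have h7 : α + β + β = β + (α + β) := by ring
    rw [h7]
    simp only [mul_assoc]

end MExt

end H49.TD
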