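import Cfsg.Agent.Lib.H49.TD3

/-!
Extensions by the ten-dimensional module: the elementary abelian group of order 16 lifts.
-/

set_option autoImplicit false

namespace H49.TD

universe u v

namespace MExt

variable {Γ : Type u} [Group Γ] {G : Type v} [Group G] (D : MExt Γ G)

/-- commuting involutory lifts of the basis of `2⁴` -/
structure Vhat (v1 v2 v3 v4 : Γ) : Prop where
  p1 : D.π v1 = D.a1
  p2 : D.π v2 = D.a2
  p3 : D.π v3 = D.a3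
  p4 : D.π v4 = D.a4
  i1 : v1 * v1 = 1
  i2 : v2 * v2 = 1
  i3 : v3 * v3 = 1
  i4 : v4 * v4 = 1
  c12 : v1 * v2 = v2 * v1
  c13 : v1 * v3 = v3 * v1
  c14 : v1 * v4 = v4 * v1
  c23 : v2 * v3 = v3 * v2
  c24 : v2 * v4 = v4 * v2
  c34 : v3 * v4 = v4 * v3

theorem exQ1 : ∃ y v1 v2 : Γ, D.π y = D.y1 ∧ y ^ 3 = 1 ∧ D.π v1 = D.a1 ∧ D.π v2 = D.a2 ∧ v1 * v1 = 1 ∧ v2 * v2 = 1 ∧
    v1 * y = y * v1 ∧ v2 * y = y * v2 ∧ v1 * v2 = v2 * v1 := by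
  obtain ⟨g, hg⟩ := D.surj D.y1
  obtain ⟨q1, q2⟩ := D.lift3 D.y1p hg
  obtain ⟨v1, v2, h⟩ := D.exPair q1 (D.hY1 _ q2) D.a11 D.a22 (by rw [q2, D.y1a1]) (by rw [q2, D.y1a2]) D.a12
    D.hA1 D.hA2 inv1 inv2 pair1
  exact ⟨g ^ 4, v1, v2, q2, q1, h⟩

theorem exV : ∃ v1 v2 v3 v4 : Γ, D.Vhat v1 v2 v3 v4 := by
  obtain ⟨y, v1, v2, hπy, hy, p1, p2, i1, i2, c1, c2, c12⟩ := D.exQ1
  obtain ⟨z, hπz, hz, hzy, z1, z2⟩ := D.exY2 hy hπy p1 p2 i1 i2 c1 c2 c12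
  obtain ⟨v3, v4, p3, p4, i3, i4, c34, c3, c4, y3, y4⟩ := D.exQ2 hy hπy hz hπz hzy
  have hY : D.Ac y Y1 := D.hY1 _ hπy
  have hZ : D.Ac z Y2 := D.hY2 _ hπz
  have hA1 : D.Ac v1 A1 := D.hA1 _ p1
  have hA2 : D.Ac v2 A2 := D.hA2 _ p2
  have hA3 : D.Ac v3 A3 := D.hA3 _ p3
  have hA4 : D.Ac v4 A4 := D.hA4 _ p4
  obtain ⟨g, hg⟩ := D.diff (g := v1 * v3) (h := v3 * v1) (by rw [map_mul, map_mul, p1, p3, D.a13])
  obtain ⟨g1, g3⟩ := D.comm_fix hA1 hA3 i1 i3 hg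
  -- images under `y`
  have e14 : v1 * v4 = D.t (Y1 g) * (v4 * v1) := D.cj hY (u := v1 * v3) (w := v3 * v1)
    (by rw [← mul_assoc, ← c1, mul_assoc, y3, mul_assoc]) (by rw [← mul_assoc, y3, mul_assoc, ← c1, mul_assoc]) hg
  have e134 : v1 * (v3 * v4) = D.t (Y1 (Y1 g)) * (v3 * v4 * v1) := D.cj hY (u := v1 * v4) (w := v4 * v1)
    (by rw [← mul_assoc, ← c1, mul_assoc, y4]; group) (by rw [← mul_assoc, y4, mul_assoc _ y, ← c1]; group) e14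
  have e23 : v2 * v3 = D.t (Y2 g) * (v3 * v2) := D.cj hZ (u := v1 * v3) (w := v3 * v1)
    (by rw [← mul_assoc, z1, mul_assoc, ← c3, mul_assoc]) (by rw [← mul_assoc, ← c3, mul_assoc, z1, mul_assoc]) hg
  have e123 : v1 * v2 * v3 = D.t (Y2 (Y2 g)) * (v3 * (v1 * v2)) := D.cj hZ (u := v2 * v3) (w := v3 * v2)
    (by rw [← mul_assoc, z2, mul_assoc _ z, ← c3]; group) (by rw [← mul_assoc, ← c3, mul_assoc, z2]; group) e23
  have e24 : v2 * v4 = D.t (Y1 (Y2 g)) * (v4 * v2) := D.cj hY (u := v2 * v3) (w := v3 * v2)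
    (by rw [← mul_assoc, ← c2, mul_assoc, y3, mul_assoc]) (by rw [← mul_assoc, y3, mul_assoc, ← c2, mul_assoc]) e23
  have h3 : g + A3 (Y1 g) = Y1 (Y1 g) := by
    have h : v1 * (v3 * v4) = D.t (g + A3 (Y1 g)) * (v3 * v4 * v1) := by
      calc v1 * (v3 * v4) = (v1 * v3) * v4 := by group
        _ = D.t g * v3 * (v1 * v4) := by rw [hg]; group
        _ = D.t g * (v3 * D.t (Y1 g)) * (v4 * v1) := by rw [e14]; group
        _ = D.t g * D.t (A3 (Y1 g)) * (v3 * v4 * v1) := by rw [hA3]; group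
        _ = _ := by rw [D.add]
    rw [h] at e134
    exact D.t_cancel e134
  have h4 : A1 (Y2 g) + g = Y2 (Y2 g) := by
    have h : v1 * v2 * v3 = D.t (A1 (Y2 g) + g) * (v3 * (v1 * v2)) := by
      calc v1 * v2 * v3 = v1 * (v2 * v3) := by group
        _ = (v1 * D.t (Y2 g)) * v3 * v2 := by rw [e23]; group
        _ = D.t (A1 (Y2 g)) * (v1 * v3) * v2 := by rw [hA1]; group
        _ = D.t (A1 (Y2 g)) * D.t g * (v3 * (v1 * v2)) := by rw [hg]; group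
        _ = _ := by rw [D.add]
    rw [h] at e123
    exact D.t_cancel e123
  have hU4 : U4 g := step8 g g1 g3 h3 h4
  -- the line through `a₂` and `a₁ a₃`
  obtain ⟨k, hk⟩ := D.surj D.gr
  obtain ⟨r, hr⟩ := D.diff (g := k * v1 * k⁻¹) (h := v2) (by
    rw [map_mul, map_mul, map_inv, hk, p1, p2, D.gr1]; group)
  obtain ⟨w, hw⟩ := D.diff (g := k * v2 * k⁻¹) (h := v1 * v3) (by
    rw [map_mul, map_mul, map_inv, map_mul, hk, p1, p2, p3, D.gr2]; group)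
  have hA13 : D.Ac (v1 * v3) (fun x => A1 (A3 x)) := Ac.mul D hA1 hA3
  have r1 : r + A2 r = 0 := D.sq_one hA2 (by
    rw [← hr]
    calc k * v1 * k⁻¹ * (k * v1 * k⁻¹) = k * (v1 * v1) * k⁻¹ := by group
      _ = 1 := by rw [i1]; group) i2
  have i13 : v1 * v3 * (v1 * v3) = D.t g := by
    calc v1 * v3 * (v1 * v3) = D.t g * (v3 * v1) * (v1 * v3) := by rw [← hg]
      _ = D.t g * (v3 * (v1 * v1) * v3) := by group
      _ = _ := by rw [i1, mul_one, i3, mul_one]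
  have w1 : w + A1 (A3 w) = g := by
    have h5 : D.t w * (v1 * v3) * (D.t w * (v1 * v3)) = 1 := by
      rw [← hw]
      calc k * v2 * k⁻¹ * (k * v2 * k⁻¹) = k * (v2 * v2) * k⁻¹ := by group
        _ = 1 := by rw [i2]; group
    rw [D.sq hA13, i13, ← D.add] at h5
    exact eq_of_add (D.inj _ h5)
  have w2 : r + A2 w + A1 (Y2 g) = w + A1 (A3 r) := by
    have h5 : D.t r * v2 * (D.t w * (v1 * v3)) = D.t w * (v1 * v3) * (D.t r * v2) := by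
      rw [← hw, ← hr]
      calc k * v1 * k⁻¹ * (k * v2 * k⁻¹) = k * (v1 * v2) * k⁻¹ := by group
        _ = k * (v2 * v1) * k⁻¹ := by rw [c12]
        _ = _ := by group
    rw [D.mm hA2, D.mm hA13] at h5
    have h6 : v2 * (v1 * v3) = D.t (A1 (Y2 g)) * (v1 * v3 * v2) := by
      calc v2 * (v1 * v3) = (v2 * v1) * v3 := by group
        _ = v1 * (v2 * v3) := by rw [← c12]; group
        _ = (v1 * D.t (Y2 g)) * v3 * v2 := by rw [e23]; group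
        _ = _ := by rw [hA1]; group
    rw [h6, ← mul_assoc, ← D.add] at h5
    exact D.t_cancel h5
  have w3 : m79 (r 2) + (w + A2 w) + A1 (Y2 (w + A1 (A3 w))) = 0 := by
    rw [← step9a r r1, w1]
    have h7 : r + A1 (A3 r) + (w + A2 w) + A1 (Y2 g) = (r + A2 w + A1 (Y2 g)) + (w + A1 (A3 r)) := by abel
    rw [h7, w2, vadd]
  have hg5 := step9b w (r 2) (by rw [w1]; exact hU4) w3
  rw [w1] at hg5
  obtain ⟨α, hα⟩ : ∃ α, α = g 5 := ⟨_, rfl⟩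
  rw [← hα] at hg5
  -- final adjustment
  have n3 : D.Ac v3 A3 := hA3
  obtain ⟨b3, hb3⟩ : ∃ b3 : Vc, b3 = ![0, 0, 0, α, 0, 0, 0, 0, 0, 0] := ⟨_, rfl⟩
  obtain ⟨b4, hb4⟩ : ∃ b4 : Vc, b4 = ![0, 0, 0, 0, α, 0, 0, 0, 0, 0] := ⟨_, rfl⟩
  have k1 : A1 b3 + g = b3 := by rw [hb3, hg5]; vg
  have k2 : A1 b4 + Y1 g = b4 := by rw [hb4, hg5]; vg
  have k3 : A2 b3 + Y2 g = b3 := by rw [hb3, hg5]; vg
  have k4 : A2 b4 + Y1 (Y2 g) = b4 := by rw [hb4, hg5]; vg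
  have k5 : A3 b3 = b3 := by rw [hb3]; vg
  have k6 : A4 b4 = b4 := by rw [hb4]; vg
  have k7 : b3 + A3 b4 = b4 + A4 b3 := by rw [hb3, hb4]; vg
  refine ⟨v1, v2, D.t b3 * v3, D.t b4 * v4, p1, p2, by rw [D.π_tm, p3], by rw [D.π_tm, p4], i1, i2, ?_, ?_, c12, ?_,
    ?_, ?_, ?_, ?_⟩
  · rw [D.sq hA3, k5, vadd, D.t_zero, one_mul, i3]
  · rw [D.sq hA4, k6, vadd, D.t_zero, one_mul, i4]
  · rw [← mul_assoc, hA1, mul_assoc, hg, ← mul_assoc, ← D.add, k1, mul_assoc]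
  · rw [← mul_assoc, hA1, mul_assoc, e14, ← mul_assoc, ← D.add, k2, mul_assoc]
  · rw [← mul_assoc, hA2, mul_assoc, e23, ← mul_assoc, ← D.add, k3, mul_assoc]
  · rw [← mul_assoc, hA2, mul_assoc, e24, ← mul_assoc, ← D.add, k4, mul_assoc]
  · rw [D.mm hA3, D.mm hA4, k7, c34]

end MExt

end H49.TD
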