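import Cfsg.Agent.Lib.H49.TD4

/-!
Extensions by the ten-dimensional module: normalising the action of a dihedral group.
-/

set_option autoImplicit false

namespace H49.TD

universe u v

theorem SS_SS (x : Vc) : SS (SS x) = x := by vg
theorem TT_TT (x : Vc) : TT (TT x) = x := by vg

namespace MExt

variable {Γ : Type u} [Group Γ] {G : Type v} [Group G] (D : MExt Γ G)

/-- two lifts of `2⁴` are conjugate modulo `U4` -/
theorem conjV {v1 v2 v3 v4 x1 x2 x3 x4 : Γ} (hv : D.Vhat v1 v2 v3 v4) (hx : D.Vhat x1 x2 x3 x4) :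
    ∃ n m1 m2 m3 m4, U4 m1 ∧ U4 m2 ∧ U4 m3 ∧ U4 m4 ∧ D.t n * x1 = D.t m1 * (v1 * D.t n) ∧
      D.t n * x2 = D.t m2 * (v2 * D.t n) ∧ D.t n * x3 = D.t m3 * (v3 * D.t n) ∧
      D.t n * x4 = D.t m4 * (v4 * D.t n) := by
  have hA1 : D.Ac v1 A1 := D.hA1 _ hv.p1
  have hA2 : D.Ac v2 A2 := D.hA2 _ hv.p2
  have hA3 : D.Ac v3 A3 := D.hA3 _ hv.p3
  have hA4 : D.Ac v4 A4 := D.hA4 _ hv.p4
  obtain ⟨d1, e1⟩ := D.diff (hx.p1.trans hv.p1.symm)
  obtain ⟨d2, e2⟩ := D.diff (hx.p2.trans hv.p2.symm)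
  obtain ⟨d3, e3⟩ := D.diff (hx.p3.trans hv.p3.symm)
  obtain ⟨d4, e4⟩ := D.diff (hx.p4.trans hv.p4.symm)
  have s1 : d1 + A1 d1 = 0 := D.sq_one hA1 (by rw [← e1]; exact hx.i1) hv.i1
  have s2 : d2 + A2 d2 = 0 := D.sq_one hA2 (by rw [← e2]; exact hx.i2) hv.i2
  have s3 : d3 + A3 d3 = 0 := D.sq_one hA3 (by rw [← e3]; exact hx.i3) hv.i3
  have s4 : d4 + A4 d4 = 0 := D.sq_one hA4 (by rw [← e4]; exact hx.i4) hv.i4
  have c12 : d1 + A1 d2 = d2 + A2 d1 := by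
    have h := hx.c12
    rw [e1, e2, D.mm hA1, D.mm hA2, hv.c12] at h
    exact D.t_cancel h
  have c13 : d1 + A1 d3 = d3 + A3 d1 := by
    have h := hx.c13
    rw [e1, e3, D.mm hA1, D.mm hA3, hv.c13] at h
    exact D.t_cancel h
  have c14 : d1 + A1 d4 = d4 + A4 d1 := by
    have h := hx.c14
    rw [e1, e4, D.mm hA1, D.mm hA4, hv.c14] at h
    exact D.t_cancel h
  obtain ⟨n, n1, n2, n3, n4⟩ := h1 d1 d2 d3 d4 s1 s2 s3 s4 c12 c13 c14
  have key : ∀ (A : Vc → Vc) (v x : Γ) (d : Vc), D.Ac v A → x = D.t d * v →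
      D.t n * x = D.t (n + d + A n) * (v * D.t n) := by
    intro A v x d hA hx
    rw [hA, ← mul_assoc, ← D.add, add_assoc, vadd, add_zero, hx, ← mul_assoc, ← D.add]
  exact ⟨n, _, _, _, _, n1, n2, n3, n4, key _ _ _ _ hA1 e1, key _ _ _ _ hA2 e2, key _ _ _ _ hA3 e3,
    key _ _ _ _ hA4 e4⟩

theorem stepN {S0 x v w : Γ} {n m : Vc} {A : Vc → Vc} (hS : D.Ac (S0 * D.t n) A) (hx : x = S0⁻¹ * w * S0)
    (h : D.t n * x = D.t m * (v * D.t n)) : S0 * D.t n * v = D.t (A m) * (w * (S0 * D.t n)) := by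
  have h1 : D.t m * v = D.t n * x * D.t n := by
    rw [h, mul_assoc, mul_assoc, D.t_sq, mul_one]
  have h2 : S0 * D.t n * (D.t m * v) = w * (S0 * D.t n) := by
    calc S0 * D.t n * (D.t m * v) = S0 * (D.t n * D.t n) * x * D.t n := by rw [h1]; group
      _ = S0 * x * D.t n := by rw [D.t_sq, mul_one]
      _ = _ := by rw [hx]; group
  rw [← mul_assoc, hS, mul_assoc] at h2
  rw [← h2, ← mul_assoc, D.t_sq, one_mul]

theorem conj_comm {S a b : Γ} (h : a * b = b * a) : S⁻¹ * a * S * (S⁻¹ * b * S) = S⁻¹ * b * S * (S⁻¹ * a * S) := by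
  calc S⁻¹ * a * S * (S⁻¹ * b * S) = S⁻¹ * (a * b) * S := by group
    _ = S⁻¹ * (b * a) * S := by rw [h]
    _ = _ := by group

theorem conj_inv {S a : Γ} (h : a * a = 1) : S⁻¹ * a * S * (S⁻¹ * a * S) = 1 := by
  calc S⁻¹ * a * S * (S⁻¹ * a * S) = S⁻¹ * (a * a) * S := by group
    _ = 1 := by rw [h]; group

theorem exS {v1 v2 v3 v4 : Γ} (hv : D.Vhat v1 v2 v3 v4) : ∃ S m1 m2 m3 m4, D.π S = D.s ∧ U4 m1 ∧ U4 m2 ∧ U4 m3 ∧
    U4 m4 ∧ S * v1 = D.t m1 * (v1 * v2 * S) ∧ S * v2 = D.t m2 * (v2 * S) ∧ S * v3 = D.t m3 * (v3 * v4 * S) ∧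
    S * v4 = D.t m4 * (v4 * S) := by
  obtain ⟨S0, h0⟩ := D.surj D.s
  have hx : D.Vhat (S0⁻¹ * (v1 * v2) * S0) (S0⁻¹ * v2 * S0) (S0⁻¹ * (v3 * v4) * S0) (S0⁻¹ * v4 * S0) := by
    have q1 : v1 * v2 * (v1 * v2) = 1 := by
      calc v1 * v2 * (v1 * v2) = v1 * (v2 * v1) * v2 := by group
        _ = v1 * v1 * (v2 * v2) := by rw [← hv.c12]; group
        _ = 1 := by rw [hv.i1, hv.i2, one_mul]
    have q3 : v3 * v4 * (v3 * v4) = 1 := by
      calc v3 * v4 * (v3 * v4) = v3 * (v4 * v3) * v4 := by group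
        _ = v3 * v3 * (v4 * v4) := by rw [← hv.c34]; group
        _ = 1 := by rw [hv.i3, hv.i4, one_mul]
    refine ⟨?_, ?_, ?_, ?_, conj_inv q1, conj_inv hv.i2, conj_inv q3, conj_inv hv.i4, conj_comm ?_, conj_comm ?_,
      conj_comm ?_, conj_comm ?_, conj_comm ?_, conj_comm ?_⟩
    · rw [map_mul, map_mul, map_mul, map_inv, h0, hv.p1, hv.p2, mul_assoc, ← D.sa1]; group
    · rw [map_mul, map_mul, map_inv, h0, hv.p2, mul_assoc, ← D.sa2]; group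
    · rw [map_mul, map_mul, map_mul, map_inv, h0, hv.p3, hv.p4, mul_assoc, ← D.sa3]; group
    · rw [map_mul, map_mul, map_inv, h0, hv.p4, mul_assoc, ← D.sa4]; group
    · rw [← mul_assoc, ← hv.c12]
    · calc v1 * v2 * (v3 * v4) = v1 * (v2 * v3) * v4 := by group
        _ = (v1 * v3) * (v2 * v4) := by rw [hv.c23]; group
        _ = v3 * (v1 * v4) * v2 := by rw [hv.c13, hv.c24]; group
        _ = _ := by rw [hv.c14]; group
    · rw [mul_assoc, hv.c24, ← mul_assoc, hv.c14, mul_assoc]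
    · rw [← mul_assoc, hv.c23, mul_assoc, hv.c24, ← mul_assoc]
    · exact hv.c24
    · rw [← mul_assoc, ← hv.c34]
  obtain ⟨n, m1, m2, m3, m4, u1, u2, u3, u4, e1, e2, e3, e4⟩ := D.conjV hv hx
  have hπ : D.π (S0 * D.t n) = D.s := by rw [map_mul, D.π_t, mul_one, h0]
  have hS : D.Ac (S0 * D.t n) SS := D.hS _ hπ
  exact ⟨_, _, _, _, _, hπ, U4_SS _ u1, U4_SS _ u2, U4_SS _ u3, U4_SS _ u4, D.stepN hS rfl e1, D.stepN hS rfl e2,
    D.stepN hS rfl e3, D.stepN hS rfl e4⟩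

theorem exT {v1 v2 v3 v4 : Γ} (hv : D.Vhat v1 v2 v3 v4) : ∃ T m1 m2 m3 m4, D.π T = D.s' ∧ U4 m1 ∧ U4 m2 ∧ U4 m3 ∧
    U4 m4 ∧ T * v1 = D.t m1 * (v1 * v2 * v3 * T) ∧ T * v2 = D.t m2 * (v2 * T) ∧ T * v3 = D.t m3 * (v3 * T) ∧
    T * v4 = D.t m4 * (v2 * v4 * T) := by
  obtain ⟨S0, h0⟩ := D.surj D.s'
  have hx : D.Vhat (S0⁻¹ * (v1 * v2 * v3) * S0) (S0⁻¹ * v2 * S0) (S0⁻¹ * v3 * S0) (S0⁻¹ * (v2 * v4) * S0) := by
    have q1 : v1 * v2 * v3 * (v1 * v2 * v3) = 1 := by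
      calc v1 * v2 * v3 * (v1 * v2 * v3) = v1 * v2 * (v3 * v1) * (v2 * v3) := by group
        _ = v1 * v2 * (v1 * v3) * (v3 * v2) := by rw [← hv.c13, hv.c23]
        _ = v1 * (v2 * v1) * (v3 * v3) * v2 := by group
        _ = v1 * v1 * (v2 * v2) := by rw [← hv.c12, hv.i3]; group
        _ = 1 := by rw [hv.i1, hv.i2, one_mul]
    have q3 : v2 * v4 * (v2 * v4) = 1 := by
      calc v2 * v4 * (v2 * v4) = v2 * (v4 * v2) * v4 := by group
        _ = v2 * v2 * (v4 * v4) := by rw [← hv.c24]; group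
        _ = 1 := by rw [hv.i2, hv.i4, one_mul]
    refine ⟨?_, ?_, ?_, ?_, conj_inv q1, conj_inv hv.i2, conj_inv hv.i3, conj_inv q3, conj_comm ?_, conj_comm ?_,
      conj_comm ?_, conj_comm ?_, conj_comm ?_, conj_comm ?_⟩
    · rw [map_mul, map_mul, map_mul, map_mul, map_inv, h0, hv.p1, hv.p2, hv.p3, mul_assoc, ← D.ta1]; group
    · rw [map_mul, map_mul, map_inv, h0, hv.p2, mul_assoc, ← D.ta2]; group
    · rw [map_mul, map_mul, map_inv, h0, hv.p3, mul_assoc, ← D.ta3]; group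
    · rw [map_mul, map_mul, map_mul, map_inv, h0, hv.p2, hv.p4, mul_assoc, ← D.ta4]; group
    · calc v1 * v2 * v3 * v2 = v1 * v2 * (v3 * v2) := by group
        _ = (v1 * v2) * (v2 * v3) := by rw [← hv.c23]
        _ = (v2 * v1) * (v2 * v3) := by rw [hv.c12]
        _ = _ := by group
    · calc v1 * v2 * v3 * v3 = v1 * (v2 * v3) * v3 := by group
        _ = (v1 * v3) * v2 * v3 := by rw [hv.c23]; group
        _ = _ := by rw [hv.c13]; group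
    · calc v1 * v2 * v3 * (v2 * v4) = v1 * v2 * (v3 * v2) * v4 := by group
        _ = (v1 * v2) * v2 * (v3 * v4) := by rw [← hv.c23]; group
        _ = v2 * v1 * v2 * (v4 * v3) := by rw [hv.c12, hv.c34]
        _ = v2 * v1 * (v2 * v4) * v3 := by group
        _ = v2 * (v1 * v4) * v2 * v3 := by rw [hv.c24]; group
        _ = _ := by rw [hv.c14]; group
    · exact hv.c23
    · rw [mul_assoc, ← hv.c24]
    · rw [← mul_assoc, ← hv.c23, mul_assoc, hv.c34, ← mul_assoc]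
  obtain ⟨n, m1, m2, m3, m4, u1, u2, u3, u4, e1, e2, e3, e4⟩ := D.conjV hv hx
  have hπ : D.π (S0 * D.t n) = D.s' := by rw [map_mul, D.π_t, mul_one, h0]
  have hS : D.Ac (S0 * D.t n) TT := D.hT _ hπ
  exact ⟨_, _, _, _, _, hπ, U4_TT _ u1, U4_TT _ u2, U4_TT _ u3, U4_TT _ u4, D.stepN hS rfl e1, D.stepN hS rfl e2,
    D.stepN hS rfl e3, D.stepN hS rfl e4⟩

end MExt

end H49.TD
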