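import Cfsg.Agent.Lib.H49.TD5

/-!
Extensions by the ten-dimensional module: normalising the action of a dihedral group.
-/

set_option autoImplicit false
set_option linter.unusedSimpArgs false
set_option linter.unusedSimpArgs false

namespace H49.TD

universe u v

theorem as {Γ : Type u} [Group Γ] {a b c : Γ} (h : a * b = c) (x : Γ) : a * (b * x) = c * x := by
  rw [← mul_assoc, h]

theorem as1 {Γ : Type u} [Group Γ] {a b : Γ} (h : a * b = 1) (x : Γ) : a * (b * x) = x := by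
  rw [← mul_assoc, h, one_mul]

namespace MExt

variable {Γ : Type u} [Group Γ] {G : Type v} [Group G] (D : MExt Γ G)

theorem kerComm {ρ c : Vc} {v : Γ} {A : Vc → Vc} (hA : D.Ac v A) (h : D.t ρ * v = D.t c * (v * D.t ρ)) :
    ρ + A ρ = c := by
  rw [hA, ← mul_assoc, ← D.add] at h
  exact (vcancel (D.t_cancel h).symm).symm ▸ rfl

theorem triv4 {v1 v2 v3 v4 : Γ} (hv : D.Vhat v1 v2 v3 v4) {ρ c1 c2 c3 c4 : Vc} (u1 : U4 c1) (u2 : U4 c2) (u3 : U4 c3)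
    (u4 : U4 c4) (h1 : D.t ρ * v1 = D.t c1 * (v1 * D.t ρ)) (h2 : D.t ρ * v2 = D.t c2 * (v2 * D.t ρ))
    (h3 : D.t ρ * v3 = D.t c3 * (v3 * D.t ρ)) (h4 : D.t ρ * v4 = D.t c4 * (v4 * D.t ρ)) :
    c1 = 0 ∧ c2 = 0 ∧ c3 = 0 ∧ c4 = 0 := by
  have e1 := D.kerComm (D.hA1 _ hv.p1) h1
  have e2 := D.kerComm (D.hA2 _ hv.p2) h2
  have e3 := D.kerComm (D.hA3 _ hv.p3) h3
  have e4 := D.kerComm (D.hA4 _ hv.p4) h4
  have h5 : U5 ρ := cen5 ρ (by rw [e1]; exact u1) (by rw [e2]; exact u2) (by rw [e3]; exact u3) (by rw [e4]; exact u4)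
  refine ⟨?_, ?_, ?_, ?_⟩
  · rw [← e1, U5_fix1 _ h5, vadd]
  · rw [← e2, U5_fix2 _ h5, vadd]
  · rw [← e3, U5_fix3 _ h5, vadd]
  · rw [← e4, U5_fix4 _ h5, vadd]

/-- the configuration of lifts after the first normalisation -/
structure Pre (E U W Z S T : Γ) (κ : Vc) : Prop where
  pE : D.π E = D.a1 * D.a4
  pU : D.π U = D.a3
  pW : D.π W = D.a4
  pZ : D.π Z = D.a2
  pS : D.π S = D.s
  pT : D.π T = D.s'
  iE : E * E = 1
  iU : U * U = 1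
  iW : W * W = 1
  iZ : Z * Z = 1
  cEU : U * E = E * U
  cEW : W * E = E * W
  cEZ : Z * E = E * Z
  cUW : W * U = U * W
  cUZ : Z * U = U * Z
  cWZ : Z * W = W * Z
  TE : T * E = E * (U * T)
  TU : T * U = U * T
  TW : T * W = W * (Z * T)
  TZ : T * Z = Z * T
  SU : S * U = U * (W * S)
  SW : S * W = W * S
  SE : S * E = D.t κ * (E * (Z * S))
  SZ : S * Z = D.t (κ + SS κ) * (Z * S)
  hκ : U4 κ

theorem exPre : ∃ E U W Z S T κ, D.Pre E U W Z S T κ := by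
  obtain ⟨v1, v2, v3, v4, hv⟩ := D.exV
  obtain ⟨S, m1, m2, m3, m4, pS, u1, u2, u3, u4, s1, s2, s3, s4⟩ := D.exS hv
  obtain ⟨T, n1, n2, n3, n4, pT, w1, w2, w3, w4, t1, t2, t3, t4⟩ := D.exT hv
  have hS : D.Ac S SS := D.hS _ pS
  have hT : D.Ac T TT := D.hT _ pT
  have k1 : ∀ n, U4 n → v1 * D.t n = D.t n * v1 := fun n hn => by rw [D.hA1 _ hv.p1, U5_fix1 _ (U4_U5 hn)]
  have k2 : ∀ n, U4 n → v2 * D.t n = D.t n * v2 := fun n hn => by rw [D.hA2 _ hv.p2, U5_fix2 _ (U4_U5 hn)]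
  have k3 : ∀ n, U4 n → v3 * D.t n = D.t n * v3 := fun n hn => by rw [D.hA3 _ hv.p3, U5_fix3 _ (U4_U5 hn)]
  have k4 : ∀ n, U4 n → v4 * D.t n = D.t n * v4 := fun n hn => by rw [D.hA4 _ hv.p4, U5_fix4 _ (U4_U5 hn)]
  have c21 := hv.c12.symm
  have c31 := hv.c13.symm
  have c41 := hv.c14.symm
  have c32 := hv.c23.symm
  have c42 := hv.c24.symm
  have c43 := hv.c34.symm
  have i1 := hv.i1
  have i2 := hv.i2
  have i3 := hv.i3
  have i4 := hv.i4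
  have ta := D.add
  -- squares
  obtain ⟨ρ, hρ⟩ := (D.ker (T * T)).1 (by rw [map_mul, pT, D.tt])
  obtain ⟨σ, hσ⟩ := (D.ker (S * S)).1 (by rw [map_mul, pS, D.ss])
  have q1 : T * T * v1 = D.t (TT n1 + (n1 + (n2 + n3))) * (v1 * (T * T)) := by
    simp only [mul_assoc, t1, t2, t3, t4, as t1, as t2, as t3, as t4, s1, s2, s3, s4, as s1, as s2, as s3, as s4, hT _,
      as (hT _), hS _, as (hS _), k1 _ w1, k1 _ w2, k1 _ w3, k1 _ w4, k2 _ w1, k2 _ w2, k2 _ w3, k2 _ w4, k3 _ w1,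
      k3 _ w2, k3 _ w3, k3 _ w4, k4 _ w1, k4 _ w2, k4 _ w3, k4 _ w4, as (k1 _ w1), as (k1 _ w2), as (k1 _ w3),
      as (k1 _ w4), as (k2 _ w1), as (k2 _ w2), as (k2 _ w3), as (k2 _ w4), as (k3 _ w1), as (k3 _ w2), as (k3 _ w3),
      as (k3 _ w4), as (k4 _ w1), as (k4 _ w2), as (k4 _ w3), as (k4 _ w4), k1 _ u1, k1 _ u2, k1 _ u3, k1 _ u4,
      k2 _ u1, k2 _ u2, k2 _ u3, k2 _ u4, k3 _ u1, k3 _ u2, k3 _ u3, k3 _ u4, k4 _ u1, k4 _ u2, k4 _ u3, k4 _ u4,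
      as (k1 _ u1), as (k1 _ u2), as (k1 _ u3), as (k1 _ u4), as (k2 _ u1), as (k2 _ u2), as (k2 _ u3), as (k2 _ u4),
      as (k3 _ u1), as (k3 _ u2), as (k3 _ u3), as (k3 _ u4), as (k4 _ u1), as (k4 _ u2), as (k4 _ u3), as (k4 _ u4),
      c21, c31, c41, c32, c42, c43, as c21, as c31, as c41, as c32, as c42, as c43, i1, i2, i3, i4,
      as1 i1, as1 i2, as1 i3, as1 i4, D.add, mul_one, one_mul]
  have q2 : T * T * v2 = D.t (TT n2 + n2) * (v2 * (T * T)) := by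
    simp only [mul_assoc, t1, t2, t3, t4, as t1, as t2, as t3, as t4, s1, s2, s3, s4, as s1, as s2, as s3, as s4, hT _,
      as (hT _), hS _, as (hS _), k1 _ w1, k1 _ w2, k1 _ w3, k1 _ w4, k2 _ w1, k2 _ w2, k2 _ w3, k2 _ w4, k3 _ w1,
      k3 _ w2, k3 _ w3, k3 _ w4, k4 _ w1, k4 _ w2, k4 _ w3, k4 _ w4, as (k1 _ w1), as (k1 _ w2), as (k1 _ w3),
      as (k1 _ w4), as (k2 _ w1), as (k2 _ w2), as (k2 _ w3), as (k2 _ w4), as (k3 _ w1), as (k3 _ w2), as (k3 _ w3),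
      as (k3 _ w4), as (k4 _ w1), as (k4 _ w2), as (k4 _ w3), as (k4 _ w4), k1 _ u1, k1 _ u2, k1 _ u3, k1 _ u4,
      k2 _ u1, k2 _ u2, k2 _ u3, k2 _ u4, k3 _ u1, k3 _ u2, k3 _ u3, k3 _ u4, k4 _ u1, k4 _ u2, k4 _ u3, k4 _ u4,
      as (k1 _ u1), as (k1 _ u2), as (k1 _ u3), as (k1 _ u4), as (k2 _ u1), as (k2 _ u2), as (k2 _ u3), as (k2 _ u4),
      as (k3 _ u1), as (k3 _ u2), as (k3 _ u3), as (k3 _ u4), as (k4 _ u1), as (k4 _ u2), as (k4 _ u3), as (k4 _ u4),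
      c21, c31, c41, c32, c42, c43, as c21, as c31, as c41, as c32, as c42, as c43, i1, i2, i3, i4,
      as1 i1, as1 i2, as1 i3, as1 i4, D.add, mul_one, one_mul]
  have q3 : T * T * v3 = D.t (TT n3 + n3) * (v3 * (T * T)) := by
    simp only [mul_assoc, t1, t2, t3, t4, as t1, as t2, as t3, as t4, s1, s2, s3, s4, as s1, as s2, as s3, as s4, hT _,
      as (hT _), hS _, as (hS _), k1 _ w1, k1 _ w2, k1 _ w3, k1 _ w4, k2 _ w1, k2 _ w2, k2 _ w3, k2 _ w4, k3 _ w1,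
      k3 _ w2, k3 _ w3, k3 _ w4, k4 _ w1, k4 _ w2, k4 _ w3, k4 _ w4, as (k1 _ w1), as (k1 _ w2), as (k1 _ w3),
      as (k1 _ w4), as (k2 _ w1), as (k2 _ w2), as (k2 _ w3), as (k2 _ w4), as (k3 _ w1), as (k3 _ w2), as (k3 _ w3),
      as (k3 _ w4), as (k4 _ w1), as (k4 _ w2), as (k4 _ w3), as (k4 _ w4), k1 _ u1, k1 _ u2, k1 _ u3, k1 _ u4,
      k2 _ u1, k2 _ u2, k2 _ u3, k2 _ u4, k3 _ u1, k3 _ u2, k3 _ u3, k3 _ u4, k4 _ u1, k4 _ u2, k4 _ u3, k4 _ u4,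
      as (k1 _ u1), as (k1 _ u2), as (k1 _ u3), as (k1 _ u4), as (k2 _ u1), as (k2 _ u2), as (k2 _ u3), as (k2 _ u4),
      as (k3 _ u1), as (k3 _ u2), as (k3 _ u3), as (k3 _ u4), as (k4 _ u1), as (k4 _ u2), as (k4 _ u3), as (k4 _ u4),
      c21, c31, c41, c32, c42, c43, as c21, as c31, as c41, as c32, as c42, as c43, i1, i2, i3, i4,
      as1 i1, as1 i2, as1 i3, as1 i4, D.add, mul_one, one_mul]
  have q4 : T * T * v4 = D.t (TT n4 + (n2 + n4)) * (v4 * (T * T)) := by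
    simp only [mul_assoc, t1, t2, t3, t4, as t1, as t2, as t3, as t4, s1, s2, s3, s4, as s1, as s2, as s3, as s4, hT _,
      as (hT _), hS _, as (hS _), k1 _ w1, k1 _ w2, k1 _ w3, k1 _ w4, k2 _ w1, k2 _ w2, k2 _ w3, k2 _ w4, k3 _ w1,
      k3 _ w2, k3 _ w3, k3 _ w4, k4 _ w1, k4 _ w2, k4 _ w3, k4 _ w4, as (k1 _ w1), as (k1 _ w2), as (k1 _ w3),
      as (k1 _ w4), as (k2 _ w1), as (k2 _ w2), as (k2 _ w3), as (k2 _ w4), as (k3 _ w1), as (k3 _ w2), as (k3 _ w3),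
      as (k3 _ w4), as (k4 _ w1), as (k4 _ w2), as (k4 _ w3), as (k4 _ w4), k1 _ u1, k1 _ u2, k1 _ u3, k1 _ u4,
      k2 _ u1, k2 _ u2, k2 _ u3, k2 _ u4, k3 _ u1, k3 _ u2, k3 _ u3, k3 _ u4, k4 _ u1, k4 _ u2, k4 _ u3, k4 _ u4,
      as (k1 _ u1), as (k1 _ u2), as (k1 _ u3), as (k1 _ u4), as (k2 _ u1), as (k2 _ u2), as (k2 _ u3), as (k2 _ u4),
      as (k3 _ u1), as (k3 _ u2), as (k3 _ u3), as (k3 _ u4), as (k4 _ u1), as (k4 _ u2), as (k4 _ u3), as (k4 _ u4),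
      c21, c31, c41, c32, c42, c43, as c21, as c31, as c41, as c32, as c42, as c43, i1, i2, i3, i4,
      as1 i1, as1 i2, as1 i3, as1 i4, D.add, mul_one, one_mul]
  have r1 : S * S * v1 = D.t (SS m1 + (m1 + m2)) * (v1 * (S * S)) := by
    simp only [mul_assoc, t1, t2, t3, t4, as t1, as t2, as t3, as t4, s1, s2, s3, s4, as s1, as s2, as s3, as s4, hT _,
      as (hT _), hS _, as (hS _), k1 _ w1, k1 _ w2, k1 _ w3, k1 _ w4, k2 _ w1, k2 _ w2, k2 _ w3, k2 _ w4, k3 _ w1,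
      k3 _ w2, k3 _ w3, k3 _ w4, k4 _ w1, k4 _ w2, k4 _ w3, k4 _ w4, as (k1 _ w1), as (k1 _ w2), as (k1 _ w3),
      as (k1 _ w4), as (k2 _ w1), as (k2 _ w2), as (k2 _ w3), as (k2 _ w4), as (k3 _ w1), as (k3 _ w2), as (k3 _ w3),
      as (k3 _ w4), as (k4 _ w1), as (k4 _ w2), as (k4 _ w3), as (k4 _ w4), k1 _ u1, k1 _ u2, k1 _ u3, k1 _ u4,
      k2 _ u1, k2 _ u2, k2 _ u3, k2 _ u4, k3 _ u1, k3 _ u2, k3 _ u3, k3 _ u4, k4 _ u1, k4 _ u2, k4 _ u3, k4 _ u4,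
      as (k1 _ u1), as (k1 _ u2), as (k1 _ u3), as (k1 _ u4), as (k2 _ u1), as (k2 _ u2), as (k2 _ u3), as (k2 _ u4),
      as (k3 _ u1), as (k3 _ u2), as (k3 _ u3), as (k3 _ u4), as (k4 _ u1), as (k4 _ u2), as (k4 _ u3), as (k4 _ u4),
      c21, c31, c41, c32, c42, c43, as c21, as c31, as c41, as c32, as c42, as c43, i1, i2, i3, i4,
      as1 i1, as1 i2, as1 i3, as1 i4, D.add, mul_one, one_mul]
  have r2 : S * S * v2 = D.t (SS m2 + m2) * (v2 * (S * S)) := by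
    simp only [mul_assoc, t1, t2, t3, t4, as t1, as t2, as t3, as t4, s1, s2, s3, s4, as s1, as s2, as s3, as s4, hT _,
      as (hT _), hS _, as (hS _), k1 _ w1, k1 _ w2, k1 _ w3, k1 _ w4, k2 _ w1, k2 _ w2, k2 _ w3, k2 _ w4, k3 _ w1,
      k3 _ w2, k3 _ w3, k3 _ w4, k4 _ w1, k4 _ w2, k4 _ w3, k4 _ w4, as (k1 _ w1), as (k1 _ w2), as (k1 _ w3),
      as (k1 _ w4), as (k2 _ w1), as (k2 _ w2), as (k2 _ w3), as (k2 _ w4), as (k3 _ w1), as (k3 _ w2), as (k3 _ w3),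
      as (k3 _ w4), as (k4 _ w1), as (k4 _ w2), as (k4 _ w3), as (k4 _ w4), k1 _ u1, k1 _ u2, k1 _ u3, k1 _ u4,
      k2 _ u1, k2 _ u2, k2 _ u3, k2 _ u4, k3 _ u1, k3 _ u2, k3 _ u3, k3 _ u4, k4 _ u1, k4 _ u2, k4 _ u3, k4 _ u4,
      as (k1 _ u1), as (k1 _ u2), as (k1 _ u3), as (k1 _ u4), as (k2 _ u1), as (k2 _ u2), as (k2 _ u3), as (k2 _ u4),
      as (k3 _ u1), as (k3 _ u2), as (k3 _ u3), as (k3 _ u4), as (k4 _ u1), as (k4 _ u2), as (k4 _ u3), as (k4 _ u4),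
      c21, c31, c41, c32, c42, c43, as c21, as c31, as c41, as c32, as c42, as c43, i1, i2, i3, i4,
      as1 i1, as1 i2, as1 i3, as1 i4, D.add, mul_one, one_mul]
  have r3 : S * S * v3 = D.t (SS m3 + (m3 + m4)) * (v3 * (S * S)) := by
    simp only [mul_assoc, t1, t2, t3, t4, as t1, as t2, as t3, as t4, s1, s2, s3, s4, as s1, as s2, as s3, as s4, hT _,
      as (hT _), hS _, as (hS _), k1 _ w1, k1 _ w2, k1 _ w3, k1 _ w4, k2 _ w1, k2 _ w2, k2 _ w3, k2 _ w4, k3 _ w1,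
      k3 _ w2, k3 _ w3, k3 _ w4, k4 _ w1, k4 _ w2, k4 _ w3, k4 _ w4, as (k1 _ w1), as (k1 _ w2), as (k1 _ w3),
      as (k1 _ w4), as (k2 _ w1), as (k2 _ w2), as (k2 _ w3), as (k2 _ w4), as (k3 _ w1), as (k3 _ w2), as (k3 _ w3),
      as (k3 _ w4), as (k4 _ w1), as (k4 _ w2), as (k4 _ w3), as (k4 _ w4), k1 _ u1, k1 _ u2, k1 _ u3, k1 _ u4,
      k2 _ u1, k2 _ u2, k2 _ u3, k2 _ u4, k3 _ u1, k3 _ u2, k3 _ u3, k3 _ u4, k4 _ u1, k4 _ u2, k4 _ u3, k4 _ u4,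
      as (k1 _ u1), as (k1 _ u2), as (k1 _ u3), as (k1 _ u4), as (k2 _ u1), as (k2 _ u2), as (k2 _ u3), as (k2 _ u4),
      as (k3 _ u1), as (k3 _ u2), as (k3 _ u3), as (k3 _ u4), as (k4 _ u1), as (k4 _ u2), as (k4 _ u3), as (k4 _ u4),
      c21, c31, c41, c32, c42, c43, as c21, as c31, as c41, as c32, as c42, as c43, i1, i2, i3, i4,
      as1 i1, as1 i2, as1 i3, as1 i4, D.add, mul_one, one_mul]
  have r4 : S * S * v4 = D.t (SS m4 + m4) * (v4 * (S * S)) := by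
    simp only [mul_assoc, t1, t2, t3, t4, as t1, as t2, as t3, as t4, s1, s2, s3, s4, as s1, as s2, as s3, as s4, hT _,
      as (hT _), hS _, as (hS _), k1 _ w1, k1 _ w2, k1 _ w3, k1 _ w4, k2 _ w1, k2 _ w2, k2 _ w3, k2 _ w4, k3 _ w1,
      k3 _ w2, k3 _ w3, k3 _ w4, k4 _ w1, k4 _ w2, k4 _ w3, k4 _ w4, as (k1 _ w1), as (k1 _ w2), as (k1 _ w3),
      as (k1 _ w4), as (k2 _ w1), as (k2 _ w2), as (k2 _ w3), as (k2 _ w4), as (k3 _ w1), as (k3 _ w2), as (k3 _ w3),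
      as (k3 _ w4), as (k4 _ w1), as (k4 _ w2), as (k4 _ w3), as (k4 _ w4), k1 _ u1, k1 _ u2, k1 _ u3, k1 _ u4,
      k2 _ u1, k2 _ u2, k2 _ u3, k2 _ u4, k3 _ u1, k3 _ u2, k3 _ u3, k3 _ u4, k4 _ u1, k4 _ u2, k4 _ u3, k4 _ u4,
      as (k1 _ u1), as (k1 _ u2), as (k1 _ u3), as (k1 _ u4), as (k2 _ u1), as (k2 _ u2), as (k2 _ u3), as (k2 _ u4),
      as (k3 _ u1), as (k3 _ u2), as (k3 _ u3), as (k3 _ u4), as (k4 _ u1), as (k4 _ u2), as (k4 _ u3), as (k4 _ u4),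
      c21, c31, c41, c32, c42, c43, as c21, as c31, as c41, as c32, as c42, as c43, i1, i2, i3, i4,
      as1 i1, as1 i2, as1 i3, as1 i4, D.add, mul_one, one_mul]
  rw [← hρ] at q1 q2 q3 q4
  rw [← hσ] at r1 r2 r3 r4
  obtain ⟨z1, z2, z3, z4⟩ := D.triv4 hv (U4_add (U4_TT _ w1) (U4_add w1 (U4_add w2 w3))) (U4_add (U4_TT _ w2) w2)
    (U4_add (U4_TT _ w3) w3) (U4_add (U4_TT _ w4) (U4_add w2 w4)) q1 q2 q3 q4
  obtain ⟨y1, y2, y3, y4⟩ := D.triv4 hv (U4_add (U4_SS _ u1) (U4_add u1 u2)) (U4_add (U4_SS _ u2) u2)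
    (U4_add (U4_SS _ u3) (U4_add u3 u4)) (U4_add (U4_SS _ u4) u4) r1 r2 r3 r4
  obtain ⟨α, hα⟩ : ∃ α, α = n1 + n4 := ⟨_, rfl⟩
  obtain ⟨β, hβ⟩ : ∃ β, β = α + SS α + m3 := ⟨_, rfl⟩
  obtain ⟨γ, hγ⟩ : ∃ γ, γ = β + TT β + n4 := ⟨_, rfl⟩
  obtain ⟨κ, hκ⟩ : ∃ κ, κ = m1 + m4 + γ := ⟨_, rfl⟩
  have uα : U4 α := by rw [hα]; exact U4_add w1 w4
  have uβ : U4 β := by rw [hβ]; exact U4_add (U4_add uα (U4_SS _ uα)) u3
  have uγ : U4 γ := by rw [hγ]; exact U4_add (U4_add uβ (U4_TT _ uβ)) w4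
  have uκ : U4 κ := by rw [hκ]; exact U4_add (U4_add u1 u4) uγ
  have a3 : D.Ac v3 A3 := D.hA3 _ hv.p3
  have a4 : D.Ac v4 A4 := D.hA4 _ hv.p4
  have a2 : D.Ac v2 A2 := D.hA2 _ hv.p2
  have g1 : TT α + n3 = α := by
    simp only [hα, TT_add]
    funext i
    have e0 := congrFun z1 i
    have e1 := congrFun z4 i
    simp only [Pi.add_apply, Pi.zero_apply] at e0 e1 ⊢
    grind
  have g2 : β + γ = TT β + n4 := by
    funext i
    have e0 := congrFun hγ i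
    simp only [Pi.add_apply, Pi.zero_apply] at e0 ⊢
    grind
  have g3 : TT γ + n2 = γ := by
    simp only [hγ, TT_add, TT_TT]
    funext i
    have e0 := congrFun z4 i
    simp only [Pi.add_apply, Pi.zero_apply] at e0 ⊢
    grind
  have g4 : α + β = SS α + m3 := by
    funext i
    have e0 := congrFun hβ i
    simp only [Pi.add_apply, Pi.zero_apply] at e0 ⊢
    grind
  have g5 : SS β + m4 = β := by
    simp only [hβ, SS_add, SS_SS]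
    funext i
    have e0 := congrFun y3 i
    simp only [Pi.add_apply, Pi.zero_apply] at e0 ⊢
    grind
  have g6 : κ + γ = m1 + m4 := by
    funext i
    have e0 := congrFun hκ i
    simp only [Pi.add_apply, Pi.zero_apply] at e0 ⊢
    grind
  have hκ' : SS κ = SS m1 + SS m4 + SS γ := by rw [hκ, SS_add, SS_add]
  have g7 : SS γ + m2 = κ + SS κ + γ := by
    simp only [hκ']
    funext i
    have e0 := congrFun hκ i
    have e1 := congrFun y1 i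
    have e2 := congrFun y4 i
    simp only [Pi.add_apply, Pi.zero_apply] at e0 e1 e2 ⊢
    grind
  refine ⟨v1 * v4, D.t α * v3, D.t β * v4, D.t γ * v2, S, T, κ, ?_, ?_, ?_, ?_, pS, pT, ?_, ?_, ?_, ?_, ?_, ?_, ?_, ?_,
    ?_, ?_, ?_, ?_, ?_, ?_, ?_, ?_, ?_, ?_, uκ⟩
  · rw [map_mul, hv.p1, hv.p4]
  · rw [D.π_tm, hv.p3]
  · rw [D.π_tm, hv.p4]
  · rw [D.π_tm, hv.p2]
  · simp only [mul_assoc, c41, as c41, as1 i1, i4]
  · rw [D.sq a3, U5_fix3 _ (U4_U5 uα), vadd, D.t_zero, one_mul, i3]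
  · rw [D.sq a4, U5_fix4 _ (U4_U5 uβ), vadd, D.t_zero, one_mul, i4]
  · rw [D.sq a2, U5_fix2 _ (U4_U5 uγ), vadd, D.t_zero, one_mul, i2]
  · simp only [mul_assoc, as (k1 _ uα), as (k4 _ uα), c31, c43, as c31, as c43]
  · simp only [mul_assoc, as (k1 _ uβ), as (k4 _ uβ), c41, as c41]
  · simp only [mul_assoc, as (k1 _ uγ), as (k4 _ uγ), c21, c42, as c21, as c42]
  · rw [D.mm a4, D.mm a3, U5_fix4 _ (U4_U5 uα), U5_fix3 _ (U4_U5 uβ), c43, add_comm]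
  · rw [D.mm a2, D.mm a3, U5_fix2 _ (U4_U5 uα), U5_fix3 _ (U4_U5 uγ), ← c32, add_comm]
  · rw [D.mm a2, D.mm a4, U5_fix2 _ (U4_U5 uβ), U5_fix4 _ (U4_U5 uγ), ← c42, add_comm]
  · rw [hα]
    simp only [mul_assoc, t1, t2, t3, t4, as t1, as t2, as t3, as t4, s1, s2, s3, s4, as s1, as s2, as s3, as s4, hT _,
      as (hT _), hS _, as (hS _), k1 _ w1, k1 _ w2, k1 _ w3, k1 _ w4, k2 _ w1, k2 _ w2, k2 _ w3, k2 _ w4, k3 _ w1,
      k3 _ w2, k3 _ w3, k3 _ w4, k4 _ w1, k4 _ w2, k4 _ w3, k4 _ w4, as (k1 _ w1), as (k1 _ w2), as (k1 _ w3),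
      as (k1 _ w4), as (k2 _ w1), as (k2 _ w2), as (k2 _ w3), as (k2 _ w4), as (k3 _ w1), as (k3 _ w2), as (k3 _ w3),
      as (k3 _ w4), as (k4 _ w1), as (k4 _ w2), as (k4 _ w3), as (k4 _ w4), k1 _ u1, k1 _ u2, k1 _ u3, k1 _ u4,
      k2 _ u1, k2 _ u2, k2 _ u3, k2 _ u4, k3 _ u1, k3 _ u2, k3 _ u3, k3 _ u4, k4 _ u1, k4 _ u2, k4 _ u3, k4 _ u4,
      as (k1 _ u1), as (k1 _ u2), as (k1 _ u3), as (k1 _ u4), as (k2 _ u1), as (k2 _ u2), as (k2 _ u3), as (k2 _ u4),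
      as (k3 _ u1), as (k3 _ u2), as (k3 _ u3), as (k3 _ u4), as (k4 _ u1), as (k4 _ u2), as (k4 _ u3), as (k4 _ u4),
      c21, c31, c41, c32, c42, c43, as c21, as c31, as c41, as c32, as c42, as c43, i1, i2, i3, i4,
      as1 i1, as1 i2, as1 i3, as1 i4, D.add, mul_one, one_mul]
  · rw [← mul_assoc, hT, mul_assoc, t3, ← mul_assoc, ← ta, g1, mul_assoc]
  · rw [← mul_assoc, hT, mul_assoc, t4, ← mul_assoc (D.t (TT β)), ← ta, ← g2, ta]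
    simp only [mul_assoc, as (k4 _ uγ), as c42]
  · rw [← mul_assoc, hT, mul_assoc, t2, ← mul_assoc, ← ta, g3, mul_assoc]
  · rw [← mul_assoc, hS, mul_assoc, s3, ← mul_assoc (D.t (SS α)), ← ta, ← g4, ta]
    simp only [mul_assoc, as (k3 _ uβ)]
  · rw [← mul_assoc, hS, mul_assoc, s4, ← mul_assoc, ← ta, g5, mul_assoc]
  · have e : D.t κ * (v1 * v4 * (D.t γ * v2 * S)) = D.t (κ + γ) * (v1 * (v2 * (v4 * S))) := by
      rw [ta]
      simp only [mul_assoc, as (k4 _ uγ), as (k1 _ uγ), as c42]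
    rw [e, g6]
    simp only [mul_assoc, t1, t2, t3, t4, as t1, as t2, as t3, as t4, s1, s2, s3, s4, as s1, as s2, as s3, as s4, hT _,
      as (hT _), hS _, as (hS _), k1 _ w1, k1 _ w2, k1 _ w3, k1 _ w4, k2 _ w1, k2 _ w2, k2 _ w3, k2 _ w4, k3 _ w1,
      k3 _ w2, k3 _ w3, k3 _ w4, k4 _ w1, k4 _ w2, k4 _ w3, k4 _ w4, as (k1 _ w1), as (k1 _ w2), as (k1 _ w3),
      as (k1 _ w4), as (k2 _ w1), as (k2 _ w2), as (k2 _ w3), as (k2 _ w4), as (k3 _ w1), as (k3 _ w2), as (k3 _ w3),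
      as (k3 _ w4), as (k4 _ w1), as (k4 _ w2), as (k4 _ w3), as (k4 _ w4), k1 _ u1, k1 _ u2, k1 _ u3, k1 _ u4,
      k2 _ u1, k2 _ u2, k2 _ u3, k2 _ u4, k3 _ u1, k3 _ u2, k3 _ u3, k3 _ u4, k4 _ u1, k4 _ u2, k4 _ u3, k4 _ u4,
      as (k1 _ u1), as (k1 _ u2), as (k1 _ u3), as (k1 _ u4), as (k2 _ u1), as (k2 _ u2), as (k2 _ u3), as (k2 _ u4),
      as (k3 _ u1), as (k3 _ u2), as (k3 _ u3), as (k3 _ u4), as (k4 _ u1), as (k4 _ u2), as (k4 _ u3), as (k4 _ u4),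
      c21, c31, c41, c32, c42, c43, as c21, as c31, as c41, as c32, as c42, as c43, i1, i2, i3, i4,
      as1 i1, as1 i2, as1 i3, as1 i4, D.add, mul_one, one_mul]
  · rw [← mul_assoc, hS, mul_assoc, s2, ← mul_assoc (D.t (SS γ)), ← ta, g7, ta (κ + SS κ)]
    simp only [mul_assoc]

end MExt

end H49.TD
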