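import Cfsg.Agent.Lib.H49.TD6

/-!
Extensions by the ten-dimensional module: normalising the action of a dihedral group.
-/

set_option autoImplicit false
set_option linter.unusedSimpArgs false

namespace H49.TD

universe u v

namespace MExt

variable {Γ : Type u} [Group Γ] {G : Type v} [Group G] (D : MExt Γ G)

theorem Pre.aE {E U W Z S T : Γ} {κ : Vc} (h : D.Pre E U W Z S T κ) : D.Ac E (fun x => A1 (A4 x)) := by
  obtain ⟨g1, hg1⟩ := D.surj D.a1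
  obtain ⟨g4, hg4⟩ := D.surj D.a4
  obtain ⟨x, hx⟩ := D.diff (g := E) (h := g1 * g4) (by rw [h.pE, map_mul, hg1, hg4])
  rw [hx]
  exact Ac.t D (Ac.mul D (D.hA1 _ hg1) (D.hA4 _ hg4)) x

/-- a kernel element normalising the lift of `2⁴` modulo `U4` centralises it -/
theorem Pre.triv {E U W Z S T : Γ} {κ : Vc} (h : D.Pre E U W Z S T κ) {ρ c1 c2 c3 c4 : Vc} (u1 : U4 c1) (u2 : U4 c2)
    (u3 : U4 c3) (u4 : U4 c4) (h1 : D.t ρ * E = D.t c1 * (E * D.t ρ)) (h2 : D.t ρ * U = D.t c2 * (U * D.t ρ))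
    (h3 : D.t ρ * W = D.t c3 * (W * D.t ρ)) (h4 : D.t ρ * Z = D.t c4 * (Z * D.t ρ)) : U5 ρ ∧ c1 = 0 := by
  have e1 := D.kerComm (h.aE D) h1
  have e2 := D.kerComm (D.hA3 _ h.pU) h2
  have e3 := D.kerComm (D.hA4 _ h.pW) h3
  have e4 := D.kerComm (D.hA2 _ h.pZ) h4
  have h5 : U5 ρ := cen5' ρ (by rw [e1]; exact u1) (by rw [e2]; exact u2) (by rw [e3]; exact u3) (by rw [e4]; exact u4)
  refine ⟨h5, ?_⟩
  rw [← e1]
  simp only [U5_fix4 _ h5, U5_fix1 _ h5, vadd]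

/-- the fourth power of `S T` -/
theorem Pre.four {E U W Z S T : Γ} {κ : Vc} (h : D.Pre E U W Z S T κ) : ∃ ρ, D.t ρ = S * T * (S * T) * (S * T * (S * T)) ∧
    U5 ρ ∧ ST κ + ST (ST κ) + ST (ST (ST κ)) + SS κ = 0 := by
  obtain ⟨ρ, hρ⟩ := (D.ker (S * T * (S * T) * (S * T * (S * T)))).1 (by
    simp only [map_mul, h.pS, h.pT]; exact D.st4)
  obtain ⟨g, hg⟩ : ∃ g, g = S * T := ⟨_, rfl⟩
  have hgS : D.Ac g ST := by
    rw [hg]
    exact (Ac.mul D (D.hS _ h.pS) (D.hT _ h.pT) : D.Ac (S * T) (fun x => SS (TT x)))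
  obtain ⟨l, hl⟩ : ∃ l, l = κ + SS κ := ⟨_, rfl⟩
  have ul : U4 l := by rw [hl]; exact U4_add h.hκ (U4_SS _ h.hκ)
  have uκ := h.hκ
  have kE : ∀ n, U4 n → E * D.t n = D.t n * E := fun n hn => (h.aE D n).trans (by
    show D.t (A1 (A4 n)) * E = _
    rw [U5_fix4 _ (U4_U5 hn), U5_fix1 _ (U4_U5 hn)])
  have kU : ∀ n, U4 n → U * D.t n = D.t n * U := fun n hn => by rw [D.hA3 _ h.pU, U5_fix3 _ (U4_U5 hn)]
  have kW : ∀ n, U4 n → W * D.t n = D.t n * W := fun n hn => by rw [D.hA4 _ h.pW, U5_fix4 _ (U4_U5 hn)]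
  have kZ : ∀ n, U4 n → Z * D.t n = D.t n * Z := fun n hn => by rw [D.hA2 _ h.pZ, U5_fix2 _ (U4_U5 hn)]
  have iE := h.iE
  have iU := h.iU
  have iW := h.iW
  have iZ := h.iZ
  have cEU := h.cEU
  have cEW := h.cEW
  have cEZ := h.cEZ
  have cUW := h.cUW
  have cUZ := h.cUZ
  have cWZ := h.cWZ
  have gE : g * E = D.t κ * (E * (U * (W * (Z * g)))) := by
    rw [hg, mul_assoc, h.TE, ← mul_assoc, h.SE]
    simp only [mul_assoc, as h.SU, as cUZ, as cWZ]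
  have gU : g * U = U * (W * g) := by
    rw [hg, mul_assoc, h.TU, ← mul_assoc, h.SU]
    simp only [mul_assoc]
  have gZ : g * Z = D.t l * (Z * g) := by
    rw [hg, mul_assoc, h.TZ, ← mul_assoc, h.SZ, ← hl]
    simp only [mul_assoc]
  have gW : g * W = D.t l * (W * (Z * g)) := by
    rw [hg, mul_assoc, h.TW, ← mul_assoc, h.SW, mul_assoc, ← mul_assoc S, h.SZ, ← hl]
    simp only [mul_assoc, as (kW _ ul)]
  obtain ⟨f, hf⟩ : ∃ f, f = g * g := ⟨_, rfl⟩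
  have hfS : D.Ac f (fun x => ST (ST x)) := by rw [hf]; exact Ac.mul D hgS hgS
  have u1 : U4 (ST l) := U4_ST _ ul
  have v1 : U4 (ST κ) := U4_ST _ uκ
  have fE : f * E = D.t (ST κ + κ) * (E * (W * (Z * f))) := by
    rw [hf]
    simp only [mul_assoc, cEU, cEW, cEZ, cUW, cUZ, cWZ, as cEU, as cEW, as cEZ, as cUW, as cUZ, as cWZ, iE, iU, iW, iZ, as1 iE,
      as1 iU, as1 iW, as1 iZ, D.add, mul_one, one_mul, gE, gU, gW, gZ, as gE, as gU, as gW, as gZ, hgS _, as (hgS _), kE _ uκ, kE _ ul, kE _ u1, kE _ v1,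
      kU _ uκ, kU _ ul, kU _ u1, kU _ v1, kW _ uκ, kW _ ul, kW _ u1, kW _ v1, kZ _ uκ, kZ _ ul, kZ _ u1, kZ _ v1,
      as (kE _ uκ), as (kE _ ul), as (kE _ u1), as (kE _ v1),
      as (kU _ uκ), as (kU _ ul), as (kU _ u1), as (kU _ v1), as (kW _ uκ), as (kW _ ul), as (kW _ u1), as (kW _ v1),
      as (kZ _ uκ), as (kZ _ ul), as (kZ _ u1), as (kZ _ v1), as1 (D.t_sq _)]
  have fU : f * U = D.t l * (U * (Z * f)) := by
    rw [hf]
    simp only [mul_assoc, cEU, cEW, cEZ, cUW, cUZ, cWZ, as cEU, as cEW, as cEZ, as cUW, as cUZ, as cWZ, iE, iU, iW, iZ, as1 iE,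
      as1 iU, as1 iW, as1 iZ, D.add, mul_one, one_mul, gE, gU, gW, gZ, as gE, as gU, as gW, as gZ, hgS _, as (hgS _),
      kU _ uκ, kU _ ul, kU _ u1, kU _ v1, kW _ uκ, kW _ ul, kW _ u1, kW _ v1, kZ _ uκ, kZ _ ul, kZ _ u1, kZ _ v1,
      as (kU _ uκ), as (kU _ ul), as (kU _ u1), as (kU _ v1), as (kW _ uκ), as (kW _ ul), as (kW _ u1), as (kW _ v1),
      as (kZ _ uκ), as (kZ _ ul), as (kZ _ u1), as (kZ _ v1), as1 (D.t_sq _)]
  have fW : f * W = D.t (ST l) * (W * f) := by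
    rw [hf]
    simp only [mul_assoc, cEU, cEW, cEZ, cUW, cUZ, cWZ, as cEU, as cEW, as cEZ, as cUW, as cUZ, as cWZ, iE, iU, iW, iZ, as1 iE,
      as1 iU, as1 iW, as1 iZ, D.add, mul_one, one_mul, gE, gU, gW, gZ, as gE, as gU, as gW, as gZ, hgS _, as (hgS _),
      kU _ uκ, kU _ ul, kU _ u1, kU _ v1, kW _ uκ, kW _ ul, kW _ u1, kW _ v1, kZ _ uκ, kZ _ ul, kZ _ u1, kZ _ v1,
      as (kU _ uκ), as (kU _ ul), as (kU _ u1), as (kU _ v1), as (kW _ uκ), as (kW _ ul), as (kW _ u1), as (kW _ v1),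
      as (kZ _ uκ), as (kZ _ ul), as (kZ _ u1), as (kZ _ v1), as1 (D.t_sq _)]
  have fZ : f * Z = D.t (ST l + l) * (Z * f) := by
    rw [hf]
    simp only [mul_assoc, cEU, cEW, cEZ, cUW, cUZ, cWZ, as cEU, as cEW, as cEZ, as cUW, as cUZ, as cWZ, iE, iU, iW, iZ, as1 iE,
      as1 iU, as1 iW, as1 iZ, D.add, mul_one, one_mul, gE, gU, gW, gZ, as gE, as gU, as gW, as gZ, hgS _, as (hgS _),
      kU _ uκ, kU _ ul, kU _ u1, kU _ v1, kW _ uκ, kW _ ul, kW _ u1, kW _ v1, kZ _ uκ, kZ _ ul, kZ _ u1, kZ _ v1,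
      as (kU _ uκ), as (kU _ ul), as (kU _ u1), as (kU _ v1), as (kW _ uκ), as (kW _ ul), as (kW _ u1), as (kW _ v1),
      as (kZ _ uκ), as (kZ _ ul), as (kZ _ u1), as (kZ _ v1), as1 (D.t_sq _)]
  have u2 : U4 (ST l + l) := U4_add u1 ul
  have v2 : U4 (ST κ + κ) := U4_add v1 uκ
  have xE : f * f * E = D.t (ST (ST (ST κ + κ)) + ((ST κ + κ) + l)) * (E * (f * f)) := by
    simp only [mul_assoc, cEU, cEW, cEZ, cUW, cUZ, cWZ, as cEU, as cEW, as cEZ, as cUW, as cUZ, as cWZ, iE, iU, iW, iZ, as1 iE,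
      as1 iU, as1 iW, as1 iZ, D.add, mul_one, one_mul, ST_add, fE, fU, fW, fZ, as fE, as fU, as fW, as fZ, hfS _, as (hfS _), kE _ uκ, as (kE _ uκ), kE _ ul, as
      (kE _ ul), kE _ u1, as (kE _ u1), kE _ v1, as (kE _ v1), kE _ u2, as (kE _ u2), kE _ v2, as (kE _ v2), kU _
      uκ, as (kU _ uκ), kU _ ul, as (kU _ ul), kU _ u1, as (kU _ u1), kU _ v1, as (kU _ v1), kU _ u2, as (kU _ u2),
      kU _ v2, as (kU _ v2), kW _ uκ, as (kW _ uκ), kW _ ul, as (kW _ ul), kW _ u1, as (kW _ u1), kW _ v1, as (kW _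
      v1), kW _ u2, as (kW _ u2), kW _ v2, as (kW _ v2), kZ _ uκ, as (kZ _ uκ), kZ _ ul, as (kZ _ ul), kZ _ u1, as
      (kZ _ u1), kZ _ v1, as (kZ _ v1), kZ _ u2, as (kZ _ u2), kZ _ v2, as (kZ _ v2), as1 (D.t_sq _)]
  have xU : f * f * U = D.t (ST (ST l) + (l + (ST l + l))) * (U * (f * f)) := by
    simp only [mul_assoc, cEU, cEW, cEZ, cUW, cUZ, cWZ, as cEU, as cEW, as cEZ, as cUW, as cUZ, as cWZ, iE, iU, iW, iZ, as1 iE,
      as1 iU, as1 iW, as1 iZ, D.add, mul_one, one_mul, ST_add, fE, fU, fW, fZ, as fE, as fU, as fW, as fZ, hfS _, as (hfS _), kE _ uκ, as (kE _ uκ), kE _ ul, as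
      (kE _ ul), kE _ u1, as (kE _ u1), kE _ v1, as (kE _ v1), kE _ u2, as (kE _ u2), kE _ v2, as (kE _ v2), kU _
      uκ, as (kU _ uκ), kU _ ul, as (kU _ ul), kU _ u1, as (kU _ u1), kU _ v1, as (kU _ v1), kU _ u2, as (kU _ u2),
      kU _ v2, as (kU _ v2), kW _ uκ, as (kW _ uκ), kW _ ul, as (kW _ ul), kW _ u1, as (kW _ u1), kW _ v1, as (kW _
      v1), kW _ u2, as (kW _ u2), kW _ v2, as (kW _ v2), kZ _ uκ, as (kZ _ uκ), kZ _ ul, as (kZ _ ul), kZ _ u1, as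
      (kZ _ u1), kZ _ v1, as (kZ _ v1), kZ _ u2, as (kZ _ u2), kZ _ v2, as (kZ _ v2), as1 (D.t_sq _)]
  have xW : f * f * W = D.t (ST (ST (ST l)) + ST l) * (W * (f * f)) := by
    simp only [mul_assoc, cEU, cEW, cEZ, cUW, cUZ, cWZ, as cEU, as cEW, as cEZ, as cUW, as cUZ, as cWZ, iE, iU, iW, iZ, as1 iE,
      as1 iU, as1 iW, as1 iZ, D.add, mul_one, one_mul, ST_add, fE, fU, fW, fZ, as fE, as fU, as fW, as fZ, hfS _, as (hfS _), kE _ uκ, as (kE _ uκ), kE _ ul, as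
      (kE _ ul), kE _ u1, as (kE _ u1), kE _ v1, as (kE _ v1), kE _ u2, as (kE _ u2), kE _ v2, as (kE _ v2), kU _
      uκ, as (kU _ uκ), kU _ ul, as (kU _ ul), kU _ u1, as (kU _ u1), kU _ v1, as (kU _ v1), kU _ u2, as (kU _ u2),
      kU _ v2, as (kU _ v2), kW _ uκ, as (kW _ uκ), kW _ ul, as (kW _ ul), kW _ u1, as (kW _ u1), kW _ v1, as (kW _
      v1), kW _ u2, as (kW _ u2), kW _ v2, as (kW _ v2), kZ _ uκ, as (kZ _ uκ), kZ _ ul, as (kZ _ ul), kZ _ u1, as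
      (kZ _ u1), kZ _ v1, as (kZ _ v1), kZ _ u2, as (kZ _ u2), kZ _ v2, as (kZ _ v2), as1 (D.t_sq _)]
  have xZ : f * f * Z = D.t (ST (ST (ST l + l)) + (ST l + l)) * (Z * (f * f)) := by
    simp only [mul_assoc, cEU, cEW, cEZ, cUW, cUZ, cWZ, as cEU, as cEW, as cEZ, as cUW, as cUZ, as cWZ, iE, iU, iW, iZ, as1 iE,
      as1 iU, as1 iW, as1 iZ, D.add, mul_one, one_mul, ST_add, fE, fU, fW, fZ, as fE, as fU, as fW, as fZ, hfS _, as (hfS _), kE _ uκ, as (kE _ uκ), kE _ ul, as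
      (kE _ ul), kE _ u1, as (kE _ u1), kE _ v1, as (kE _ v1), kE _ u2, as (kE _ u2), kE _ v2, as (kE _ v2), kU _
      uκ, as (kU _ uκ), kU _ ul, as (kU _ ul), kU _ u1, as (kU _ u1), kU _ v1, as (kU _ v1), kU _ u2, as (kU _ u2),
      kU _ v2, as (kU _ v2), kW _ uκ, as (kW _ uκ), kW _ ul, as (kW _ ul), kW _ u1, as (kW _ u1), kW _ v1, as (kW _
      v1), kW _ u2, as (kW _ u2), kW _ v2, as (kW _ v2), kZ _ uκ, as (kZ _ uκ), kZ _ ul, as (kZ _ ul), kZ _ u1, as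
      (kZ _ u1), kZ _ v1, as (kZ _ v1), kZ _ u2, as (kZ _ u2), kZ _ v2, as (kZ _ v2), as1 (D.t_sq _)]
  have hff : D.t ρ = f * f := by rw [hρ, hf, hg]
  rw [← hff] at xE xU xW xZ
  obtain ⟨h5, h6⟩ := h.triv D (U4_add (U4_ST _ (U4_ST _ v2)) (U4_add v2 ul)) (U4_add (U4_ST _ u1) (U4_add ul u2))
    (U4_add (U4_ST _ (U4_ST _ u1)) u1) (U4_add (U4_ST _ (U4_ST _ u2)) u2) xE xU xW xZ
  refine ⟨ρ, hρ, h5, ?_⟩
  rw [ST_add, ST_add, hl] at h6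
  rw [← h6]
  funext i
  simp only [Pi.add_apply]
  grind

end MExt

end H49.TD
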