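import Cfsg.Agent.Lib.H49.TD7

/-!
Extensions by the ten-dimensional module: a lift of `2⁴ : D₈`.
-/

set_option autoImplicit false
set_option linter.unusedSimpArgs false

namespace H49.TD

universe u v

theorem U5_zero : U5 0 := ⟨rfl, rfl, rfl, rfl, rfl⟩
theorem SS_zero : SS 0 = 0 := by vg

namespace MExt

variable {Γ : Type u} [Group Γ] {G : Type v} [Group G] (D : MExt Γ G)

theorem mu {x y : Γ} {m : Vc} (hx : x * D.t m = D.t m * x) (n : Vc) : D.t n * x * (D.t m * y) = D.t (n + m) * (x * y) := by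
  rw [mul_assoc, ← mul_assoc x, hx, mul_assoc (D.t m), ← mul_assoc (D.t n), ← D.add]

theorem fix5 {E U W Z S T : Γ} {κ : Vc} (h : D.Pre E U W Z S T κ) {n : Vc} (hn : U5 n) :
    E * D.t n = D.t n * E ∧ U * D.t n = D.t n * U ∧ W * D.t n = D.t n * W ∧ Z * D.t n = D.t n * Z := by
  refine ⟨(h.aE D n).trans ?_, ?_, ?_, ?_⟩
  · show D.t (A1 (A4 n)) * E = _
    rw [U5_fix4 _ hn, U5_fix1 _ hn]
  · rw [D.hA3 _ h.pU, U5_fix3 _ hn]
  · rw [D.hA4 _ h.pW, U5_fix4 _ hn]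
  · rw [D.hA2 _ h.pZ, U5_fix2 _ hn]

theorem exPre0 : ∃ E U W Z S T, D.Pre E U W Z S T 0 := by
  obtain ⟨E, U, W, Z, S, T, κ, h⟩ := D.exPre
  obtain ⟨-, -, -, hk⟩ := h.four D
  obtain ⟨un, hn⟩ := kap κ h.hκ hk
  obtain ⟨n, hn'⟩ : ∃ n, n = fk κ := ⟨_, rfl⟩
  rw [← hn'] at un hn
  obtain ⟨u, hu⟩ : ∃ u, u = n + TT n := ⟨_, rfl⟩
  rw [← hu] at hn
  obtain ⟨w, hw⟩ : ∃ w, w = u + SS u := ⟨_, rfl⟩
  rw [← hw] at hn
  obtain ⟨z, hz⟩ : ∃ z, z = w + TT w := ⟨_, rfl⟩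
  rw [← hz] at hn
  have uu : U4 u := by rw [hu]; exact U4_add un (U4_TT _ un)
  have uw : U4 w := by rw [hw]; exact U4_add uu (U4_SS _ uu)
  have uz : U4 z := by rw [hz]; exact U4_add uw (U4_TT _ uw)
  have hS : D.Ac S SS := D.hS _ h.pS
  have hT : D.Ac T TT := D.hT _ h.pT
  obtain ⟨n1, n2, n3, n4⟩ := D.fix5 h (U4_U5 un)
  obtain ⟨u1, u2, u3, u4⟩ := D.fix5 h (U4_U5 uu)
  obtain ⟨w1, w2, w3, w4⟩ := D.fix5 h (U4_U5 uw)
  obtain ⟨z1, z2, z3, z4⟩ := D.fix5 h (U4_U5 uz)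
  have e1 : n + u = TT n := by rw [hu, ← add_assoc, vadd, zero_add]
  have e2 : u + w = SS u := by rw [hw, ← add_assoc, vadd, zero_add]
  have e3 : w + z = TT w := by rw [hz, ← add_assoc, vadd, zero_add]
  have e4 : TT u = u := by rw [hu, TT_add, TT_TT, add_comm]
  have e5 : SS w = w := by rw [hw, SS_add, SS_SS, add_comm]
  have e6 : TT z = z := by rw [hz, TT_add, TT_TT, add_comm]
  have e7 : SS n + κ = n + z := by
    rw [← hn]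
    funext i; simp only [Pi.add_apply]; grind
  have e8 : SS z + (κ + SS κ) = z := by
    rw [← hn, SS_add, SS_add, SS_SS]
    funext i; simp only [Pi.add_apply]; grind
  refine ⟨D.t n * E, D.t u * U, D.t w * W, D.t z * Z, S, T, ?_, ?_, ?_, ?_, h.pS, h.pT, ?_, ?_, ?_, ?_, ?_, ?_, ?_, ?_,
    ?_, ?_, ?_, ?_, ?_, ?_, ?_, ?_, ?_, ?_, U4_zero⟩
  · rw [D.π_tm, h.pE]
  · rw [D.π_tm, h.pU]
  · rw [D.π_tm, h.pW]
  · rw [D.π_tm, h.pZ]
  · rw [D.mu n1, vadd, D.t_zero, one_mul, h.iE]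
  · rw [D.mu u2, vadd, D.t_zero, one_mul, h.iU]
  · rw [D.mu w3, vadd, D.t_zero, one_mul, h.iW]
  · rw [D.mu z4, vadd, D.t_zero, one_mul, h.iZ]
  · rw [D.mu n2, D.mu u1, h.cEU, add_comm]
  · rw [D.mu n3, D.mu w1, h.cEW, add_comm]
  · rw [D.mu n4, D.mu z1, h.cEZ, add_comm]
  · rw [D.mu u3, D.mu w2, h.cUW, add_comm]
  · rw [D.mu u4, D.mu z2, h.cUZ, add_comm]
  · rw [D.mu w4, D.mu z3, h.cWZ, add_comm]
  · rw [← mul_assoc, hT, mul_assoc, h.TE, mul_assoc (D.t u), D.mu u1, e1]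
  · rw [← mul_assoc, hT, mul_assoc, h.TU, e4, mul_assoc]
  · rw [← mul_assoc, hT, mul_assoc, h.TW, mul_assoc (D.t z), D.mu z3, e3]
  · rw [← mul_assoc, hT, mul_assoc, h.TZ, e6, mul_assoc]
  · rw [← mul_assoc, hS, mul_assoc, h.SU, mul_assoc (D.t w), D.mu w2, e2]
  · rw [← mul_assoc, hS, mul_assoc, h.SW, e5, mul_assoc]
  · rw [← mul_assoc, hS, mul_assoc, h.SE, ← mul_assoc (D.t (SS n)), ← D.add, mul_assoc (D.t z), D.mu z1, e7, D.t_zero,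
      one_mul]
  · rw [← mul_assoc, hS, mul_assoc, h.SZ, ← mul_assoc (D.t (SS z)), ← D.add, e8, SS_zero, add_zero, D.t_zero, one_mul,
      mul_assoc]

/-- replacing `S` -/
theorem Pre.chS {E U W Z S T : Γ} (h : D.Pre E U W Z S T 0) {p : Vc} (hp : U5 p) : D.Pre E U W Z (D.t p * S) T 0 := by
  obtain ⟨p1, p2, p3, p4⟩ := D.fix5 h hp
  refine ⟨h.pE, h.pU, h.pW, h.pZ, by rw [D.π_tm, h.pS], h.pT, h.iE, h.iU, h.iW, h.iZ, h.cEU, h.cEW, h.cEZ, h.cUW,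
    h.cUZ, h.cWZ, h.TE, h.TU, h.TW, h.TZ, ?_, ?_, ?_, ?_, U4_zero⟩
  · rw [mul_assoc, h.SU, as p3, mul_assoc, as p2, mul_assoc]
  · rw [mul_assoc, h.SW, as p3, mul_assoc]
  · rw [mul_assoc, h.SE, as p4, mul_assoc, as p1, mul_assoc, D.t_zero, one_mul, one_mul]
  · rw [mul_assoc, h.SZ, as p4, mul_assoc, SS_zero, add_zero, D.t_zero, one_mul, one_mul]

/-- replacing `T` -/
theorem Pre.chT {E U W Z S T : Γ} (h : D.Pre E U W Z S T 0) {p : Vc} (hp : U5 p) : D.Pre E U W Z S (D.t p * T) 0 := by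
  obtain ⟨p1, p2, p3, p4⟩ := D.fix5 h hp
  refine ⟨h.pE, h.pU, h.pW, h.pZ, h.pS, by rw [D.π_tm, h.pT], h.iE, h.iU, h.iW, h.iZ, h.cEU, h.cEW, h.cEZ, h.cUW,
    h.cUZ, h.cWZ, ?_, ?_, ?_, ?_, h.SU, h.SW, h.SE, h.SZ, U4_zero⟩
  · rw [mul_assoc, h.TE, as p2, mul_assoc, as p1, mul_assoc]
  · rw [mul_assoc, h.TU, as p2, mul_assoc]
  · rw [mul_assoc, h.TW, as p4, mul_assoc, as p3, mul_assoc]
  · rw [mul_assoc, h.TZ, as p4, mul_assoc]

theorem Pre.sqS {E U W Z S T : Γ} (h : D.Pre E U W Z S T 0) : ∃ σ, D.t σ = S * S ∧ U5 σ := by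
  obtain ⟨σ, hσ⟩ := (D.ker (S * S)).1 (by rw [map_mul, h.pS, D.ss])
  have sE : S * E = E * (Z * S) := by rw [h.SE, D.t_zero, one_mul]
  have sZ : S * Z = Z * S := by rw [h.SZ, SS_zero, add_zero, D.t_zero, one_mul]
  have e1 : D.t σ * E = D.t 0 * (E * D.t σ) := by
    rw [hσ]; simp only [mul_assoc, sE, sZ, as sE, as sZ, as1 h.iZ, D.t_zero, one_mul]
  have e2 : D.t σ * U = D.t 0 * (U * D.t σ) := by
    rw [hσ]; simp only [mul_assoc, h.SU, h.SW, as h.SU, as h.SW, as1 h.iW, D.t_zero, one_mul]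
  have e3 : D.t σ * W = D.t 0 * (W * D.t σ) := by
    rw [hσ]; simp only [mul_assoc, h.SW, as h.SW, D.t_zero, one_mul]
  have e4 : D.t σ * Z = D.t 0 * (Z * D.t σ) := by
    rw [hσ]; simp only [mul_assoc, sZ, as sZ, D.t_zero, one_mul]
  exact ⟨σ, hσ, (h.triv D U4_zero U4_zero U4_zero U4_zero e1 e2 e3 e4).1⟩

theorem Pre.sqT {E U W Z S T : Γ} (h : D.Pre E U W Z S T 0) : ∃ σ, D.t σ = T * T ∧ U5 σ := by
  obtain ⟨σ, hσ⟩ := (D.ker (T * T)).1 (by rw [map_mul, h.pT, D.tt])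
  have e1 : D.t σ * E = D.t 0 * (E * D.t σ) := by
    rw [hσ]; simp only [mul_assoc, h.TE, h.TU, as h.TE, as h.TU, as1 h.iU, D.t_zero, one_mul]
  have e2 : D.t σ * U = D.t 0 * (U * D.t σ) := by
    rw [hσ]; simp only [mul_assoc, h.TU, as h.TU, D.t_zero, one_mul]
  have e3 : D.t σ * W = D.t 0 * (W * D.t σ) := by
    rw [hσ]; simp only [mul_assoc, h.TW, h.TZ, as h.TW, as h.TZ, as1 h.iZ, D.t_zero, one_mul]
  have e4 : D.t σ * Z = D.t 0 * (Z * D.t σ) := by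
    rw [hσ]; simp only [mul_assoc, h.TZ, as h.TZ, D.t_zero, one_mul]
  exact ⟨σ, hσ, (h.triv D U4_zero U4_zero U4_zero U4_zero e1 e2 e3 e4).1⟩

/-- involutory lifts of conjugates of `a₁` -/
theorem exInvol {k x : G} (hk : k * D.a1 = x * k) {S : Γ} (hS : D.π S = x) : ∃ u, D.t u * S * (D.t u * S) = 1 := by
  obtain ⟨v1, v2, v3, v4, hv⟩ := D.exV
  obtain ⟨g, hg⟩ := D.surj k
  obtain ⟨u, hu⟩ := D.diff (g := g * v1 * g⁻¹) (h := S) (by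
    rw [map_mul, map_mul, map_inv, hg, hv.p1, hS, hk]; group)
  refine ⟨u, ?_⟩
  rw [← hu]
  calc g * v1 * g⁻¹ * (g * v1 * g⁻¹) = g * (v1 * v1) * g⁻¹ := by group
    _ = 1 := by rw [hv.i1]; group

/-- a lift of `2⁴ : D₈` -/
theorem exNice : ∃ E U W Z S T, D.Pre E U W Z S T 0 ∧ S * S = 1 ∧ T * T = 1 ∧
    S * T * (S * T) * (S * T * (S * T)) = 1 := by
  obtain ⟨E, U, W, Z, S0, T0, h0⟩ := D.exPre0
  obtain ⟨σ, hσ, uσ⟩ := h0.sqS D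
  obtain ⟨τ, hτ, uτ⟩ := h0.sqT D
  obtain ⟨a, ha⟩ := D.exInvol D.gs1 h0.pS
  obtain ⟨b, hb⟩ := D.exInvol D.gt1 h0.pT
  rw [D.sq (D.hS _ h0.pS), ← hσ, ← D.add] at ha
  rw [D.sq (D.hT _ h0.pT), ← hτ, ← D.add] at hb
  have ha' := eq_of_add (D.inj _ ha)
  have hb' := eq_of_add (D.inj _ hb)
  obtain ⟨a1, a2⟩ := prS a (by rw [ha']; exact uσ)
  obtain ⟨b1, b2⟩ := prT b (by rw [hb']; exact uτ)
  have hS1 : D.t (pr a) * S0 * (D.t (pr a) * S0) = 1 := by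
    rw [D.sq (D.hS _ h0.pS), ← hσ, ← D.add, a2, ha', vadd, D.t_zero]
  have hT1 : D.t (pr b) * T0 * (D.t (pr b) * T0) = 1 := by
    rw [D.sq (D.hT _ h0.pT), ← hτ, ← D.add, b2, hb', vadd, D.t_zero]
  have h1 := (h0.chS D a1).chT D b1
  obtain ⟨S, hSd⟩ : ∃ S, S = D.t (pr a) * S0 := ⟨_, rfl⟩
  obtain ⟨T, hTd⟩ : ∃ T, T = D.t (pr b) * T0 := ⟨_, rfl⟩
  rw [← hSd, ← hTd] at h1
  rw [← hSd] at hS1
  rw [← hTd] at hT1
  obtain ⟨ρ, hρ, uρ, -⟩ := h1.four D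
  have hS : D.Ac S SS := D.hS _ h1.pS
  have hT : D.Ac T TT := D.hT _ h1.pT
  have hTS : T * S * (T * S) * (T * S * (T * S)) = D.t ρ := by
    have e : (T * S * (T * S) * (T * S * (T * S))) * D.t ρ = 1 := by
      rw [hρ]
      simp only [mul_assoc, as1 hS1, as1 hT1, hS1, hT1]
    rw [← D.t_inv ρ]
    exact eq_inv_of_mul_eq_one_left e
  have r1 : SS ρ = ρ := by
    have e : S * D.t ρ = D.t ρ * S := by
      conv_lhs => rw [← hTS]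
      rw [hρ]; simp only [mul_assoc]
    rw [hS] at e
    exact D.t_cancel e
  have r2 : TT ρ = ρ := by
    have e : T * D.t ρ = D.t ρ * T := by
      conv_rhs => rw [← hTS]
      rw [hρ]; simp only [mul_assoc]
    rw [hT] at e
    exact D.t_cancel e
  rcases kap' ρ uρ r1 r2 with h | h
  · refine ⟨E, U, W, Z, S, T, h1, hS1, hT1, ?_⟩
    rw [← hρ, h, D.t_zero]
  · have h2 := h1.chT D uT_U5
    have hT2 : D.t uT * T * (D.t uT * T) = 1 := by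
      rw [D.sq hT, uT_inv, D.t_zero, one_mul, hT1]
    refine ⟨E, U, W, Z, S, D.t uT * T, h2, hS1, hT2, ?_⟩
    have hg : D.Ac (S * T) ST := (Ac.mul D hS hT : D.Ac (S * T) (fun x => SS (TT x)))
    have hff : D.Ac (S * T * (S * T)) (fun x => ST (ST x)) := Ac.mul D hg hg
    have e1 : S * (D.t uT * T) = D.t (SS uT) * (S * T) := by rw [← mul_assoc, hS, mul_assoc]
    rw [e1, D.sq hg, D.sq hff, ← hρ, h]
    have e2 : SS uT + ST (SS uT) + ST (ST (SS uT + ST (SS uT))) = k8 := by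
      rw [ST_add, ST_add, ← add_assoc]
      exact uT_norm
    show D.t (SS uT + ST (SS uT) + ST (ST (SS uT + ST (SS uT)))) * D.t k8 = 1
    rw [e2, D.t_sq]

end MExt

end H49.TD
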