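import Cfsg.Agent.Lib.H49.TD8
import Cfsg.Agent.Lib.H49.CE1
import Cfsg.Agent.Lib.H49.CE2

/-!
Extensions by the ten-dimensional module: splitting over a subgroup `2⁴ : D₈`.
-/

set_option autoImplicit false

namespace H49.TD

open Subgroup H9.Mult H49.CE

universe u v

variable {Γ : Type v} [Group Γ] {G : Type u} [Group G] {σ : Γ →* G}

theorem chain [Finite Γ] {E U W Z S T : Γ} {e s t u w z : G}
    (hE : E * E = 1) (hU : U * U = 1) (hW : W * W = 1) (hZ : Z * Z = 1) (hS : S * S = 1) (hT : T * T = 1)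
    (hEU : E * U = U * E) (hEW : E * W = W * E) (hEZ : E * Z = Z * E) (hUW : U * W = W * U) (hUZ : U * Z = Z * U)
    (hWZ : W * Z = Z * W) (hTE : T * E * T = E * U) (hTU : T * U * T = U) (hTW : T * W * T = W * Z)
    (hTZ : T * Z * T = Z) (hSU : S * U * S = U * W) (hSW : S * W * S = W) (hSE : S * E * S = E * Z)
    (hSZ : S * Z * S = Z) (h4 : S * T * (S * T) * (S * T * (S * T)) = 1)
    (hE' : σ E = e) (hU' : σ U = u) (hW' : σ W = w) (hZ' : σ Z = z) (hS' : σ S = s) (hT' : σ T = t)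
    (f1 : z ≠ 1) (f2 : ∃ F : Subgroup G, z ∈ F ∧ w ∉ F) (f3 : ∃ F : Subgroup G, z ∈ F ∧ w ∈ F ∧ u ∉ F)
    (f4 : ∃ F : Subgroup G, z ∈ F ∧ w ∈ F ∧ u ∈ F ∧ e ∉ F)
    (f5 : ∃ F : Subgroup G, z ∈ F ∧ w ∈ F ∧ u ∈ F ∧ e ∈ F ∧ s ∉ F)
    (f6 : ∃ F : Subgroup G, z ∈ F ∧ w ∈ F ∧ u ∈ F ∧ e ∈ F ∧ s ∈ F ∧ t * s * t ∉ F)
    (f7 : ∃ F : Subgroup G, z ∈ F ∧ w ∈ F ∧ u ∈ F ∧ e ∈ F ∧ s ∈ F ∧ t * s * t ∈ F ∧ t ∉ F) :
    ∃ C : Subgroup Γ, Split σ C ∧ 128 ∣ Nat.card C := by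
  have hSi : S⁻¹ = S := inv_eq_of_mul_eq_one_right hS
  have hTi : T⁻¹ = T := inv_eq_of_mul_eq_one_right hT
  -- conjugations by S and T are multiplicative
  have cS : ∀ x y : Γ, S * (x * y) * S = (S * x * S) * (S * y * S) := by
    intro x y
    calc S * (x * y) * S = S * x * (1 : Γ) * (y * S) := by group
      _ = S * x * (S * S) * (y * S) := by rw [hS]
      _ = _ := by group
  have cT : ∀ x y : Γ, T * (x * y) * T = (T * x * T) * (T * y * T) := by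
    intro x y
    calc T * (x * y) * T = T * x * (1 : Γ) * (y * T) := by group
      _ = T * x * (T * T) * (y * T) := by rw [hT]
      _ = _ := by group
  have cTT : ∀ x : Γ, T * (T * x * T) * T = x := by
    intro x
    calc T * (T * x * T) * T = (T * T) * x * (T * T) := by group
      _ = x := by rw [hT, one_mul, mul_one]
  obtain ⟨ρ, hρ⟩ : ∃ ρ, ρ = S * T * S * T := ⟨_, rfl⟩
  have hρ2 : ρ * ρ = 1 := by rw [hρ, ← h4]; group
  -- conjugation by R = T S T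
  obtain ⟨R, hR⟩ : ∃ R, R = T * S * T := ⟨_, rfl⟩
  have hRR : R * R = 1 := by
    rw [hR]
    calc T * S * T * (T * S * T) = T * S * (T * T) * S * T := by group
      _ = T * (S * S) * T := by rw [hT]; group
      _ = 1 := by rw [hS, mul_one, hT]
  have hRi : R⁻¹ = R := inv_eq_of_mul_eq_one_right hRR
  have cR : ∀ x : Γ, R * x * R = T * (S * (T * x * T) * S) * T := by
    intro x; rw [hR]; group
  have hRZ : R * Z * R = Z := by rw [cR, hTZ, hSZ, hTZ]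
  have hRW : R * W * R = W := by
    rw [cR, hTW, cS W Z, hSW, hSZ, cT W Z, hTW, hTZ, mul_assoc W Z Z, hZ, mul_one]
  have hRU : R * U * R = U * (W * Z) := by
    rw [cR, hTU, hSU, cT U W, hTU, hTW]
  have hRE : R * E * R = E * W := by
    rw [cR, hTE, cS E U, hSE, hSU, cT (E * Z) (U * W), cT E Z, cT U W, hTE, hTZ, hTU, hTW]
    calc E * U * Z * (U * (W * Z)) = E * (U * (Z * U)) * (W * Z) := by group
      _ = E * (U * (U * Z)) * (W * Z) := by rw [hUZ]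
      _ = E * (U * U) * (Z * (W * Z)) := by group
      _ = E * (Z * (Z * W)) := by rw [hU, hWZ, mul_one]
      _ = E * ((Z * Z) * W) := by group
      _ = E * W := by rw [hZ, one_mul]
  have hRS : R * S * R = S := by
    have h1 : (S * R) * (S * R) = 1 := by
      have : S * R = ρ := by rw [hR, hρ]; group
      rw [this, hρ2]
    have h2 : S * (R * S * R) = 1 := by rw [← h1]; group
    have h3 : R * S * R = S⁻¹ := (inv_eq_of_mul_eq_one_right h2).symm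
    rw [h3, hSi]
  have hTS : T * S * T = R := hR.symm
  have hTR : T * R * T = S := by rw [hR, cTT]
  -- images
  have hR' : σ R = t * s * t := by rw [hR]; simp only [map_mul, hS', hT']
  -- the chain
  have N0 : Split σ (⊥ : Subgroup Γ) := fun x hx _ => mem_bot.1 hx
  have le0 : ∀ F : Subgroup G, (⊥ : Subgroup Γ) ≤ F.comap σ := fun F => bot_le
  have step : ∀ {N : Subgroup Γ} {F : Subgroup G} {r : Γ}, N ≤ F.comap σ → σ r ∈ F → N ⊔ zpowers r ≤ F.comap σ := by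
    intro N F r h1 h2
    rw [sup_le_iff, zpowers_le]
    exact ⟨h1, h2⟩
  have n0 : ∀ g : Γ, ∀ x ∈ (⊥ : Subgroup Γ), g * x * g⁻¹ ∈ (⊥ : Subgroup Γ) := by
    intro g x hx
    rw [mem_bot] at hx ⊢
    rw [hx]; group
  -- step Z
  obtain ⟨s1, k1⟩ := split_step Nat.prime_two N0 (r := Z) (n0 Z) (by rw [pow_two, hZ]; exact one_mem _) (by
    intro x hx h
    rw [mem_bot.1 hx, map_one, hZ'] at h
    exact f1 h)
  set N1 := (⊥ : Subgroup Γ) ⊔ zpowers Z with hN1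
  have m1 : Z ∈ N1 := mem_sup_right (mem_zpowers _)
  have c1 : ∀ g : Γ, g * Z * g⁻¹ = Z → ∀ x ∈ N1, g * x * g⁻¹ ∈ N1 := fun g h =>
    conj_sup (n0 g) (by rw [h]; exact m1)
  -- step W
  obtain ⟨F2, a1, a2⟩ := f2
  obtain ⟨s2, k2⟩ := split_step Nat.prime_two s1 (r := W) (c1 W (by rw [hWZ]; group))
    (by rw [pow_two, hW]; exact one_mem _) (ne_of_sep (F := F2) (step (le0 _) (by rw [hZ']; exact a1)) (by rw [hW']; exact a2))
  set N2 := N1 ⊔ zpowers W with hN2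
  have m2 : W ∈ N2 := mem_sup_right (mem_zpowers _)
  have c2 : ∀ g : Γ, g * Z * g⁻¹ = Z → g * W * g⁻¹ ∈ N2 → ∀ x ∈ N2, g * x * g⁻¹ ∈ N2 := fun g h h' =>
    conj_sup (c1 g h) h'
  -- step U
  obtain ⟨F3, b1, b2, b3⟩ := f3
  obtain ⟨s3, k3⟩ := split_step Nat.prime_two s2 (r := U) (c2 U (by rw [hUZ]; group) (by
      rw [hUW, mul_assoc, mul_inv_cancel, mul_one]; exact m2))
    (by rw [pow_two, hU]; exact one_mem _) (ne_of_sep (F := F3) (step (step (le0 _) (by rw [hZ']; exact b1))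
      (by rw [hW']; exact b2)) (by rw [hU']; exact b3))
  set N3 := N2 ⊔ zpowers U with hN3
  have m3 : U ∈ N3 := mem_sup_right (mem_zpowers _)
  have l23 : N2 ≤ N3 := le_sup_left
  have l12 : N1 ≤ N2 := le_sup_left
  have c3 : ∀ g : Γ, g * Z * g⁻¹ = Z → g * W * g⁻¹ ∈ N2 → g * U * g⁻¹ ∈ N3 → ∀ x ∈ N3, g * x * g⁻¹ ∈ N3 :=
    fun g h h' h'' => conj_sup (c2 g h h') h''
  -- step E
  obtain ⟨F4, d1, d2, d3, d4⟩ := f4
  obtain ⟨s4, k4⟩ := split_step Nat.prime_two s3 (r := E) (c3 E (by rw [hEZ]; group) (by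
      rw [hEW, mul_assoc, mul_inv_cancel, mul_one]; exact m2) (by
      rw [hEU, mul_assoc, mul_inv_cancel, mul_one]; exact m3))
    (by rw [pow_two, hE]; exact one_mem _) (ne_of_sep (F := F4) (step (step (step (le0 _) (by rw [hZ']; exact d1))
      (by rw [hW']; exact d2)) (by rw [hU']; exact d3)) (by rw [hE']; exact d4))
  set N4 := N3 ⊔ zpowers E with hN4
  have m4 : E ∈ N4 := mem_sup_right (mem_zpowers _)
  have l34 : N3 ≤ N4 := le_sup_left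
  have c4 : ∀ g : Γ, g * Z * g⁻¹ = Z → g * W * g⁻¹ ∈ N2 → g * U * g⁻¹ ∈ N3 → g * E * g⁻¹ ∈ N4 →
      ∀ x ∈ N4, g * x * g⁻¹ ∈ N4 :=
    fun g h h' h'' h3 => conj_sup (c3 g h h' h'') h3
  -- step S
  obtain ⟨F5, p1, p2, p3, p4, p5⟩ := f5
  obtain ⟨s5, k5⟩ := split_step Nat.prime_two s4 (r := S) (c4 S (by rw [hSi, hSZ]) (by
      rw [hSi, hSW]; exact m2) (by rw [hSi, hSU]; exact mul_mem m3 (l23 m2)) (by
      rw [hSi, hSE]; exact mul_mem m4 (l34 (l23 (l12 m1)))))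
    (by rw [pow_two, hS]; exact one_mem _) (ne_of_sep (F := F5) (step (step (step (step (le0 _) (by rw [hZ']; exact p1))
      (by rw [hW']; exact p2)) (by rw [hU']; exact p3)) (by rw [hE']; exact p4)) (by rw [hS']; exact p5))
  set N5 := N4 ⊔ zpowers S with hN5
  have m5 : S ∈ N5 := mem_sup_right (mem_zpowers _)
  have l45 : N4 ≤ N5 := le_sup_left
  have c5 : ∀ g : Γ, g * Z * g⁻¹ = Z → g * W * g⁻¹ ∈ N2 → g * U * g⁻¹ ∈ N3 → g * E * g⁻¹ ∈ N4 → g * S * g⁻¹ ∈ N5 →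
      ∀ x ∈ N5, g * x * g⁻¹ ∈ N5 :=
    fun g h h' h'' h3 h4 => conj_sup (c4 g h h' h'' h3) h4
  -- step R
  obtain ⟨F6, q1, q2, q3, q4, q5, q6⟩ := f6
  obtain ⟨s6, k6⟩ := split_step Nat.prime_two s5 (r := R) (c5 R (by rw [hRi, hRZ]) (by
      rw [hRi, hRW]; exact m2) (by rw [hRi, hRU]; exact mul_mem m3 (l23 (mul_mem m2 (l12 m1)))) (by
      rw [hRi, hRE]; exact mul_mem m4 (l34 (l23 m2))) (by rw [hRi, hRS]; exact m5))
    (by rw [pow_two, hRR]; exact one_mem _) (ne_of_sep (F := F6) (step (step (step (step (step (le0 _)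
      (by rw [hZ']; exact q1)) (by rw [hW']; exact q2)) (by rw [hU']; exact q3)) (by rw [hE']; exact q4))
      (by rw [hS']; exact q5)) (by rw [hR']; exact q6))
  set N6 := N5 ⊔ zpowers R with hN6
  have m6 : R ∈ N6 := mem_sup_right (mem_zpowers _)
  have l56 : N5 ≤ N6 := le_sup_left
  have c6 : ∀ g : Γ, g * Z * g⁻¹ = Z → g * W * g⁻¹ ∈ N2 → g * U * g⁻¹ ∈ N3 → g * E * g⁻¹ ∈ N4 → g * S * g⁻¹ ∈ N6 →
      g * R * g⁻¹ ∈ N6 → ∀ x ∈ N6, g * x * g⁻¹ ∈ N6 := by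
    intro g h h' h'' h3 h4 h5
    have hle : N6 ≤ N6.comap (MulAut.conj g).toMonoidHom := by
      rw [hN6, sup_le_iff, zpowers_le, ← hN6]
      refine ⟨?_, mem_comap.2 h5⟩
      rw [hN5, sup_le_iff, zpowers_le]
      refine ⟨fun x hx => mem_comap.2 (l56 (l45 (c4 g h h' h'' h3 x hx))), mem_comap.2 h4⟩
    exact fun x hx => hle hx
  -- step T
  obtain ⟨F7, r1, r2, r3, r4, r5, r6, r7⟩ := f7
  obtain ⟨s7, k7⟩ := split_step Nat.prime_two s6 (r := T) (c6 T (by rw [hTi, hTZ]) (by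
      rw [hTi, hTW]; exact mul_mem m2 (l12 m1)) (by rw [hTi, hTU]; exact m3) (by
      rw [hTi, hTE]; exact mul_mem m4 (l34 m3)) (by rw [hTi, hTS]; exact m6) (by rw [hTi, hTR]; exact l56 m5))
    (by rw [pow_two, hT]; exact one_mem _) (ne_of_sep (F := F7) (step (step (step (step (step (step (le0 _)
      (by rw [hZ']; exact r1)) (by rw [hW']; exact r2)) (by rw [hU']; exact r3)) (by rw [hE']; exact r4))
      (by rw [hS']; exact r5)) (by rw [hR']; exact r6)) (by rw [hT']; exact r7))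
  refine ⟨_, s7, ?_⟩
  have h1 : (1 : ℕ) * 2 ∣ Nat.card N1 := by simpa using k1
  have h2 := dvd_trans (Nat.mul_dvd_mul_right h1 2) k2
  have h3 := dvd_trans (Nat.mul_dvd_mul_right h2 2) k3
  have h4 := dvd_trans (Nat.mul_dvd_mul_right h3 2) k4
  have h5 := dvd_trans (Nat.mul_dvd_mul_right h4 2) k5
  have h6 := dvd_trans (Nat.mul_dvd_mul_right h5 2) k6
  have h7 := dvd_trans (Nat.mul_dvd_mul_right h6 2) k7
  exact h7

/-- complements of an abelian kernel of 2-power order -/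
theorem exists_compl [Finite Γ] (hs : Function.Surjective σ) (hK : ∀ x y : Γ, σ x = 1 → σ y = 1 → x * y = y * x)
    {m : ℕ} (hcK : Nat.card σ.ker = 2 ^ m) {C : Subgroup Γ} (hC : Split σ C)
    (h128 : 128 ∣ Nat.card C) (hG : ¬ 256 ∣ Nat.card G) :
    ∃ H : Subgroup Γ, Subgroup.IsComplement' σ.ker H := by
  have hcard : Nat.card (C.map σ) = Nat.card C := by
    refine Nat.card_congr (Equiv.ofBijective (fun x : C => (⟨σ x.1, mem_map_of_mem σ x.2⟩ : C.map σ)) ⟨?_, ?_⟩).symm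
    · intro x y hxy
      have h2 : σ x.1 = σ y.1 := congrArg Subtype.val hxy
      have h3 := hC (y.1⁻¹ * x.1) (C.mul_mem (C.inv_mem y.2) x.2) (by rw [map_mul, map_inv, h2, inv_mul_cancel])
      exact Subtype.ext (inv_mul_eq_one.mp h3).symm
    · rintro ⟨_, x, hx, rfl⟩
      exact ⟨⟨x, hx⟩, rfl⟩
  set U : Subgroup Γ := (C.map σ).comap σ with hU
  have hidx : U.index = (C.map σ).index := index_comap_of_surjective _ hs
  have hodd : ¬ 2 ∣ U.index := by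
    intro h
    apply hG
    rw [hidx] at h
    rw [← (C.map σ).card_mul_index, hcard]
    exact Nat.mul_dvd_mul h128 h
  have hcomm : IsMulCommutative σ.ker := ⟨⟨fun a b => Subtype.ext (hK _ _ a.2 b.2)⟩⟩
  have hcop : (Nat.card σ.ker).Coprime U.index := by
    rw [hcK]
    exact Nat.Coprime.pow_left m ((Nat.Prime.coprime_iff_not_dvd Nat.prime_two).2 hodd)
  have hAU : C ≤ U := le_comap_map σ C
  have hAK : C ⊓ σ.ker = ⊥ := by
    rw [eq_bot_iff]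
    rintro x ⟨hx1, hx2⟩
    exact mem_bot.2 (hC x hx1 hx2)
  have hKA : σ.ker ⊔ C = U := by
    rw [hU, comap_map_eq, sup_comm]
  exact H2.Gaschutz.exists_complement σ.ker U hcop C hAU hAK hKA

namespace MExt

variable {Γ : Type u} [Group Γ] {G : Type v} [Group G] (D : MExt Γ G)

theorem kerK : ∀ x y : Γ, D.π x = 1 → D.π y = 1 → x * y = y * x := by
  intro x y hx hy
  obtain ⟨a, rfl⟩ := (D.ker x).1 hx
  obtain ⟨b, rfl⟩ := (D.ker y).1 hy
  exact D.t_comm a b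

theorem card_ker : Nat.card D.π.ker = 2 ^ 10 := by
  have : Nat.card D.π.ker = Nat.card Vc := by
    refine (Nat.card_congr (Equiv.ofBijective (fun x : Vc => (⟨D.t x, D.π_t x⟩ : D.π.ker)) ⟨?_, ?_⟩)).symm
    · intro x y hxy
      exact D.t_inj (congrArg Subtype.val hxy)
    · rintro ⟨v, hv⟩
      obtain ⟨x, hx⟩ := (D.ker v).1 hv
      exact ⟨x, Subtype.ext hx⟩
  rw [this]
  show Nat.card (Fin 10 → ZMod 2) = _
  rw [Nat.card_pi]
  simp

/-- the extension splits -/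
theorem split [Finite Γ] (f1 : D.a2 ≠ 1) (f2 : ∃ F : Subgroup G, D.a2 ∈ F ∧ D.a4 ∉ F)
    (f3 : ∃ F : Subgroup G, D.a2 ∈ F ∧ D.a4 ∈ F ∧ D.a3 ∉ F)
    (f4 : ∃ F : Subgroup G, D.a2 ∈ F ∧ D.a4 ∈ F ∧ D.a3 ∈ F ∧ D.a1 * D.a4 ∉ F)
    (f5 : ∃ F : Subgroup G, D.a2 ∈ F ∧ D.a4 ∈ F ∧ D.a3 ∈ F ∧ D.a1 * D.a4 ∈ F ∧ D.s ∉ F)
    (f6 : ∃ F : Subgroup G, D.a2 ∈ F ∧ D.a4 ∈ F ∧ D.a3 ∈ F ∧ D.a1 * D.a4 ∈ F ∧ D.s ∈ F ∧ D.s' * D.s * D.s' ∉ F)
    (f7 : ∃ F : Subgroup G, D.a2 ∈ F ∧ D.a4 ∈ F ∧ D.a3 ∈ F ∧ D.a1 * D.a4 ∈ F ∧ D.s ∈ F ∧ D.s' * D.s * D.s' ∈ F ∧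
      D.s' ∉ F) (hG : ¬ 256 ∣ Nat.card G) :
    ∃ H : Subgroup Γ, Subgroup.IsComplement' D.π.ker H := by
  obtain ⟨E, U, W, Z, S, T, h, hS, hT, h4⟩ := D.exNice
  have cj : ∀ {g x y : Γ}, g * g = 1 → g * x = y * g → g * x * g = y := by
    intro g x y hg h
    rw [h, mul_assoc, hg, mul_one]
  have e0 : D.t (0 + SS 0) = 1 := by
    have : (0 : Vc) + SS 0 = 0 := by
      rw [zero_add]
      have h1 := SS_add 0 0
      rw [add_zero] at h1
      exact left_eq_add.1 h1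
    rw [this, D.t_zero]
  obtain ⟨C, hC, h128⟩ := chain (σ := D.π) h.iE h.iU h.iW h.iZ hS hT h.cEU.symm h.cEW.symm h.cEZ.symm h.cUW.symm
    h.cUZ.symm h.cWZ.symm (cj hT (by rw [h.TE]; group)) (cj hT (by rw [h.TU])) (cj hT (by rw [h.TW]; group))
    (cj hT (by rw [h.TZ])) (cj hS (by rw [h.SU]; group)) (cj hS (by rw [h.SW]))
    (cj hS (by rw [h.SE, D.t_zero, one_mul]; group)) (cj hS (by rw [h.SZ, e0, one_mul])) h4
    h.pE h.pU h.pW h.pZ h.pS h.pT f1 f2 f3 f4 f5 f6 f7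
  exact exists_compl D.surj D.kerK D.card_ker hC h128 hG

end MExt

end H49.TD
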