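import Mathlib

/-!
# Extraspecial-like 2-groups, elementary lemmas
-/

set_option autoImplicit false
set_option linter.unusedSectionVars false
set_option linter.style.haveILetI false
set_option linter.unusedVariables false

namespace H49.XE

open scoped Pointwise

variable {G : Type*} [Group G]

/-- central product type condition: commutators in `{1, z}`, centre `{1, z}` -/
structure Sp (E : Subgroup G) (z : G) : Prop where
  zm : z ∈ E
  z1 : z ≠ 1
  zz : z * z = 1
  zc : ∀ x ∈ E, z * x = x * z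
  cm : ∀ x ∈ E, ∀ y ∈ E, x * y = y * x ∨ x * y = z * (y * x)
  nd : ∀ x ∈ E, (∀ y ∈ E, x * y = y * x) → x = 1 ∨ x = z

open Classical in
noncomputable def sg (x y : G) : ℤ := if x * y = y * x then 1 else -1

theorem sg_of_comm {x y : G} (h : x * y = y * x) : sg x y = 1 := by
  unfold sg; rw [if_pos h]

theorem sg_of_z {x y z : G} (hz : z ≠ 1) (h : x * y = z * (y * x)) : sg x y = -1 := by
  unfold sg
  rw [if_neg]
  intro h'
  rw [h'] at h
  exact hz (mul_eq_right.1 h.symm)

theorem sg_comm (x y : G) : sg x y = sg y x := by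
  unfold sg
  by_cases h : x * y = y * x
  · rw [if_pos h, if_pos h.symm]
  · rw [if_neg h, if_neg (fun h' => h h'.symm)]

variable {E F : Subgroup G} {z : G}

theorem Sp.sg_mul (h : Sp E z) {a x y : G} (ha : a ∈ E) (hx : x ∈ E) (hy : y ∈ E) :
    sg a (x * y) = sg a x * sg a y := by
  have key : ∀ {s t : G}, a * x = s * (x * a) → a * y = t * (y * a) → (t = 1 ∨ t = z) →
      a * (x * y) = (s * t) * (x * y * a) := by
    intro s t h1 h2 h3
    have h4 : x * t = t * x := by
      rcases h3 with rfl | rfl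
      · simp
      · exact (h.zc x hx).symm
    calc a * (x * y) = (a * x) * y := by group
      _ = s * x * (a * y) := by rw [h1]; group
      _ = s * (x * t) * (y * a) := by rw [h2]; group
      _ = _ := by rw [h4]; group
  rcases h.cm a ha x hx with h1 | h1 <;> rcases h.cm a ha y hy with h2 | h2
  · rw [sg_of_comm h1, sg_of_comm h2, sg_of_comm]; · simp
    have := key (s := 1) (t := 1) (by rw [h1, one_mul]) (by rw [h2, one_mul]) (Or.inl rfl)
    rw [this]; group
  · rw [sg_of_comm h1, sg_of_z h.z1 h2, sg_of_z h.z1]; · simp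
    have := key (s := 1) (t := z) (by rw [h1, one_mul]) h2 (Or.inr rfl)
    rw [this]; group
  · rw [sg_of_comm h2, sg_of_z h.z1 h1, sg_of_z h.z1]; · simp
    have := key (s := z) (t := 1) h1 (by rw [h2, one_mul]) (Or.inl rfl)
    rw [this]; group
  · rw [sg_of_z h.z1 h1, sg_of_z h.z1 h2, sg_of_comm]; · simp
    have := key (s := z) (t := z) h1 h2 (Or.inr rfl)
    rw [this, h.zz, one_mul]

theorem Sp.sg_mul' (h : Sp E z) {a x y : G} (ha : a ∈ E) (hx : x ∈ E) (hy : y ∈ E) :
    sg (x * y) a = sg x a * sg y a := by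
  rw [sg_comm, h.sg_mul ha hx hy, sg_comm a x, sg_comm a y]

/-- the sum over a subgroup vanishes unless the element centralises it -/
theorem Sp.sum_zero (h : Sp E z) (hF : F ≤ E) [Fintype F] {a : G} (ha : a ∈ E)
    (hn : ¬ ∀ y ∈ F, a * y = y * a) : ∑ y : F, sg a (y : G) = 0 := by
  push Not at hn
  obtain ⟨y0, hy0, hn⟩ := hn
  have h1 : sg a y0 = -1 := by unfold sg; rw [if_neg hn]
  have h2 : ∑ y : F, sg a (y : G) = ∑ y : F, sg a (((⟨y0, hy0⟩ : F) * y : F) : G) :=
    (Equiv.sum_comp (Equiv.mulLeft (⟨y0, hy0⟩ : F)) (fun y : F => sg a (y : G))).symm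
  have h3 : ∑ y : F, sg a (((⟨y0, hy0⟩ : F) * y : F) : G) = ∑ y : F, -sg a (y : G) := by
    refine Finset.sum_congr rfl fun y _ => ?_
    rw [Subgroup.coe_mul, h.sg_mul ha (hF hy0) (hF y.2)]
    show sg a y0 * sg a y = _
    rw [h1]; ring
  rw [Finset.sum_neg_distrib] at h3
  linarith

/-- orthogonal decomposition -/
theorem Sp.decomp [Finite G] (h : Sp E z) (hF : F ≤ E) (hz : z ∈ F)
    (hnd : ∀ x ∈ F, (∀ y ∈ F, x * y = y * x) → x = 1 ∨ x = z) {e : G} (he : e ∈ E) :
    ∃ f ∈ F, ∀ y ∈ F, (e * f) * y = y * (e * f) := by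
  classical
  letI := Fintype.ofFinite F
  by_contra hcon
  push Not at hcon
  have h1 : ∑ f : F, ∑ y : F, sg (e * f) (y : G) = 0 := by
    refine Finset.sum_eq_zero fun f _ => ?_
    apply h.sum_zero hF (E.mul_mem he (hF f.2))
    push Not
    exact hcon f f.2
  have h2 : ∑ f : F, ∑ y : F, sg (e * f) (y : G) = ∑ y : F, sg e (y : G) * ∑ f : F, sg (y : G) (f : G) := by
    rw [Finset.sum_comm]
    refine Finset.sum_congr rfl fun y _ => ?_
    rw [Finset.mul_sum]
    refine Finset.sum_congr rfl fun f _ => ?_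
    rw [h.sg_mul' (hF y.2) he (hF f.2), sg_comm (f : G)]
  have h3 : ∀ y : F, sg e (y : G) * ∑ f : F, sg (y : G) (f : G)
      = if y = 1 ∨ y = (⟨z, hz⟩ : F) then (Fintype.card F : ℤ) else 0 := by
    intro y
    split_ifs with hy
    · have hyc : ∀ x ∈ E, (y : G) * x = x * y := by
        rcases hy with rfl | rfl
        · intro x _; simp
        · exact h.zc
      rw [sg_of_comm (hyc e he).symm]
      rw [Finset.sum_congr rfl (fun (f : F) _ => sg_of_comm (hyc f (hF f.2)))]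
      simp
    · rw [h.sum_zero hF (hF y.2), mul_zero]
      intro hc
      rcases hnd y y.2 hc with h4 | h4
      · exact hy (Or.inl (Subtype.ext h4))
      · exact hy (Or.inr (Subtype.ext h4))
  rw [h2, Finset.sum_congr rfl (fun y _ => h3 y), Finset.sum_ite, Finset.sum_const_zero,
    add_zero, Finset.sum_const] at h1
  have h4 : 0 < (Finset.univ.filter (fun y : F => y = 1 ∨ y = (⟨z, hz⟩ : F))).card :=
    Finset.card_pos.2 ⟨1, by simp⟩
  have h5 : 0 < (Fintype.card F : ℤ) := by exact_mod_cast Fintype.card_pos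
  rw [nsmul_eq_mul] at h1
  have h6 : (0 : ℤ) < ((Finset.univ.filter (fun y : F => y = 1 ∨ y = (⟨z, hz⟩ : F))).card : ℤ) := by
    exact_mod_cast h4
  have := mul_pos h6 h5
  omega

/-- the centralizer of `F` in `E` -/
def cz (E F : Subgroup G) : Subgroup G := E ⊓ Subgroup.centralizer (F : Set G)

theorem mem_cz {x : G} : x ∈ cz E F ↔ x ∈ E ∧ ∀ y ∈ F, y * x = x * y := by
  unfold cz
  rw [Subgroup.mem_inf, Subgroup.mem_centralizer_iff]
  rfl

theorem cz_le : cz E F ≤ E := inf_le_left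

/-- `F ≤ E` both of the type then `C_E(F)` too. -/
theorem Sp.cz [Finite G] (h : Sp E z) (h' : Sp F z) (hF : F ≤ E) : Sp (cz E F) z where
  zm := mem_cz.2 ⟨h.zm, fun y hy => (h.zc y (hF hy)).symm⟩
  z1 := h.z1
  zz := h.zz
  zc := fun x hx => h.zc x (mem_cz.1 hx).1
  cm := fun x hx y hy => h.cm x (mem_cz.1 hx).1 y (mem_cz.1 hy).1
  nd := by
    intro x hx hc
    obtain ⟨hx1, hx2⟩ := mem_cz.1 hx
    refine h.nd x hx1 fun e he => ?_
    obtain ⟨f, hf, hfc⟩ := h.decomp hF h'.zm h'.nd he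
    have h1 : x * (e * f) = (e * f) * x :=
      hc _ (mem_cz.2 ⟨E.mul_mem he (hF hf), fun y hy => (hfc y hy).symm⟩)
    have h2 := hx2 f hf
    have h3 : e = (e * f) * f⁻¹ := by group
    have h4 : x * f⁻¹ = f⁻¹ * x := by
      calc x * f⁻¹ = f⁻¹ * (f * x) * f⁻¹ := by group
        _ = f⁻¹ * (x * f) * f⁻¹ := by rw [h2]
        _ = _ := by group
    rw [h3]
    calc x * (e * f * f⁻¹) = (x * (e * f)) * f⁻¹ := by group
      _ = (e * f) * (x * f⁻¹) := by rw [h1]; group
      _ = _ := by rw [h4]; group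

theorem Sp.exists_mul [Finite G] (h : Sp E z) (h' : Sp F z) (hF : F ≤ E) {e : G} (he : e ∈ E) :
    ∃ f ∈ F, ∃ c ∈ H49.XE.cz E F, e = f * c := by
  obtain ⟨f, hf, hfc⟩ := h.decomp hF h'.zm h'.nd he
  refine ⟨f⁻¹, F.inv_mem hf, e * f, mem_cz.2 ⟨E.mul_mem he (hF hf), fun y hy => (hfc y hy).symm⟩, ?_⟩
  rw [← hfc _ (F.inv_mem hf)]
  group

/-- elements of the product of two commuting subgroups -/
theorem sup_dec {A B : Subgroup G} (hc : ∀ a ∈ A, ∀ b ∈ B, a * b = b * a) :
    ∀ x ∈ A ⊔ B, ∃ a ∈ A, ∃ b ∈ B, x = a * b := by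
  intro x hx
  have hN : A ≤ Subgroup.normalizer (B : Set G) := by
    intro a ha
    rw [Subgroup.mem_normalizer_iff]
    intro b
    constructor
    · intro hb
      have h0 : b ∈ B := hb
      show a * b * a⁻¹ ∈ B
      rw [hc a ha b h0, mul_inv_cancel_right]; exact h0
    · intro hb
      have h0 : a * b * a⁻¹ ∈ B := hb
      have h1 := hc a⁻¹ (A.inv_mem ha) _ h0
      have h2 : a⁻¹ * (a * b * a⁻¹) * a = b := by group
      show b ∈ B
      rw [← h2, h1]
      simpa using h0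
  have h3 := Subgroup.coe_mul_of_left_le_normalizer_right A B hN
  have h4 : x ∈ (A : Set G) * (B : Set G) := by
    rw [← h3]; exact hx
  obtain ⟨a, ha, b, hb, rfl⟩ := Set.mem_mul.1 h4
  exact ⟨a, ha, b, hb, rfl⟩

/-- products of two commuting subgroups -/
theorem Sp.sup {A B : Subgroup G} (hA : Sp A z) (hB : Sp B z)
    (hc : ∀ a ∈ A, ∀ b ∈ B, a * b = b * a) : Sp (A ⊔ B) z where
  zm := Subgroup.mem_sup_left hA.zm
  z1 := hA.z1
  zz := hA.zz
  zc := by
    intro x hx
    obtain ⟨a, ha, b, hb, rfl⟩ := sup_dec hc x hx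
    rw [← mul_assoc, hA.zc a ha, mul_assoc, hB.zc b hb, mul_assoc]
  cm := by
    intro x hx y hy
    obtain ⟨a, ha, b, hb, rfl⟩ := sup_dec hc x hx
    obtain ⟨c, hc', d, hd, rfl⟩ := sup_dec hc y hy
    have key : ∀ {s t : G}, a * c = s * (c * a) → b * d = t * (d * b) → (t = 1 ∨ t = z) →
        a * b * (c * d) = (s * t) * (c * d * (a * b)) := by
      intro s t h1 h2 h3
      have h4 : ∀ x ∈ A, x * t = t * x := by
        intro x hx
        rcases h3 with rfl | rfl
        · simp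
        · exact (hA.zc x hx).symm
      calc a * b * (c * d) = a * (b * c) * d := by group
        _ = (a * c) * (b * d) := by rw [← hc c hc' b hb]; group
        _ = s * c * (a * t) * (d * b) := by rw [h1, h2]; group
        _ = s * (c * t) * (a * d) * b := by rw [h4 a ha]; group
        _ = s * t * (c * (d * a) * b) := by rw [h4 c hc', hc a ha d hd]; group
        _ = _ := by group
    rcases hA.cm a ha c hc' with h1 | h1 <;> rcases hB.cm b hb d hd with h2 | h2
    · left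
      have := key (s := 1) (t := 1) (by rw [h1, one_mul]) (by rw [h2, one_mul]) (Or.inl rfl)
      rw [this]; group
    · right
      have := key (s := 1) (t := z) (by rw [h1, one_mul]) h2 (Or.inr rfl)
      rw [this]; group
    · right
      have := key (s := z) (t := 1) h1 (by rw [h2, one_mul]) (Or.inl rfl)
      rw [this]; group
    · left
      have := key (s := z) (t := z) h1 h2 (Or.inr rfl)
      rw [this, hA.zz, one_mul]
  nd := by
    intro x hx h
    obtain ⟨a, ha, b, hb, rfl⟩ := sup_dec hc x hx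
    have h1 : a = 1 ∨ a = z := by
      refine hA.nd a ha fun c hc' => ?_
      have h2 := h c (Subgroup.mem_sup_left hc')
      rw [mul_assoc, ← hc c hc' b hb, ← mul_assoc, ← mul_assoc] at h2
      exact mul_right_cancel h2
    have h1' : b = 1 ∨ b = z := by
      refine hB.nd b hb fun c hc' => ?_
      have h2 := h c (Subgroup.mem_sup_right hc')
      rw [mul_assoc, ← mul_assoc c, ← hc a ha c hc', mul_assoc] at h2
      exact mul_left_cancel h2
    rcases h1 with rfl | rfl <;> rcases h1' with rfl | rfl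
    · left; simp
    · right; simp
    · right; simp
    · left; exact hA.zz

theorem Sp.sq (h : Sp E z) {x : G} (hx : x ∈ E) : x * x = 1 ∨ x * x = z := by
  refine h.nd _ (E.mul_mem hx hx) fun y hy => ?_
  rcases h.cm x hx y hy with h1 | h1
  · rw [mul_assoc, h1, ← mul_assoc, h1, mul_assoc]
  · calc x * x * y = x * (x * y) := by group
      _ = (x * z) * y * x := by rw [h1]; group
      _ = z * (x * y) * x := by rw [← h.zc x hx]; group
      _ = (z * z) * (y * (x * x)) := by rw [h1]; group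
      _ = _ := by rw [h.zz, one_mul]

theorem Sp.pow4 (h : Sp E z) {x : G} (hx : x ∈ E) : x ^ 4 = 1 := by
  have h1 : x ^ 4 = (x * x) * (x * x) := by
    rw [← pow_two, ← pow_two, ← pow_mul]
  rw [h1]
  rcases h.sq hx with h2 | h2
  · rw [h2, one_mul]
  · rw [h2, h.zz]

theorem Sp.pgroup (h : Sp E z) : IsPGroup 2 E := fun x => ⟨2, Subtype.ext (by
  simpa using h.pow4 x.2)⟩

theorem Sp.card_coprime [Finite G] (h : Sp E z) {r : ℕ} (hr : r.Prime) (hr2 : r ≠ 2) :
    ¬ r ∣ Nat.card E := by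
  haveI : Fact (Nat.Prime 2) := ⟨Nat.prime_two⟩
  obtain ⟨n, hn⟩ := IsPGroup.iff_card.1 h.pgroup
  rw [hn]
  intro hd
  exact hr2 ((Nat.prime_dvd_prime_iff_eq hr Nat.prime_two).1 (hr.dvd_of_dvd_pow hd))

/-- fixed points -/
theorem exists_fixed [Finite G] (N : Subgroup G) {r : ℕ} (hr : r.Prime) (S : Set G)
    (hS : ∀ n ∈ N, ∀ s ∈ S, n * s * n⁻¹ ∈ S)
    (hN : ∀ n ∈ N, ∀ s ∈ S, n ^ r * s * (n ^ r)⁻¹ = s) (hcard : ¬ r ∣ Nat.card S) :
    ∃ s ∈ S, ∀ n ∈ N, n * s * n⁻¹ = s := by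
  haveI : Fact r.Prime := ⟨hr⟩
  let act : MulAction N S :=
    { smul := fun n s => ⟨n * s * (n : G)⁻¹, hS n n.2 s s.2⟩
      one_smul := fun s => Subtype.ext (by show ((1 : N) : G) * s * ((1 : N) : G)⁻¹ = s; simp)
      mul_smul := fun a b s => Subtype.ext (by
        show ((a * b : N) : G) * s * ((a * b : N) : G)⁻¹ = a * (b * s * (b : G)⁻¹) * (a : G)⁻¹
        rw [Subgroup.coe_mul]; group) }
  have hsm : ∀ (n : N) (s : S), ((n • s : S) : G) = n * s * (n : G)⁻¹ := fun n s => rfl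
  let φ : N →* Equiv.Perm S := MulAction.toPermHom N S
  have hφ : ∀ (n : N) (s : S), φ n s = n • s := fun n s => rfl
  have hP : IsPGroup r φ.range := by
    rintro ⟨_, ⟨n, rfl⟩⟩
    refine ⟨1, Subtype.ext ?_⟩
    show φ n ^ (r ^ 1) = 1
    rw [pow_one, ← map_pow]
    ext s
    rw [hφ, hsm]
    simpa using hN n n.2 s s.2
  have hcard' : ¬ r ∣ Nat.card S := hcard
  obtain ⟨s, hs⟩ := hP.nonempty_fixed_point_of_prime_not_dvd_card S hcard'
  refine ⟨s, s.2, fun n hn => ?_⟩
  have h1 := hs ⟨φ ⟨n, hn⟩, ⟨⟨n, hn⟩, rfl⟩⟩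
  have h2 : ((⟨φ ⟨n, hn⟩, ⟨⟨n, hn⟩, rfl⟩⟩ : φ.range) • s : S) = (⟨n, hn⟩ : N) • s := rfl
  rw [h2] at h1
  exact congrArg Subtype.val h1

/-- fixed points in the set `{x ∈ A : x y = z y x}` -/
theorem Sp.exists_fix [Finite G] {A N : Subgroup G} (h : Sp E z) (hA : A ≤ E) {r : ℕ}
    (hr : r.Prime) (hr2 : r ≠ 2) (hN : ∀ n ∈ N, ∀ a ∈ A, n * a * n⁻¹ ∈ A)
    (hNr : ∀ n ∈ N, ∀ a ∈ A, n ^ r * a * (n ^ r)⁻¹ = a)
    (hNz : ∀ n ∈ N, n * z = z * n) {y : G} (hy : y ∈ E) (hNy : ∀ n ∈ N, n * y = y * n)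
    {x0 : G} (hx0 : x0 ∈ A) (hx0y : x0 * y ≠ y * x0) :
    ∃ x ∈ A, (∀ n ∈ N, n * x * n⁻¹ = x) ∧ x * y ≠ y * x := by
  let S : Set G := {x | x ∈ A ∧ x * y ≠ y * x}
  let C : Subgroup G := A ⊓ Subgroup.centralizer {y}
  have hC : ∀ x, x ∈ C ↔ x ∈ A ∧ x * y = y * x := by
    intro x
    rw [Subgroup.mem_inf, Subgroup.mem_centralizer_singleton_iff]
  have hz : ∀ x ∈ A, x * y ≠ y * x → x * y = z * (y * x) := fun x hx hne =>
    (h.cm x (hA hx) y hy).resolve_left hne
  have hcard : Nat.card S = Nat.card C := by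
    refine Nat.card_congr
      { toFun := fun s => ⟨x0⁻¹ * s, (hC _).2 ⟨A.mul_mem (A.inv_mem hx0) s.2.1, ?_⟩⟩
        invFun := fun c => ⟨x0 * c, A.mul_mem hx0 ((hC _).1 c.2).1, ?_⟩
        left_inv := fun s => by simp
        right_inv := fun c => by simp }
    · have h1 := hz _ s.2.1 s.2.2
      have h2 := hz _ hx0 hx0y
      have h3 : x0⁻¹ * y = z * (y * x0⁻¹) := by
        have h4 : y * x0 = z * (x0 * y) := by rw [h2, ← mul_assoc, h.zz, one_mul]
        calc x0⁻¹ * y = x0⁻¹ * (y * x0) * x0⁻¹ := by group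
          _ = (x0⁻¹ * z) * x0 * (y * x0⁻¹) := by rw [h4]; group
          _ = _ := by rw [← h.zc x0⁻¹ (hA (A.inv_mem hx0))]; group
      calc x0⁻¹ * s * y = x0⁻¹ * (s * y) := by group
        _ = (x0⁻¹ * z) * y * s := by rw [h1]; group
        _ = z * (x0⁻¹ * y) * s := by rw [← h.zc x0⁻¹ (hA (A.inv_mem hx0))]; group
        _ = (z * z) * (y * (x0⁻¹ * s)) := by rw [h3]; group
        _ = _ := by rw [h.zz, one_mul]
    · have h1 := ((hC _).1 c.2).2
      intro h2
      apply hx0y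
      have h3 : x0 * c * y = x0 * y * c := by rw [mul_assoc, h1]; group
      rw [h3, ← mul_assoc] at h2
      exact mul_right_cancel h2
  have hcop : ¬ r ∣ Nat.card S := by
    rw [hcard]
    intro hd
    exact h.card_coprime hr hr2 (hd.trans (Subgroup.card_dvd_of_le (inf_le_left.trans hA)))
  obtain ⟨s, hs, hf⟩ := exists_fixed N hr S (by
    rintro n hn s ⟨hs1, hs2⟩
    refine ⟨hN n hn s hs1, fun h2 => hs2 ?_⟩
    have h3 : n⁻¹ * y = y * n⁻¹ := by
      have := hNy n⁻¹ (N.inv_mem hn); exact this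
    have h4 : n * (s * y) * n⁻¹ = n * (y * s) * n⁻¹ := by
      calc n * (s * y) * n⁻¹ = n * s * (y * n⁻¹) := by group
        _ = (n * s * n⁻¹) * y := by rw [← h3]; group
        _ = y * n * s * n⁻¹ := by rw [h2]; group
        _ = _ := by rw [← hNy n hn]; group
    have h5 := mul_right_cancel h4
    exact mul_left_cancel h5) (fun n hn s hs => hNr n hn s hs.1) hcop
  exact ⟨s, hs.1, hf, hs.2⟩

end H49.XE
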