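import Cfsg.Agent.Lib.H49.XE9

/-!
# The base case, assembly
-/

set_option autoImplicit false
set_option linter.unusedSectionVars false
set_option linter.style.haveILetI false
set_option linter.unusedVariables false
set_option maxHeartbeats 800000

namespace H49.XE

open Cfsg Representation H18.CharBasic H18.CharOrtho
open scoped ComplexConjugate

universe u

variable {G : Type u} [Group G] {E : Subgroup G} {z : G}
  {V : Type} [AddCommGroup V] [Module ℂ V] [FiniteDimensional ℂ V] {ρ : G → Module.End ℂ V}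

/-- the lift on the centraliser of `k` -/
theorem Md.lift0 [Finite G] (m : Md E z ρ) (h : Sp E z) {R₀ : Subgroup G} {k : G}
    (hk : ∀ e ∈ E, k * e * k⁻¹ ∈ E) (hRE : ∀ c ∈ R₀, ∀ e ∈ E, c * e * c⁻¹ ∈ E)
    (hRz : ∀ c ∈ R₀, c * z = z * c)
    (hRk : ∀ c ∈ R₀, ∀ e ∈ E, (c * k * c⁻¹) * e * (c * k * c⁻¹)⁻¹ = k * e * k⁻¹)
    {κ κ' π : Module.End ℂ V} (hit : It E ρ k κ κ') (htr : LinearMap.trace ℂ V κ ≠ 0)
    (hπc : ∀ P : Module.End ℂ V, P * κ = κ * P → P * π = π * P)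
    (hπ : π * π = π) {a : ℕ} (ha : LinearMap.trace ℂ V π = a)
    (hcop : Nat.Coprime a (Module.finrank ℂ V)) :
    ∃ T, Lf E R₀ ρ T ∧ ∀ x ∈ R₀, T x * κ = κ * T x := by
  classical
  obtain ⟨D, hD1, hDm, hDs⟩ := exists_norm hπ ha hcop
  have hex : ∀ x : G, ∃ PQ : Module.End ℂ V × Module.End ℂ V, x ∈ R₀ → It E ρ x PQ.1 PQ.2 := by
    intro x
    by_cases hx : x ∈ R₀
    · obtain ⟨P, Q, hP⟩ := m.exists_it h (hRE x hx) (hRz x hx)
      exact ⟨(P, Q), fun _ => hP⟩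
    · exact ⟨(1, 1), fun h => absurd h hx⟩
  choose PQ hPQ using hex
  let P : G → Module.End ℂ V := fun x => (PQ x).1
  let Q : G → Module.End ℂ V := fun x => (PQ x).2
  have hP : ∀ x ∈ R₀, It E ρ x (P x) (Q x) := fun x hx => hPQ x hx
  have hPκ : ∀ x ∈ R₀, P x * κ = κ * P x := by
    intro x hx
    obtain ⟨c, hc⟩ := m.unique h hit ((hP x hx).conj hit (hRE x hx) hk (hRk x hx))
    have h1 := congrArg (LinearMap.trace ℂ V) hc
    rw [map_smul, mul_assoc, LinearMap.trace_mul_comm, mul_assoc, (hP x hx).qp, mul_one,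
      smul_eq_mul] at h1
    have h2 : c = 1 := by
      have h3 : (c - 1) * LinearMap.trace ℂ V κ = 0 := by linear_combination -h1
      rcases mul_eq_zero.1 h3 with h4 | h4
      · linear_combination h4
      · exact absurd h4 htr
    rw [h2, one_smul] at hc
    calc P x * κ = P x * κ * (Q x * P x) := by rw [(hP x hx).qp, mul_one]
      _ = (P x * κ * Q x) * P x := by simp only [mul_assoc]
      _ = _ := by rw [hc]
  have hPπ : ∀ x ∈ R₀, P x * π = π * P x := fun x hx => hπc _ (hPκ x hx)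
  have hQπ : ∀ x ∈ R₀, Q x * π = π * Q x := by
    intro x hx
    calc Q x * π = Q x * π * (P x * Q x) := by rw [(hP x hx).pq, mul_one]
      _ = Q x * (π * P x) * Q x := by rw [mul_assoc, mul_assoc, mul_assoc]
      _ = (Q x * P x) * π * Q x := by rw [← hPπ x hx, ← mul_assoc (Q x)]
      _ = _ := by rw [(hP x hx).qp, one_mul]
  have hD0 : ∀ x ∈ R₀, D (P x) ≠ 0 := by
    intro x hx h0
    have h1 := hDm (P x) (Q x) (hPπ x hx) (hQπ x hx)
    rw [(hP x hx).pq, hD1, h0, zero_mul] at h1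
    exact one_ne_zero h1
  refine ⟨fun x => (D (P x))⁻¹ • P x, ⟨?_, ?_, ?_⟩, ?_⟩
  · have hit1 : It E ρ (1 : G) (1 : Module.End ℂ V) 1 :=
      ⟨one_mul _, one_mul _, fun e he => by simp⟩
    obtain ⟨c, hc0, hc⟩ := m.unique' h hit1 (hP 1 R₀.one_mem).it (hP 1 R₀.one_mem).pq
    show (D (P 1))⁻¹ • P 1 = 1
    rw [hc, hDs c 1 hc0 (by rw [one_mul, mul_one]), hD1, mul_one, smul_smul,
      inv_mul_cancel₀ hc0, one_smul]
  · intro x hx y hy
    have h1 := (hP x hx).mul (hP y hy) (hRE y hy)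
    obtain ⟨c, hc0, hc⟩ := m.unique' h (hP _ (R₀.mul_mem hx hy)) h1.it h1.pq
    show (D (P (x * y)))⁻¹ • P (x * y) = ((D (P x))⁻¹ • P x) * ((D (P y))⁻¹ • P y)
    have h2 := hDm (P x) (P y) (hPπ x hx) (hPπ y hy)
    rw [hc, hDs c _ hc0 (hPπ _ (R₀.mul_mem hx hy))] at h2
    rw [smul_mul_smul_comm, hc, smul_smul]
    congr 1
    have h3 := hD0 _ (R₀.mul_mem hx hy)
    rw [← _root_.mul_inv, ← h2]
    field_simp
  · intro x hx e he
    show ((D (P x))⁻¹ • P x) * ρ e = ρ (x * e * x⁻¹) * ((D (P x))⁻¹ • P x)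
    rw [smul_mul_assoc, (hP x hx).it e he, mul_smul_comm]
  · intro x hx
    show ((D (P x))⁻¹ • P x) * κ = κ * ((D (P x))⁻¹ • P x)
    rw [smul_mul_assoc, hPκ x hx, mul_smul_comm]

/-- the canonical lift on the centraliser of `k` -/
theorem Md.lift1 [Finite G] (m : Md E z ρ) (h : Sp E z) (hE : ∃ e ∈ E, e ≠ 1 ∧ e ≠ z)
    {R₀ : Subgroup G} {k : G} {r : ℕ} [hr : Fact r.Prime] (hr2 : r ≠ 2)
    (hk : ∀ e ∈ E, k * e * k⁻¹ ∈ E) (hkz : k * z = z * k)
    (hkr : ∀ e ∈ E, k ^ r * e * (k ^ r)⁻¹ = e)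
    (hCk : ∀ e ∈ E, k * e = e * k → e = 1 ∨ e = z) (hR : IsPGroup 2 R₀)
    (hRE : ∀ c ∈ R₀, ∀ e ∈ E, c * e * c⁻¹ ∈ E)
    (hRz : ∀ c ∈ R₀, c * z = z * c)
    (hRk : ∀ c ∈ R₀, ∀ e ∈ E, (c * k * c⁻¹) * e * (c * k * c⁻¹)⁻¹ = k * e * k⁻¹) :
    ∃ (κ κ' : Module.End ℂ V) (T : G → Module.End ℂ V) (u : ZMod r → ℂ), It E ρ k κ κ' ∧
      κ ^ r = 1 ∧ Lf E R₀ ρ T ∧ (∀ x ∈ R₀, T x * κ = κ * T x) ∧ (∀ i, i ≠ 0 → u i ≠ 0) ∧
      ∀ x ∈ R₀, ∀ i, i ≠ 0 → LinearMap.trace ℂ V (T x * kp κ i) = u i := by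
  classical
  have hrp := hr.out
  obtain ⟨κ, κ', hit, hκ⟩ := m.exists_kappa h hk hkz hrp.pos hkr
  -- traces of powers of κ
  have hit1 : It E ρ (1 : G) (1 : Module.End ℂ V) 1 :=
    ⟨one_mul _, one_mul _, fun e he => by simp⟩
  have h0 : ∀ i : ZMod r, i ≠ 0 → LinearMap.trace ℂ V (1 * kp κ i) *
      LinearMap.trace ℂ V (kp κ (-i) * 1) = 1 := fun i hi =>
    m.tf h hrp hr2 hk (x := 1) (by simp) hkz (by simp) (t := 0) (by simp) (by simp) hkr hCk hκ
      hit hit1 hi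
  have hone : (1 : ZMod r) ≠ 0 := one_ne_zero
  have hkp1 : kp κ (1 : ZMod r) = κ := by
    have := kp_nat (r := r) hκ 1
    rw [Nat.cast_one, pow_one] at this
    exact this
  have htr : LinearMap.trace ℂ V κ ≠ 0 := by
    intro hz
    have := h0 1 hone
    rw [hkp1, one_mul, hz, zero_mul] at this
    exact zero_ne_one this
  -- multiplicities
  let τ₁ : Representation ℂ PUnit.{1} V := 1
  have hτ₁ : ∀ x, (τ₁ x : Module.End ℂ V) = 1 := fun x => rfl
  have ha : ∀ j : ZMod r, ∃ n : ℕ, LinearMap.trace ℂ V (1 * pj κ j) = n := by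
    intro j
    obtain ⟨n, hn⟩ := exists_degree (char_proj τ₁ (pj_idem hκ j) (fun x => by
      rw [hτ₁, one_mul, mul_one]))
    exact ⟨n, hn⟩
  choose a ha using ha
  let f₁ : ZMod r → ℂ := fun i => LinearMap.trace ℂ V (1 * kp κ i)
  have hf₁ : ∀ i, i ≠ 0 → f₁ i * conj (f₁ i) = 1 := by
    intro i hi
    have h1 := conj_trace τ₁ hκ (fun x => by rw [hτ₁, one_mul, mul_one]) 1 i
    rw [← h0 i hi]
    congr 1
    exact h1.symm
  have hfa : ∀ j, ft f₁ j = a j := by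
    intro j
    rw [← ha j, trace_pj]
  have hcount : ∀ s : ZMod r, s ≠ 0 → ∑ j : ZMod r, ((a j : ℤ) - a (j + s)) ^ 2 = 2 := by
    intro s hs
    have h1 := ft_count f₁ hf₁ hs
    have h2 : ((∑ j : ZMod r, ((a j : ℤ) - a (j + s)) ^ 2 : ℤ) : ℂ) = 2 := by
      rw [← h1]
      push_cast
      refine Finset.sum_congr rfl fun j _ => ?_
      rw [hfa, hfa, map_sub, Complex.conj_natCast, Complex.conj_natCast]
      ring
    exact_mod_cast h2
  obtain ⟨t, ht⟩ := m.even_fr h hE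
  have hsuma : ∑ j : ZMod r, a j = Module.finrank ℂ V := by
    have h1 := ft_inv f₁ 0
    have h2 : f₁ 0 = Module.finrank ℂ V := by
      show LinearMap.trace ℂ V (1 * kp κ 0) = _
      rw [kp_zero, one_mul, LinearMap.trace_one]
    rw [h2] at h1
    have h3 : ((Module.finrank ℂ V : ℕ) : ℂ) = ((∑ j : ZMod r, a j : ℕ) : ℂ) := by
      rw [h1]
      push_cast
      refine Finset.sum_congr rfl fun j _ => ?_
      rw [zero_mul, AddChar.map_zero_eq_one, one_mul, hfa]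
    exact_mod_cast h3.symm
  obtain ⟨j₀, hj₀, hodd⟩ := parity_count a hcount (by
    rw [hsuma, ht, pow_succ]; exact even_two.mul_left _)
  set l : ZMod r := j₀ + 1 with hl
  have hlj : l ≠ j₀ := by rw [hl]; simp
  have hal : Nat.Coprime (a l) (Module.finrank ℂ V) := by
    rw [ht]
    exact Nat.Coprime.pow_right _ ((Nat.coprime_two_right).2 (hodd l hlj))
  obtain ⟨T, hT, hTκ⟩ := m.lift0 h hk hRE hRz hRk hit htr (π := pj κ l)
    (fun P hP => pj_comm hP l) (pj_idem hκ l) (a := a l) (by rw [← ha l, one_mul]) hal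
  -- the characters
  haveI := Fintype.ofFinite R₀
  let τ : Representation ℂ R₀ V :=
    { toFun := fun x => T x
      map_one' := hT.one
      map_mul' := fun x y => hT.mul x x.2 y y.2 }
  have hτ : ∀ x : R₀, (τ x : Module.End ℂ V) = T x := fun x => rfl
  have hτκ : ∀ x : R₀, (τ x : Module.End ℂ V) * κ = κ * τ x := fun x => hTκ x x.2
  let f : R₀ → ZMod r → ℂ := fun x i => LinearMap.trace ℂ V ((τ x : Module.End ℂ V) * kp κ i)
  have hf : ∀ x, ∀ i, i ≠ 0 → f x i * conj (f x i) = 1 := by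
    intro x i hi
    have h1 := conj_trace τ hκ hτκ x i
    obtain ⟨t', ht'⟩ := hR x
    have h2 := m.tf h hrp hr2 hk (x := (x : G)) (hRE x x.2) hkz (hRz x x.2) (t := t')
      (by simpa using congrArg Subtype.val ht') (hRk x x.2) hkr hCk hκ hit (hT.it x.2) hi
    rw [← h2]
    congr 1
    exact h1.symm
  let ω : ZMod r → R₀ → ℂ := fun j x => LinearMap.trace ℂ V ((τ x : Module.End ℂ V) * pj κ j)
  have hω : ∀ j, IsCharacter R₀ (ω j) := fun j => char_proj τ (pj_idem hκ j) (fun x =>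
    pj_comm (hτκ x) j)
  have hωf : ∀ j x, ω j x = ft (f x) j := fun j x => trace_pj _ _
  have hω1 : ∀ j, ω j 1 = a j := by
    intro j
    rw [← ha j]
    show LinearMap.trace ℂ V (T 1 * pj κ j) = _
    rw [hT.one]
  obtain ⟨heq, hnorm⟩ := family_eq ω hω (fun s hs x => by
    rw [← ft_count (f x) (hf x) hs]
    refine Finset.sum_congr rfl fun j _ => ?_
    rw [hωf, hωf]) (j₀ := j₀) (fun j hj hja => by
      rw [hω1, hω1] at hja
      have h1 : a j = a j₀ := by exact_mod_cast hja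
      have h2 := hodd j hj
      rw [h1] at h2
      exact (Nat.not_even_iff_odd.2 h2) hj₀)
  set η : R₀ → ℂ := ω j₀ - ω l with hη
  have hfη : ∀ x, ∀ i, i ≠ 0 → f x i = ZMod.stdAddChar (i * j₀) * η x := by
    intro x i hi
    rw [ft_inv (f x) i]
    have h1 : ∀ j : ZMod r, (ZMod.stdAddChar (i * j) : ℂ) * ft (f x) j =
        (if j = j₀ then ZMod.stdAddChar (i * j₀) * η x else 0) +
          ZMod.stdAddChar (j * i) * ω l x := by
      intro j
      rw [← hωf]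
      split_ifs with hj
      · rw [hj, hη, Pi.sub_apply, mul_comm j₀ i]; ring
      · rw [heq j l hj hlj, mul_comm j i, zero_add]
    rw [Finset.sum_congr rfl (fun j _ => h1 j), Finset.sum_add_distrib, ← Finset.sum_mul,
      sum_std, if_neg hi, zero_mul, add_zero, Finset.sum_ite_eq' Finset.univ j₀]
    simp
  have hgenη : IsGeneralizedCharacter R₀ η :=
    isGen_sub (isGen_of_isCharacter (hω j₀)) (isGen_of_isCharacter (hω l))
  obtain ⟨ε, lam, hε, hlam, hηl⟩ : ∃ (ε : ℂ) (lam : R₀ → ℂ), ε * ε = 1 ∧ IsIrrCharacter R₀ lam ∧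
      ∀ x, η x = ε * lam x := by
    rcases gen_norm_one hgenη (hnorm l hlj) with h1 | h1
    · exact ⟨1, η, by ring, h1, fun x => by ring⟩
    · exact ⟨-1, -η, by ring, h1, fun x => by simp⟩
  have hstd : ∀ i : ZMod r, (ZMod.stdAddChar i : ℂ) * conj (ZMod.stdAddChar i : ℂ) = 1 := by
    intro i
    rw [← AddChar.map_neg_eq_conj, ← AddChar.map_add_eq_mul, add_neg_cancel,
      AddChar.map_zero_eq_one]
  have hlam1 : lam 1 = 1 := by
    obtain ⟨n, hn0, hn⟩ := exists_degree_pos hlam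
    have h1 := hf 1 1 hone
    have hε' : conj ε = ε := by
      have h2 : (ε - 1) * (ε + 1) = 0 := by linear_combination hε
      rcases mul_eq_zero.1 h2 with h3 | h3
      · have : ε = 1 := by linear_combination h3
        rw [this]; simp
      · have : ε = -1 := by linear_combination h3
        rw [this]; simp
    rw [hfη 1 1 hone, hηl, (starRingEnd ℂ).map_mul, (starRingEnd ℂ).map_mul, hε', hn,
      Complex.conj_natCast] at h1
    have h2 := hstd (1 * j₀)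
    have h3 : (n : ℂ) * n = 1 := by
      linear_combination h1 - (ε * n * (ε * n)) * h2 - n * n * hε
    have h4 : n * n = 1 := by exact_mod_cast h3
    have h5 : n = 1 := Nat.eq_one_of_mul_eq_one_right h4
    rw [hn, h5, Nat.cast_one]
  obtain ⟨φ, hφ⟩ := H18.CharQuot.exists_hom_of_degree_one (isCharacter_of_isIrr hlam) hlam1
  have hφ' : ∀ x, lam x = (φ x : ℂ) := fun x => congrFun hφ x
  let lm : G → ℂ := fun x => if hx : x ∈ R₀ then ((φ ⟨x, hx⟩)⁻¹ : ℂˣ) else 1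
  have hlm : ∀ x (hx : x ∈ R₀), lm x = ((φ ⟨x, hx⟩)⁻¹ : ℂˣ) := fun x hx => dif_pos hx
  refine ⟨κ, κ', fun x => lm x • T x, fun i => ZMod.stdAddChar (i * j₀) * ε, hit, hκ,
    ⟨?_, ?_, ?_⟩, ?_, ?_, ?_⟩
  · show lm 1 • T 1 = 1
    rw [hlm 1 R₀.one_mem, hT.one]
    have : φ ⟨1, R₀.one_mem⟩ = 1 := map_one φ
    rw [this]; simp
  · intro x hx y hy
    show lm (x * y) • T (x * y) = (lm x • T x) * (lm y • T y)
    rw [hlm _ (R₀.mul_mem hx hy), hlm x hx, hlm y hy, hT.mul x hx y hy, smul_mul_smul_comm]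
    have : φ ⟨x * y, R₀.mul_mem hx hy⟩ = φ ⟨x, hx⟩ * φ ⟨y, hy⟩ := by
      rw [← map_mul]; rfl
    rw [this, _root_.mul_inv]
    simp
  · intro x hx e he
    show (lm x • T x) * ρ e = ρ (x * e * x⁻¹) * (lm x • T x)
    rw [smul_mul_assoc, hT.cj x hx e he, mul_smul_comm]
  · intro x hx
    show (lm x • T x) * κ = κ * (lm x • T x)
    rw [smul_mul_assoc, hTκ x hx, mul_smul_comm]
  · intro i hi h1
    have h2 := hstd (i * j₀)
    rcases mul_eq_zero.1 h1 with h3 | h3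
    · rw [h3, zero_mul] at h2
      exact zero_ne_one h2
    · rw [h3, zero_mul] at hε
      exact zero_ne_one hε
  · intro x hx i hi
    show LinearMap.trace ℂ V ((lm x • T x) * kp κ i) = ZMod.stdAddChar (i * j₀) * ε
    rw [smul_mul_assoc, map_smul, smul_eq_mul]
    have h1 : LinearMap.trace ℂ V (T x * kp κ i) = f ⟨x, hx⟩ i := rfl
    rw [h1, hfη _ i hi, hηl, hφ', hlm x hx]
    have h2 : (((φ ⟨x, hx⟩)⁻¹ : ℂˣ) : ℂ) * (φ ⟨x, hx⟩ : ℂ) = 1 := by
      rw [← Units.val_mul, inv_mul_cancel, Units.val_one]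
    linear_combination (ZMod.stdAddChar (i * j₀) * ε) * h2

/-- **the base case** -/
theorem Pr.base [Finite G] (h : Sp E z) (hE : ∃ e ∈ E, e ≠ 1 ∧ e ≠ z)
    {R : Subgroup G} {k : G} {r : ℕ} (hr : r.Prime) (hr2 : r ≠ 2)
    (hk : ∀ e ∈ E, k * e * k⁻¹ ∈ E) (hkz : k * z = z * k)
    (hkr : ∀ e ∈ E, k ^ r * e * (k ^ r)⁻¹ = e)
    (hCk : ∀ e ∈ E, k * e = e * k → e = 1 ∨ e = z) (hR : IsPGroup 2 R)
    (hRE : ∀ c ∈ R, ∀ e ∈ E, c * e * c⁻¹ ∈ E)
    (hRz : ∀ c ∈ R, c * z = z * c)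
    (hRk : ∀ c ∈ R, ∃ i : ℕ, ∀ e ∈ E, (c * k * c⁻¹) * e * (c * k * c⁻¹)⁻¹ = k ^ i * e * (k ^ i)⁻¹) :
    Pr E R z := by
  classical
  haveI : Fact r.Prime := ⟨hr⟩
  obtain ⟨nn, ρ, m⟩ := h.exists_md
  -- the centraliser
  let kN : Subgroup.normalizer (E : Set G) := ⟨k, mem_nrm hk⟩
  let φ : R →* MulAut E :=
    (al E).comp (Subgroup.inclusion (show R ≤ Subgroup.normalizer (E : Set G) from
      fun c hc => mem_nrm (hRE c hc)))
  have hφ : ∀ (c : R), φ c = al E ⟨c, mem_nrm (hRE c c.2)⟩ := fun c => rfl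
  have hconj : ∀ (c : R) (e : E), ((φ c * al E kN * (φ c)⁻¹) e : G) =
      ((c : G) * k * (c : G)⁻¹) * e * ((c : G) * k * (c : G)⁻¹)⁻¹ := by
    intro c e
    rw [hφ, ← map_inv, ← map_mul, ← map_mul]
    rfl
  let R₀ : Subgroup G := (Subgroup.centralizer ({al E kN} : Set (MulAut E))).comap φ |>.map R.subtype
  have hR₀ : ∀ c, c ∈ R₀ ↔ ∃ hc : c ∈ R, φ ⟨c, hc⟩ * al E kN = al E kN * φ ⟨c, hc⟩ := by
    intro c
    constructor
    · rintro ⟨x, hx, rfl⟩
      exact ⟨x.2, (Subgroup.mem_centralizer_singleton_iff.1 hx)⟩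
    · rintro ⟨hc, h1⟩
      exact ⟨⟨c, hc⟩, Subgroup.mem_centralizer_singleton_iff.2 h1, rfl⟩
  have hle : R₀ ≤ R := fun c hc => ((hR₀ c).1 hc).1
  have hR₀k : ∀ c ∈ R₀, ∀ e ∈ E, (c * k * c⁻¹) * e * (c * k * c⁻¹)⁻¹ = k * e * k⁻¹ := by
    intro c hc e he
    obtain ⟨hcR, h1⟩ := (hR₀ c).1 hc
    rw [← hconj ⟨c, hcR⟩ ⟨e, he⟩, h1, mul_inv_cancel_right]
    rfl
  have hR₀p : IsPGroup 2 R₀ := hR.to_le hle
  obtain ⟨κ, κ', T, u, hit, hκ, hT, hTκ, hu, hTu⟩ := m.lift1 h hE hr2 hk hkz hkr hCk hR₀p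
    (fun c hc => hRE c (hle hc)) (fun c hc => hRz c (hle hc)) hR₀k
  -- order of the automorphism
  have ha1 : al E kN ≠ 1 := by
    intro h1
    obtain ⟨e, he, he1, hez⟩ := hE
    have h2 : k * e * k⁻¹ = e := congrArg (fun f : MulAut E => ((f ⟨e, he⟩ : E) : G)) h1
    rcases hCk e he (mul_inv_eq_iff_eq_mul.1 h2) with h3 | h3
    · exact he1 h3
    · exact hez h3
  have har : (al E kN) ^ r = 1 := by
    rw [← map_pow]
    ext e
    exact hkr e e.2
  have hord : orderOf (al E kN) = r := orderOf_eq_prime har ha1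
  have hRk' : ∀ c : R, ∃ i : ℕ, φ c * al E kN * (φ c)⁻¹ = (al E kN) ^ i := by
    intro c
    obtain ⟨i, hi⟩ := hRk c c.2
    refine ⟨i, ?_⟩
    ext e
    rw [hconj, hi e e.2, ← map_pow]
    rfl
  obtain ⟨g, hg⟩ := gen_cyc hord φ hRk'
  have hgE := hRE g g.2
  obtain ⟨P, Q, hP⟩ := m.exists_it h hgE (hRz g g.2)
  obtain ⟨i, hi⟩ := hRk g g.2
  -- `i` is nonzero mod `r`
  have hi0 : (i : ZMod r) ≠ 0 := by
    intro h0
    obtain ⟨j, hj⟩ := (ZMod.natCast_eq_zero_iff _ _).1 h0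
    have h1 : φ g * al E kN * (φ g)⁻¹ = 1 := by
      obtain ⟨i', hi'⟩ := hRk' g
      have h2 : φ g * al E kN * (φ g)⁻¹ = (al E kN) ^ i := by
        ext e
        rw [hconj, hi e e.2, ← map_pow]
        rfl
      rw [h2, hj, pow_mul, har, one_pow]
    apply ha1
    have h3 : al E kN = (φ g)⁻¹ * (φ g * al E kN * (φ g)⁻¹) * φ g := by group
    rw [h3, h1]; group
  have hki : ∀ e ∈ E, k ^ i * e * (k ^ i)⁻¹ ∈ E := (hit.pow hk i).2
  -- conjugate of κ
  obtain ⟨μ, hμ⟩ := m.unique h (hit.pow hk i).1 (hP.conj hit hgE hk hi)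
  have hone : (1 : ZMod r) ≠ 0 := one_ne_zero
  have hkp1 : kp κ (1 : ZMod r) = κ := by
    have := kp_nat (r := r) hκ 1
    rw [Nat.cast_one, pow_one] at this
    exact this
  have hkpi : kp κ (i : ZMod r) = κ ^ i := kp_nat hκ i
  have hgR₀ : ∀ x ∈ R₀, (g : G) * x * (g : G)⁻¹ ∈ R₀ := by
    intro x hx
    obtain ⟨hxR, h1⟩ := (hR₀ x).1 hx
    rw [hR₀]
    refine ⟨R.mul_mem (R.mul_mem g.2 hxR) (R.inv_mem g.2), ?_⟩
    have h2 : (⟨(g : G) * x * (g : G)⁻¹, R.mul_mem (R.mul_mem g.2 hxR) (R.inv_mem g.2)⟩ : R) =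
      g * ⟨x, hxR⟩ * g⁻¹ := rfl
    rw [h2, map_mul, map_mul, map_inv]
    -- `a` is a power of `g a g⁻¹`
    obtain ⟨i', hi'⟩ := hRk' g⁻¹
    rw [map_inv, inv_inv] at hi'
    have h3 : al E kN = (φ g) * (al E kN) ^ i' * (φ g)⁻¹ := by rw [← hi']; group
    have h4 : Commute (φ ⟨x, hxR⟩) ((al E kN) ^ i') := (show Commute _ _ from h1).pow_right i'
    conv_lhs => rw [h3]
    conv_rhs => rw [h3]
    have h5 := h4.eq
    calc φ g * φ ⟨x, hxR⟩ * (φ g)⁻¹ * (φ g * al E kN ^ i' * (φ g)⁻¹)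
        = φ g * (φ ⟨x, hxR⟩ * al E kN ^ i') * (φ g)⁻¹ := by group
      _ = _ := by rw [h5]; group
  have hPT : ∀ x ∈ R₀, P * T x = T ((g : G) * x * (g : G)⁻¹) * P := by
    intro x hx
    have hgx := hgR₀ x hx
    obtain ⟨c, hc⟩ := m.unique h (hT.it hgx) (hP.conj (hT.it hx) hgE (hRE x (hle hx))
      (g := (g : G) * x * (g : G)⁻¹) (fun e he => rfl))
    -- traces
    have h1 : ∀ y ∈ R₀, LinearMap.trace ℂ _ (T y * κ ^ i) = u i := by
      intro y hy
      rw [← hkpi]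
      exact hTu y hy _ hi0
    have h2 : LinearMap.trace ℂ _ (T x * κ) = u 1 := by
      have := hTu x hx 1 hone
      rwa [hkp1] at this
    have h3 : LinearMap.trace ℂ _ κ = u 1 := by
      have := hTu 1 R₀.one_mem 1 hone
      rwa [hkp1, hT.one, one_mul] at this
    have h4 : LinearMap.trace ℂ _ (κ ^ i) = u i := by
      have := h1 1 R₀.one_mem
      rwa [hT.one, one_mul] at this
    have h5 : u 1 = μ * u i := by
      have h6 := congrArg (LinearMap.trace ℂ _) hμ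
      rw [map_smul, mul_assoc, LinearMap.trace_mul_comm, mul_assoc, hP.qp, mul_one, h3, h4,
        smul_eq_mul] at h6
      exact h6
    have h6 : u 1 = c * μ * u i := by
      have h7 : P * (T x * κ) * Q = (c * μ) • (T ((g : G) * x * (g : G)⁻¹) * κ ^ i) := by
        calc P * (T x * κ) * Q = P * T x * (Q * P) * κ * Q := by
              rw [hP.qp, mul_one]; simp only [mul_assoc]
          _ = (P * T x * Q) * (P * κ * Q) := by simp only [mul_assoc]
          _ = _ := by rw [hc, hμ, smul_mul_smul_comm]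
      have h8 := congrArg (LinearMap.trace ℂ _) h7
      rw [map_smul, mul_assoc, LinearMap.trace_mul_comm, mul_assoc, hP.qp, mul_one, h2,
        h1 _ hgx, smul_eq_mul] at h8
      exact h8
    have hu1 := hu 1 hone
    have hc1 : c = 1 := by
      rw [h6] at h5
      have h7 : μ * u i ≠ 0 := by
        intro h0
        rw [mul_assoc, h0, mul_zero] at h6
        exact hu1 h6
      have h8 : (c - 1) * (μ * u i) = 0 := by linear_combination h5
      rcases mul_eq_zero.1 h8 with h9 | h9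
      · linear_combination h9
      · exact absurd h9 h7
    rw [hc1, one_smul] at hc
    calc P * T x = P * T x * (Q * P) := by rw [hP.qp, mul_one]
      _ = (P * T x * Q) * P := by simp only [mul_assoc]
      _ = _ := by rw [hc]
  obtain ⟨T', hT'⟩ := Lf.cyclic h m hle hgE hgR₀ (fun c hc => by
    obtain ⟨n, hn⟩ := hg ⟨c, hc⟩
    refine ⟨c * ((g : G) ^ n)⁻¹, ?_, n, by group⟩
    rw [hR₀]
    refine ⟨R.mul_mem hc (R.inv_mem (R.pow_mem g.2 n)), ?_⟩
    exact hn) hT hP hPT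
  exact ⟨Fin nn → ℂ, inferInstance, inferInstance, inferInstance, ρ, T', m, hT'⟩

end H49.XE
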