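import Cfsg.Agent.Lib.H49.XE10

/-!
# Group theory of the reduction
-/

set_option autoImplicit false
set_option linter.unusedSectionVars false
set_option linter.style.haveILetI false
set_option linter.unusedVariables false

namespace H49.XE

universe u

variable {G : Type u} [Group G] {E M N₁ : Subgroup G} {z : G} {r : ℕ}

theorem mem_of_pow {S : Subgroup G} {m : G} {l r : ℕ} (h : Nat.Coprime l r) (h1 : m ^ l ∈ S)
    (h2 : m ^ r ∈ S) : m ∈ S := by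
  have h3 := Nat.gcd_eq_gcd_ab l r
  rw [h] at h3
  have h4 : m = (m ^ l) ^ (Nat.gcdA l r) * (m ^ r) ^ (Nat.gcdB l r) := by
    rw [← zpow_natCast, ← zpow_natCast, ← zpow_mul, ← zpow_mul, ← zpow_add, ← h3]
    simp
  rw [h4]
  exact S.mul_mem (S.zpow_mem h1 _) (S.zpow_mem h2 _)

theorem Sp.fixed [Finite G] (h : Sp E z) {N : Subgroup G} (hr : r.Prime) (hr2 : r ≠ 2)
    (hN : ∀ n ∈ N, ∀ e ∈ E, n * e * n⁻¹ ∈ E)
    (hNr : ∀ n ∈ N, ∀ e ∈ E, n ^ r * e * (n ^ r)⁻¹ = e)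
    (hNz : ∀ n ∈ N, n * z = z * n) : Sp (H49.XE.cz E N) z where
  zm := mem_cz.2 ⟨h.zm, hNz⟩
  z1 := h.z1
  zz := h.zz
  zc := fun x hx => h.zc x (mem_cz.1 hx).1
  cm := fun x hx y hy => h.cm x (mem_cz.1 hx).1 y (mem_cz.1 hy).1
  nd := by
    intro x hx hc
    obtain ⟨hxE, hxN⟩ := mem_cz.1 hx
    by_contra hne
    push Not at hne
    have h1 : ¬ ∀ y ∈ E, x * y = y * x := fun h' => by
      rcases h.nd x hxE h' with h2 | h2
      · exact hne.1 h2
      · exact hne.2 h2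
    push Not at h1
    obtain ⟨y0, hy0, hxy⟩ := h1
    obtain ⟨y, hy, hyN, hyx⟩ := h.exists_fix (A := E) (N := N) le_rfl hr hr2 hN hNr hNz hxE hxN
      hy0 (Ne.symm hxy)
    exact hyx (hc y (mem_cz.2 ⟨hy, fun n hn => mul_inv_eq_iff_eq_mul.1 (hyN n hn)⟩)).symm

theorem cz_conj {F : Subgroup G} {g : G} (hE : ∀ e ∈ E, g * e * g⁻¹ ∈ E)
    (hF : ∀ n ∈ F, g⁻¹ * n * g ∈ F) : ∀ x ∈ cz E F, g * x * g⁻¹ ∈ cz E F := by
  intro x hx
  obtain ⟨h1, h2⟩ := mem_cz.1 hx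
  refine mem_cz.2 ⟨hE x h1, fun y hy => ?_⟩
  have h3 := h2 _ (hF y hy)
  calc y * (g * x * g⁻¹) = g * ((g⁻¹ * y * g) * x) * g⁻¹ := by group
    _ = _ := by rw [h3]; group

/-- the trivial case -/
theorem Pr.triv [Finite G] {R : Subgroup G} (h : Sp E z) (hE : ∀ e ∈ E, e = 1 ∨ e = z)
    (hRz : ∀ c ∈ R, c * z = z * c) : Pr E R z := by
  obtain ⟨n, ρ, m⟩ := h.exists_md
  refine ⟨Fin n → ℂ, inferInstance, inferInstance, inferInstance, ρ, fun _ => 1, m, rfl,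
    fun _ _ _ _ => (one_mul _).symm, ?_⟩
  intro c hc e he
  have h1 : c * e * c⁻¹ = e := by
    rcases hE e he with rfl | rfl
    · simp
    · rw [hRz c hc, mul_inv_cancel_right]
  rw [h1, one_mul, mul_one]

/-- data of an action of an `r`-group, abelian of exponent `r` modulo the kernel -/
structure Dt (E M : Subgroup G) (z : G) (r : ℕ) : Prop where
  sp : Sp E z
  mE : ∀ m ∈ M, ∀ e ∈ E, m * e * m⁻¹ ∈ E
  mz : ∀ m ∈ M, m * z = z * m
  mr : ∀ m ∈ M, ∀ e ∈ E, m ^ r * e * (m ^ r)⁻¹ = e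
  mc : ∀ m ∈ M, ∀ m' ∈ M, ∀ e ∈ E, (m * m') * e * (m * m')⁻¹ = (m' * m) * e * (m' * m)⁻¹
  fx : ∀ e ∈ E, (∀ m ∈ M, m * e = e * m) → e = 1 ∨ e = z

/-- a maximal subgroup with nontrivial centraliser -/
structure Mx (E M N₁ : Subgroup G) (z : G) : Prop where
  le : N₁ ≤ M
  ex : ∃ e ∈ E, e ≠ 1 ∧ e ≠ z ∧ ∀ n ∈ N₁, n * e = e * n
  mx : ∀ m ∈ M, m ∉ N₁ → ∀ e ∈ E, (∀ n ∈ N₁, n * e = e * n) → m * e = e * m → e = 1 ∨ e = z

theorem exists_mx [Finite G] (hE : ∃ e ∈ E, e ≠ 1 ∧ e ≠ z) (M : Subgroup G) :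
    ∃ N₁, Mx E M N₁ z := by
  let S : Set (Subgroup G) := {N | N ≤ M ∧ ∃ e ∈ E, e ≠ 1 ∧ e ≠ z ∧ ∀ n ∈ N, n * e = e * n}
  obtain ⟨N₁, hN₁⟩ := (Set.toFinite S).exists_maximal ⟨⊥, bot_le, by
    obtain ⟨e, he, h1, h2⟩ := hE
    refine ⟨e, he, h1, h2, fun n hn => ?_⟩
    rw [Subgroup.mem_bot.1 hn, one_mul, mul_one]⟩
  obtain ⟨⟨hle, hex⟩, hmax⟩ := hN₁
  refine ⟨N₁, hle, hex, fun m hm hmN e he hen hem => ?_⟩
  by_contra hne
  push Not at hne
  have h1 : N₁ ⊔ Subgroup.zpowers m ∈ S := by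
    refine ⟨sup_le hle ((Subgroup.zpowers_le).2 hm), e, he, hne.1, hne.2, fun n hn => ?_⟩
    have h2 : N₁ ⊔ Subgroup.zpowers m ≤ Subgroup.centralizer {e} := by
      refine sup_le (fun x hx => Subgroup.mem_centralizer_singleton_iff.2 (hen x hx)) ?_
      rw [Subgroup.zpowers_le]
      exact Subgroup.mem_centralizer_singleton_iff.2 hem
    exact Subgroup.mem_centralizer_singleton_iff.1 (h2 hn)
  have h3 := hmax h1 le_sup_left
  exact hmN (h3 (Subgroup.mem_sup_right (Subgroup.mem_zpowers m)))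

theorem Mx.triv_mem (x : Mx E M N₁ z) {m : G} (hm : m ∈ M) (h : ∀ e ∈ E, m * e * m⁻¹ = e) :
    m ∈ N₁ := by
  by_contra hcon
  obtain ⟨e, he, h1, h2, h3⟩ := x.ex
  rcases x.mx m hm hcon e he h3 (mul_inv_eq_iff_eq_mul.1 (h e he)) with h4 | h4
  · exact h1 h4
  · exact h2 h4

theorem Mx.pow_mem (x : Mx E M N₁ z) (d : Dt E M z r) {m : G} (hm : m ∈ M) : m ^ r ∈ N₁ :=
  x.triv_mem (M.pow_mem hm r) (d.mr m hm)

theorem Mx.normal (x : Mx E M N₁ z) (d : Dt E M z r) {m n : G} (hm : m ∈ M) (hn : n ∈ N₁) :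
    m * n * m⁻¹ ∈ N₁ := by
  have h1 : m * n * m⁻¹ * n⁻¹ ∈ N₁ := by
    refine x.triv_mem (M.mul_mem (M.mul_mem (M.mul_mem hm (x.le hn)) (M.inv_mem hm))
      (M.inv_mem (x.le hn))) fun e he => ?_
    have h2 : m⁻¹ * n⁻¹ * e * (m⁻¹ * n⁻¹)⁻¹ ∈ E := by
      have h3 := d.mE (m⁻¹ * n⁻¹) (M.mul_mem (M.inv_mem hm) (M.inv_mem (x.le hn))) e he
      exact h3
    have h4 := d.mc m hm n (x.le hn) _ h2
    calc m * n * m⁻¹ * n⁻¹ * e * (m * n * m⁻¹ * n⁻¹)⁻¹
        = (m * n) * (m⁻¹ * n⁻¹ * e * (m⁻¹ * n⁻¹)⁻¹) * (m * n)⁻¹ := by group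
      _ = (n * m) * (m⁻¹ * n⁻¹ * e * (m⁻¹ * n⁻¹)⁻¹) * (n * m)⁻¹ := h4
      _ = e := by group
  have h2 : m * n * m⁻¹ = (m * n * m⁻¹ * n⁻¹) * n := by group
  rw [h2]
  exact N₁.mul_mem h1 hn

theorem Mx.normal' (x : Mx E M N₁ z) (d : Dt E M z r) {m n : G} (hm : m ∈ M) (hn : n ∈ N₁) :
    m⁻¹ * n * m ∈ N₁ := by
  have := x.normal d (M.inv_mem hm) hn
  rwa [inv_inv] at this

theorem Mx.sp [Finite G] (x : Mx E M N₁ z) (d : Dt E M z r) (hr : r.Prime) (hr2 : r ≠ 2) :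
    Sp (cz E N₁) z :=
  d.sp.fixed hr hr2 (fun n hn => d.mE n (x.le hn)) (fun n hn => d.mr n (x.le hn))
    (fun n hn => d.mz n (x.le hn))

theorem Mx.inv (x : Mx E M N₁ z) (d : Dt E M z r) {m : G} (hm : m ∈ M) :
    ∀ e ∈ cz E N₁, m * e * m⁻¹ ∈ cz E N₁ :=
  cz_conj (d.mE m hm) (fun n hn => x.normal' d hm hn)

/-- partial products -/
def qp (b x : G) : ℕ → G
  | 0 => 1
  | n + 1 => qp b x n * (b ^ n * x * (b ^ n)⁻¹)

theorem qp_succ' (b x : G) (n : ℕ) : qp b x (n + 1) = x * (b * qp b x n * b⁻¹) := by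
  induction n with
  | zero => simp [qp]
  | succ n ih =>
    have h1 : b ^ (n + 1) * x * (b ^ (n + 1))⁻¹ = b * (b ^ n * x * (b ^ n)⁻¹) * b⁻¹ := by
      rw [pow_succ']; group
    calc qp b x (n + 1 + 1) = qp b x (n + 1) * (b ^ (n + 1) * x * (b ^ (n + 1))⁻¹) := rfl
      _ = x * (b * qp b x n * b⁻¹) * (b * (b ^ n * x * (b ^ n)⁻¹) * b⁻¹) := by rw [ih, h1]
      _ = x * (b * (qp b x n * (b ^ n * x * (b ^ n)⁻¹)) * b⁻¹) := by group
      _ = _ := rfl

theorem Mx.prod_one [Finite G] (x : Mx E M N₁ z) (d : Dt E M z r) (hr : r.Prime) (hr2 : r ≠ 2)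
    {b : G} (hb : b ∈ M) (hbN : b ∉ N₁) {w y : G} (hw : w ∈ cz E N₁) (hy : y ∈ cz E N₁) :
    ∏ l ∈ Finset.range r, sg (b ^ l * w * (b ^ l)⁻¹) y = 1 := by
  have hS := x.sp d hr hr2
  have hmem : ∀ l : ℕ, b ^ l * w * (b ^ l)⁻¹ ∈ cz E N₁ := fun l => x.inv d (M.pow_mem hb l) w hw
  have hq : ∀ n, qp b w n ∈ cz E N₁ := by
    intro n
    induction n with
    | zero => exact Subgroup.one_mem _
    | succ n ih => exact Subgroup.mul_mem _ ih (hmem n)
  have hprod : ∀ n, sg (qp b w n) y = ∏ l ∈ Finset.range n, sg (b ^ l * w * (b ^ l)⁻¹) y := by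
    intro n
    induction n with
    | zero =>
      rw [Finset.range_zero, Finset.prod_empty]
      exact sg_of_comm (by simp [qp])
    | succ n ih =>
      rw [Finset.prod_range_succ, ← ih, ← hS.sg_mul' hy (hq n) (hmem n)]
      rfl
  rw [← hprod]
  set q := qp b w r with hqdef
  have h1 : b * q * b⁻¹ = w⁻¹ * q * w := by
    have h2 := qp_succ' b w r
    rw [qp, d.mr b hb w (cz_le hw)] at h2
    rw [← hqdef] at h2
    calc b * q * b⁻¹ = w⁻¹ * (w * (b * q * b⁻¹)) := by group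
      _ = _ := by rw [← h2]; group
  have hqE := cz_le (hq r)
  have hwE := cz_le hw
  have h2 : b * q * b⁻¹ = q := by
    rcases d.sp.cm q hqE w hwE with h3 | h3
    · rw [h1, mul_assoc, h3]; group
    · exfalso
      have h4 : b * q * b⁻¹ = z * q := by
        rw [h1, mul_assoc, h3, ← mul_assoc, ← d.sp.zc w⁻¹ (E.inv_mem hwE)]; group
      have h5 : ∀ n : ℕ, b ^ n * q * (b ^ n)⁻¹ = z ^ n * q := by
        intro n
        induction n with
        | zero => simp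
        | succ n ih =>
          have h6 : b ^ (n + 1) * q * (b ^ (n + 1))⁻¹ = b * (b ^ n * q * (b ^ n)⁻¹) * b⁻¹ := by
            rw [pow_succ']; group
          have h7 : b * z ^ n = z ^ n * b := by
            have : Commute b z := d.mz b hb
            exact (this.pow_right n).eq
          rw [h6, ih]
          calc b * (z ^ n * q) * b⁻¹ = (b * z ^ n) * q * b⁻¹ := by group
            _ = z ^ n * (b * q * b⁻¹) := by rw [h7]; group
            _ = _ := by rw [h4, pow_succ]; group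
      have h6 := h5 r
      rw [d.mr b hb q hqE] at h6
      have h7 : z ^ r = z := by
        obtain ⟨s, hs⟩ := hr.odd_of_ne_two hr2
        rw [hs, pow_succ, pow_mul, pow_two, d.sp.zz, one_pow, one_mul]
      rw [h7] at h6
      exact d.sp.z1 (mul_eq_right.1 h6.symm)
  have h3 : q = 1 ∨ q = z :=
    x.mx b hb hbN q hqE (mem_cz.1 (hq r)).2 (mul_inv_eq_iff_eq_mul.1 h2)
  apply sg_of_comm
  rcases h3 with h4 | h4
  · rw [h4, one_mul, mul_one]
  · rw [h4]; exact d.sp.zc y (cz_le hy)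

theorem Mx.cyc [Finite G] (x : Mx E M N₁ z) (d : Dt E M z r) (hr : r.Prime) (hr2 : r ≠ 2)
    {k m : G} (hk : k ∈ M) (hm : m ∈ M) (hmN : m ∉ N₁) : ∃ t : ℕ, k * m ^ t ∈ N₁ := by
  by_contra hall
  push Not at hall
  obtain ⟨w, hw, hw1, hwz, hwn⟩ := x.ex
  have hwm : w ∈ cz E N₁ := mem_cz.2 ⟨hw, hwn⟩
  have hS := x.sp d hr hr2
  have hkey : ∀ y ∈ cz E N₁, w * y = y * w := by
    intro y hy
    have h1 : ∏ t ∈ Finset.range r, ∏ l ∈ Finset.range r,
        sg ((k * m ^ t) ^ l * w * ((k * m ^ t) ^ l)⁻¹) y = 1 :=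
      Finset.prod_eq_one fun t _ => x.prod_one d hr hr2 (M.mul_mem hk (M.pow_mem hm t)) (hall t)
        hwm hy
    rw [Finset.prod_comm] at h1
    have h2 : ∀ l t : ℕ, (k * m ^ t) ^ l * w * ((k * m ^ t) ^ l)⁻¹ =
        (m ^ l) ^ t * (k ^ l * w * (k ^ l)⁻¹) * ((m ^ l) ^ t)⁻¹ := by
      intro l t
      let nn : ∀ g ∈ M, g ∈ Subgroup.normalizer (E : Set G) := fun g hg => mem_nrm (d.mE g hg)
      let kN : Subgroup.normalizer (E : Set G) := ⟨k, nn k hk⟩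
      let mN : Subgroup.normalizer (E : Set G) := ⟨m, nn m hm⟩
      have hc : Commute (al E kN) (al E mN) := by
        show al E kN * al E mN = al E mN * al E kN
        rw [← map_mul, ← map_mul]
        exact al_eq_iff.2 (d.mc k hk m hm)
      have h3 : al E ((kN * mN ^ t) ^ l) = al E ((mN ^ l) ^ t * kN ^ l) := by
        rw [map_pow, map_mul, map_pow, (hc.pow_right t).mul_pow, map_mul, map_pow, map_pow, map_pow,
          ← pow_mul, ← pow_mul, mul_comm t l]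
        exact ((hc.pow_left l).pow_right (l * t)).eq
      have h4 := al_eq_iff.1 h3 w hw
      have h5 : (k * m ^ t) ^ l * w * ((k * m ^ t) ^ l)⁻¹ =
          ((m ^ l) ^ t * k ^ l) * w * ((m ^ l) ^ t * k ^ l)⁻¹ := h4
      rw [h5]; group
    have h3 : ∀ l ∈ Finset.range r, ∏ t ∈ Finset.range r,
        sg ((k * m ^ t) ^ l * w * ((k * m ^ t) ^ l)⁻¹) y = if l = 0 then sg w y ^ r else 1 := by
      intro l hl
      rw [Finset.prod_congr rfl (fun t _ => by rw [h2 l t])]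
      split_ifs with h0
      · subst h0
        simp
      · refine x.prod_one d hr hr2 (M.pow_mem hm l) ?_ (x.inv d (M.pow_mem hk l) w hwm) hy
        intro h4
        apply hmN
        refine mem_of_pow (l := l) (r := r) ?_ h4 (x.pow_mem d hm)
        rw [Nat.coprime_comm, hr.coprime_iff_not_dvd]
        intro hd
        have := Nat.le_of_dvd (Nat.pos_of_ne_zero h0) hd
        have := Finset.mem_range.1 hl
        omega
    rw [Finset.prod_congr rfl h3, Finset.prod_ite_eq' , if_pos (Finset.mem_range.2 hr.pos)] at h1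
    by_contra hne
    have h4 : sg w y = -1 := by unfold sg; rw [if_neg hne]
    rw [h4, (hr.odd_of_ne_two hr2).neg_one_pow] at h1
    norm_num at h1
  rcases hS.nd w hwm hkey with h1 | h1
  · exact hw1 h1
  · exact hwz h1

end H49.XE
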