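import Cfsg.Agent.Lib.H49.XE11

/-!
# The reduction for an elementary abelian `r`-group
-/

set_option autoImplicit false
set_option linter.unusedSectionVars false
set_option linter.style.haveILetI false
set_option linter.unusedVariables false
set_option maxHeartbeats 400000

namespace H49.XE

universe u

variable {G : Type u} [Group G] {E M N₁ R : Subgroup G} {z : G} {r : ℕ}

structure Rt (E M R : Subgroup G) (z : G) : Prop where
  rp : IsPGroup 2 R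
  rE : ∀ c ∈ R, ∀ e ∈ E, c * e * c⁻¹ ∈ E
  rz : ∀ c ∈ R, c * z = z * c
  rM : ∀ c ∈ R, ∀ m ∈ M, c * m * c⁻¹ ∈ M

theorem Dt.sub (d : Dt E M z r) {E' : Subgroup G} (hle : E' ≤ E) (s : Sp E' z)
    (hm : ∀ m ∈ M, ∀ e ∈ E', m * e * m⁻¹ ∈ E') : Dt E' M z r where
  sp := s
  mE := hm
  mz := d.mz
  mr := fun m hm e he => d.mr m hm e (hle he)
  mc := fun m hm m' hm' e he => d.mc m hm m' hm' e (hle he)
  fx := fun e he => d.fx e (hle he)

theorem inv_inv' {A B : Subgroup G} (h : ∀ c ∈ A, ∀ e ∈ B, c * e * c⁻¹ ∈ B) :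
    ∀ c ∈ A, ∀ e ∈ B, c⁻¹ * e * c ∈ B := by
  intro c hc e he
  have := h c⁻¹ (A.inv_mem hc) e he
  rwa [inv_inv] at this

/-- generic splitting -/
theorem split [Finite G] {E₃ R : Subgroup G} (s : Sp E z) (h3 : E₃ ≤ E) (s3 : Sp E₃ z)
    (rE : ∀ c ∈ R, ∀ e ∈ E, c * e * c⁻¹ ∈ E)
    (r3 : ∀ c ∈ R, ∀ e ∈ E₃, c * e * c⁻¹ ∈ E₃) (p3 : Pr E₃ R z) (p2 : Pr (cz E E₃) R z) :
    Pr E R z := by
  have s2 := s.cz s3 h3
  have hc : ∀ a ∈ E₃, ∀ b ∈ cz E E₃, a * b = b * a := fun a ha b hb => (mem_cz.1 hb).2 a ha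
  have r2 : ∀ c ∈ R, ∀ e ∈ cz E E₃, c * e * c⁻¹ ∈ cz E E₃ := fun c hc =>
    cz_conj (rE c hc) (inv_inv' r3 c hc)
  have h1 := Pr.prod s3 s2 hc r3 r2 p3 p2
  have h2 : E₃ ⊔ cz E E₃ = E := by
    refine le_antisymm (sup_le h3 cz_le) fun e he => ?_
    obtain ⟨f, hf, c, hc', rfl⟩ := s.exists_mul s3 h3 he
    exact Subgroup.mul_mem _ (Subgroup.mem_sup_left hf) (Subgroup.mem_sup_right hc')
  rwa [h2] at h1

theorem card_cz_lt [Finite G] {E₃ : Subgroup G} (s : Sp E z) (h3 : E₃ ≤ E)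
    (ne : ∃ e ∈ E₃, e ≠ 1 ∧ e ≠ z) : Nat.card (cz E E₃) < Nat.card E := by
  refine lt_of_le_of_ne (Subgroup.card_le_of_le cz_le) fun heq => ?_
  have h1 : cz E E₃ = E := Subgroup.eq_of_le_of_card_ge cz_le heq.ge
  obtain ⟨e, he, he1, hez⟩ := ne
  rcases s.nd e (h3 he) (fun y hy => by
    rw [← h1] at hy
    exact (mem_cz.1 hy).2 e he) with h2 | h2
  · exact he1 h2
  · exact hez h2

theorem finish [Finite G] (d : Dt E M z r) (t : Rt E M R z) {E₃ : Subgroup G} (h3 : E₃ ≤ E)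
    (s3 : Sp E₃ z) (m3 : ∀ m ∈ M, ∀ e ∈ E₃, m * e * m⁻¹ ∈ E₃)
    (r3 : ∀ c ∈ R, ∀ e ∈ E₃, c * e * c⁻¹ ∈ E₃) (ne : ∃ e ∈ E₃, e ≠ 1 ∧ e ≠ z) (p3 : Pr E₃ R z)
    (ih : ∀ E' : Subgroup G, Nat.card E' < Nat.card E → Dt E' M z r → Rt E' M R z → Pr E' R z) :
    Pr E R z := by
  refine split d.sp h3 s3 t.rE r3 p3 (ih _ (card_cz_lt d.sp h3 ne) ?_ ?_)
  · exact d.sub cz_le (d.sp.cz s3 h3) (fun m hm => cz_conj (d.mE m hm) (inv_inv' m3 m hm))
  · exact ⟨t.rp, fun c hc => cz_conj (t.rE c hc) (inv_inv' r3 c hc), t.rz, t.rM⟩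

/-- index two subgroups -/
theorem exists_index_two [Finite G] {R R₁ : Subgroup G} (hR : IsPGroup 2 R) (hle : R₁ ≤ R)
    (hne : R₁ ≠ R) : ∃ (R₂ : Subgroup G) (c : G), R₁ ≤ R₂ ∧ R₂ ≤ R ∧ c ∈ R ∧ c ∉ R₂ ∧ c * c ∈ R₂ ∧
      (∀ x ∈ R₂, c * x * c⁻¹ ∈ R₂) ∧ (∀ x ∈ R₂, c⁻¹ * x * c ∈ R₂) ∧
      (∀ x ∈ R, x ∈ R₂ ∨ x * c⁻¹ ∈ R₂) := by
  haveI : Fact (Nat.Prime 2) := ⟨Nat.prime_two⟩
  obtain ⟨b, hb⟩ := IsPGroup.iff_card.1 hR
  obtain ⟨a, ha⟩ := IsPGroup.iff_card.1 (hR.to_subgroup (R₁.subgroupOf R))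
  have hcard : Nat.card (R₁.subgroupOf R) = Nat.card R₁ :=
    Nat.card_congr (Subgroup.subgroupOfEquivOfLe hle).toEquiv
  have hab : a < b := by
    have h1 : Nat.card R₁ < Nat.card R := by
      refine lt_of_le_of_ne (Subgroup.card_le_of_le hle) fun heq => hne ?_
      exact Subgroup.eq_of_le_of_card_ge hle heq.ge
    rw [← hcard, ha, hb] at h1
    exact (Nat.pow_lt_pow_iff_right (by norm_num)).1 h1
  obtain ⟨K, hK, hRK⟩ := Sylow.exists_subgroup_card_pow_prime_le 2 (n := a) (m := b - 1)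
    (by rw [hb]; exact pow_dvd_pow _ (by omega)) (R₁.subgroupOf R) ha (by omega)
  have hidx : K.index = 2 := by
    have h1 := K.card_mul_index
    rw [hK, hb] at h1
    have h2 : 2 ^ b = 2 ^ (b - 1) * 2 := by rw [← pow_succ]; congr 1; omega
    rw [h2] at h1
    exact Nat.eq_of_mul_eq_mul_left (by positivity) h1
  have hKne : ∃ c : R, c ∉ K := by
    by_contra hcon
    push Not at hcon
    have : K = ⊤ := by ext x; simp [hcon x]
    rw [this, Subgroup.index_top] at hidx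
    omega
  obtain ⟨c, hc⟩ := hKne
  have hmem : ∀ x (hx : x ∈ R), x ∈ K.map R.subtype ↔ (⟨x, hx⟩ : R) ∈ K := by
    intro x hx
    constructor
    · rintro ⟨y, hy, rfl⟩; exact hy
    · intro h; exact ⟨_, h, rfl⟩
  have hRle : K.map R.subtype ≤ R := by
    rintro _ ⟨y, hy, rfl⟩; exact y.2
  refine ⟨K.map R.subtype, c, ?_, hRle, c.2, ?_, ?_, ?_, ?_, ?_⟩
  · intro x hx
    rw [hmem x (hle hx)]
    exact hRK hx
  · rw [hmem _ c.2]; exact hc
  · rw [hmem _ (R.mul_mem c.2 c.2)]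
    exact Subgroup.mul_self_mem_of_index_two hidx c
  · intro x hx
    have hxR := hRle hx
    rw [hmem _ (R.mul_mem (R.mul_mem c.2 hxR) (R.inv_mem c.2))]
    rw [hmem _ hxR] at hx
    haveI := Subgroup.normal_of_index_eq_two hidx
    exact Subgroup.Normal.conj_mem inferInstance _ hx c
  · intro x hx
    have hxR := hRle hx
    rw [hmem _ (R.mul_mem (R.mul_mem (R.inv_mem c.2) hxR) c.2)]
    rw [hmem _ hxR] at hx
    haveI := Subgroup.normal_of_index_eq_two hidx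
    have h1 := Subgroup.Normal.conj_mem (inferInstance : K.Normal) _ hx c⁻¹
    rw [inv_inv] at h1
    exact h1
  · intro x hx
    by_cases h1 : x ∈ K.map R.subtype
    · left; exact h1
    · right
      rw [hmem _ (R.mul_mem hx (R.inv_mem c.2))]
      rw [hmem _ hx] at h1
      show (⟨x, hx⟩ : R) * c⁻¹ ∈ K
      rw [Subgroup.mul_mem_iff_of_index_two hidx]
      constructor
      · intro h; exact absurd h h1
      · intro h; exact absurd ((K.inv_mem_iff).1 h) hc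

/-- the case where `R` normalises `N₁` -/
theorem caseA [Finite G] (d : Dt E M z r) (t : Rt E M R z) (hr : r.Prime) (hr2 : r ≠ 2)
    (x : Mx E M N₁ z) {k : G} (hk : k ∈ M) (hkN : k ∉ N₁)
    (hRN : ∀ c ∈ R, ∀ n ∈ N₁, c * n * c⁻¹ ∈ N₁) : Pr (cz E N₁) R z := by
  have hS := x.sp d hr hr2
  obtain ⟨e, he, he1, hez, hen⟩ := x.ex
  have hRE : ∀ c ∈ R, ∀ e ∈ cz E N₁, c * e * c⁻¹ ∈ cz E N₁ := fun c hc =>
    cz_conj (t.rE c hc) (inv_inv' hRN c hc)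
  refine Pr.base hS ⟨e, mem_cz.2 ⟨he, hen⟩, he1, hez⟩ hr hr2 (x.inv d hk) (d.mz k hk)
    (fun e he => d.mr k hk e (cz_le he)) (fun e he hke => x.mx k hk hkN e (cz_le he)
      (mem_cz.1 he).2 hke) t.rp hRE t.rz ?_
  intro c hc
  obtain ⟨s, hs⟩ := x.cyc d hr hr2 (t.rM c hc k hk) hk hkN
  refine ⟨(r - 1) * s, fun w hw => ?_⟩
  set e' := (k ^ s)⁻¹ * w * k ^ s with he'
  have he'E : e' ∈ cz E N₁ := by
    have := x.inv d (M.inv_mem (M.pow_mem hk s)) w hw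
    rwa [inv_inv] at this
  have h1 : (c * k * c⁻¹) * w * (c * k * c⁻¹)⁻¹ =
      (c * k * c⁻¹ * k ^ s) * e' * (c * k * c⁻¹ * k ^ s)⁻¹ := by rw [he']; group
  have h2 : (c * k * c⁻¹ * k ^ s) * e' * (c * k * c⁻¹ * k ^ s)⁻¹ = e' :=
    mul_inv_eq_iff_eq_mul.2 ((mem_cz.1 he'E).2 _ hs)
  have h3 := d.mr (k ^ s) (M.pow_mem hk s) e' (cz_le he'E)
  have h4 : (k ^ s) ^ r = k ^ ((r - 1) * s) * k ^ s := by
    rw [← pow_mul, ← pow_add]
    congr 1
    have := hr.pos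
    obtain ⟨q, rfl⟩ : ∃ q, r = q + 1 := ⟨r - 1, by omega⟩
    rw [Nat.add_sub_cancel]; ring
  rw [h1, h2, ← h3, h4, he']
  group

/-- conjugates of `C_E(N₁)` -/
def Ea (E N₁ : Subgroup G) (a : G) : Subgroup G := (cz E N₁).map (MulAut.conj a).toMonoidHom

theorem mem_Ea {a y : G} : y ∈ Ea E N₁ a ↔ a⁻¹ * y * a ∈ cz E N₁ := mem_conj

theorem Ea_le (t : Rt E M R z) {a : G} (ha : a ∈ R) : Ea E N₁ a ≤ E := by
  intro y hy
  have h1 := t.rE a ha _ (cz_le (mem_Ea.1 hy))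
  have h2 : a * (a⁻¹ * y * a) * a⁻¹ = y := by group
  rwa [h2] at h1

theorem Ea_M (d : Dt E M z r) (t : Rt E M R z) (x : Mx E M N₁ z) {a : G} (ha : a ∈ R) {m : G}
    (hm : m ∈ M) {y : G} (hy : y ∈ Ea E N₁ a) : m * y * m⁻¹ ∈ Ea E N₁ a := by
  rw [mem_Ea] at hy ⊢
  have h1 := x.inv d (inv_inv' t.rM a ha m hm) _ hy
  have h2 : a⁻¹ * m * a * (a⁻¹ * y * a) * (a⁻¹ * m * a)⁻¹ = a⁻¹ * (m * y * m⁻¹) * a := by group
  rwa [h2] at h1

theorem claimC [Finite G] (d : Dt E M z r) (t : Rt E M R z) (hr : r.Prime) (hr2 : r ≠ 2)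
    (x : Mx E M N₁ z) {a b w y : G} (ha : a ∈ R) (hb : b ∈ R) (hw : w ∈ Ea E N₁ a)
    (hy : y ∈ Ea E N₁ b) (hne : w * y ≠ y * w) : ∀ n ∈ N₁, (a⁻¹ * b) * n * (a⁻¹ * b)⁻¹ ∈ N₁ := by
  by_contra hcon
  push Not at hcon
  obtain ⟨n, hn, hnN⟩ := hcon
  have hbn : ∀ n ∈ N₁, b * n * b⁻¹ ∈ M := fun n hn => t.rM b hb n (x.le hn)
  have hNb : ∀ g ∈ N₁.map (MulAut.conj b).toMonoidHom, g ∈ M := by
    rintro _ ⟨n, hn, rfl⟩
    exact hbn n hn
  have hyE := Ea_le t hb hy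
  obtain ⟨x', hx', hfix, hx'y⟩ := d.sp.exists_fix (A := Ea E N₁ a)
    (N := N₁.map (MulAut.conj b).toMonoidHom) (Ea_le t ha) hr hr2
    (fun g hg e he => Ea_M d t x ha (hNb g hg) he)
    (fun g hg e he => d.mr g (hNb g hg) e (Ea_le t ha he)) (fun g hg => d.mz g (hNb g hg))
    hyE (fun g hg => by
      have h1 : b⁻¹ * g * b ∈ N₁ := mem_conj.1 hg
      have h2 := (mem_cz.1 (mem_Ea.1 hy)).2 _ h1
      calc g * y = b * ((b⁻¹ * g * b) * (b⁻¹ * y * b)) * b⁻¹ := by group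
        _ = _ := by rw [h2]; group) hw hne
  have h1 := mem_Ea.1 hx'
  have h2 : (a⁻¹ * (b * n * b⁻¹) * a) ∈ M := inv_inv' t.rM a ha _ (hbn n hn)
  have h3 : (a⁻¹ * (b * n * b⁻¹) * a) ∉ N₁ := by
    intro h; apply hnN
    have h4 : a⁻¹ * b * n * (a⁻¹ * b)⁻¹ = a⁻¹ * (b * n * b⁻¹) * a := by group
    rw [h4]; exact h
  have h4 := hfix (b * n * b⁻¹) (mem_conj.2 (by
    have : b⁻¹ * (b * n * b⁻¹) * b = n := by group
    rw [this]; exact hn))
  have h5 := mul_inv_eq_iff_eq_mul.1 h4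
  have h6 : (a⁻¹ * (b * n * b⁻¹) * a) * (a⁻¹ * x' * a) = (a⁻¹ * x' * a) *
      (a⁻¹ * (b * n * b⁻¹) * a) := by
    calc (a⁻¹ * (b * n * b⁻¹) * a) * (a⁻¹ * x' * a) = a⁻¹ * ((b * n * b⁻¹) * x') * a := by group
      _ = _ := by rw [h5]; group
  have h7 := x.mx _ h2 h3 _ (cz_le h1) (mem_cz.1 h1).2 h6
  have h8 : x' = a * (a⁻¹ * x' * a) * a⁻¹ := by group
  apply hx'y
  rcases h7 with h9 | h9
  · rw [h8, h9]; simp
  · rw [h8, h9, t.rz a ha, mul_inv_cancel_right]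
    exact d.sp.zc y hyE

theorem claimC' [Finite G] (d : Dt E M z r) (t : Rt E M R z) (hr : r.Prime) (hr2 : r ≠ 2)
    (x : Mx E M N₁ z) {a b w y : G} (ha : a ∈ R) (hb : b ∈ R) (hw : w ∈ Ea E N₁ a)
    (hy : y ∈ Ea E N₁ b) (hne : w * y ≠ y * w) : Ea E N₁ b ≤ Ea E N₁ a := by
  have h1 := claimC d t hr hr2 x ha hb hw hy hne
  have h2 := inv_nrm h1
  have h3 := cz_conj (E := E) (F := N₁) (g := a⁻¹ * b)
    (t.rE _ (R.mul_mem (R.inv_mem ha) hb)) h2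
  intro v hv
  rw [mem_Ea] at hv ⊢
  have h4 := h3 _ hv
  have h5 : a⁻¹ * b * (b⁻¹ * v * b) * (a⁻¹ * b)⁻¹ = a⁻¹ * v * a := by group
  rwa [h5] at h4

theorem sp_z (hz1 : z ≠ 1) (hzz : z * z = 1) : Sp (Subgroup.zpowers z) z := by
  have hmem : ∀ x ∈ Subgroup.zpowers z, x = 1 ∨ x = z := by
    rintro x ⟨n, rfl⟩
    show z ^ n = 1 ∨ z ^ n = z
    rcases Int.even_or_odd' n with ⟨k, rfl | rfl⟩
    · left
      rw [zpow_mul, zpow_two, hzz, one_zpow]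
    · right
      rw [zpow_add, zpow_mul, zpow_two, hzz, one_zpow, one_mul, zpow_one]
  refine ⟨Subgroup.mem_zpowers z, hz1, hzz, ?_, ?_, fun x hx _ => hmem x hx⟩
  · intro x hx
    rcases hmem x hx with rfl | rfl
    · simp
    · rfl
  · intro x hx y hy
    left
    rcases hmem x hx with rfl | rfl
    · simp
    · rcases hmem y hy with rfl | rfl
      · simp
      · rfl

/-- the product of the conjugates -/
def Fs (E N₁ : Subgroup G) (z : G) (S : Finset G) : Subgroup G :=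
  Subgroup.zpowers z ⊔ S.sup (Ea E N₁)

theorem Fs_sp [Finite G] (d : Dt E M z r) (t : Rt E M R z) (hr : r.Prime) (hr2 : r ≠ 2)
    (x : Mx E M N₁ z) (S : Finset G) (hS : ∀ a ∈ S, a ∈ R) : Sp (Fs E N₁ z S) z := by
  classical
  induction S using Finset.induction_on with
  | empty =>
    unfold Fs
    rw [Finset.sup_empty, sup_bot_eq]
    exact sp_z d.sp.z1 d.sp.zz
  | insert b S hbS ih =>
    have hb := hS b (Finset.mem_insert_self b S)
    have ih' := ih (fun a ha => hS a (Finset.mem_insert_of_mem ha))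
    have h1 : Fs E N₁ z (insert b S) = Ea E N₁ b ⊔ Fs E N₁ z S := by
      unfold Fs
      rw [Finset.sup_insert, sup_left_comm]
    by_cases hcomm : ∀ a ∈ S, ∀ w ∈ Ea E N₁ a, ∀ y ∈ Ea E N₁ b, w * y = y * w
    · rw [h1]
      have h2 : Fs E N₁ z S ≤ Subgroup.centralizer (Ea E N₁ b : Set G) := by
        refine sup_le ?_ (Finset.sup_le fun a ha w hw => ?_)
        · rw [Subgroup.zpowers_le, Subgroup.mem_centralizer_iff]
          intro y hy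
          exact (d.sp.zc y (Ea_le t hb hy)).symm
        · rw [Subgroup.mem_centralizer_iff]
          intro y hy
          exact (hcomm a ha w hw y hy).symm
      exact ((x.sp d hr hr2).conj (t.rz b hb)).sup ih' (fun y hy w hw =>
        Subgroup.mem_centralizer_iff.1 (h2 hw) y hy)
    · push Not at hcomm
      obtain ⟨a, ha, w, hw, y, hy, hne⟩ := hcomm
      have h2 := claimC' d t hr hr2 x (hS a (Finset.mem_insert_of_mem ha)) hb hw hy hne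
      have h3 : Ea E N₁ b ≤ Fs E N₁ z S := h2.trans ((Finset.le_sup ha).trans le_sup_right)
      rw [h1, sup_eq_right.2 h3]
      exact ih'

theorem Fs_le (d : Dt E M z r) (t : Rt E M R z) {S : Finset G} (hS : ∀ a ∈ S, a ∈ R) :
    Fs E N₁ z S ≤ E :=
  sup_le (by rw [Subgroup.zpowers_le]; exact d.sp.zm) (Finset.sup_le fun a ha => Ea_le t (hS a ha))

/-- induction principle for containments of `Fs` -/
theorem Fs_le_comap {S : Finset G} {K : Subgroup G} {g : G} (hz : g * z * g⁻¹ ∈ K)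
    (h : ∀ a ∈ S, ∀ y ∈ Ea E N₁ a, g * y * g⁻¹ ∈ K) : ∀ y ∈ Fs E N₁ z S, g * y * g⁻¹ ∈ K := by
  intro y hy
  have h1 : Fs E N₁ z S ≤ K.comap (MulAut.conj g).toMonoidHom := by
    refine sup_le ?_ (Finset.sup_le fun a ha w hw => h a ha w hw)
    rw [Subgroup.zpowers_le]
    exact hz
  exact h1 hy

theorem mem_Fs {S : Finset G} {a y : G} (ha : a ∈ S) (hy : y ∈ Ea E N₁ a) :
    y ∈ Fs E N₁ z S := by
  have h1 : Ea E N₁ a ≤ Fs E N₁ z S := (Finset.le_sup ha).trans le_sup_right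
  exact h1 hy

theorem z_mem_Fs {S : Finset G} : z ∈ Fs E N₁ z S :=
  Subgroup.mem_sup_left (Subgroup.mem_zpowers z)

theorem Ea_mul {a g y : G} (hy : y ∈ Ea E N₁ a) : g * y * g⁻¹ ∈ Ea E N₁ (g * a) := by
  rw [mem_Ea] at hy ⊢
  have : (g * a)⁻¹ * (g * y * g⁻¹) * (g * a) = a⁻¹ * y * a := by group
  rwa [this]

end H49.XE
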