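import Cfsg.Agent.Lib.H49.XE12

/-!
# Reduction: the swapping case and the induction
-/

set_option autoImplicit false
set_option linter.unusedSectionVars false
set_option linter.style.haveILetI false
set_option linter.unusedVariables false
set_option maxHeartbeats 400000

namespace H49.XE

universe u

variable {G : Type u} [Group G] {E M N₁ R : Subgroup G} {z : G} {r : ℕ}

theorem sup_inv {A B K : Subgroup G} {g : G} (hA : ∀ y ∈ A, g * y * g⁻¹ ∈ K)
    (hB : ∀ y ∈ B, g * y * g⁻¹ ∈ K) : ∀ y ∈ A ⊔ B, g * y * g⁻¹ ∈ K := by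
  intro y hy
  have h1 : A ⊔ B ≤ K.comap (MulAut.conj g).toMonoidHom := sup_le (fun x hx => hA x hx)
    (fun x hx => hB x hx)
  exact h1 hy

theorem caseB [Finite G] (d : Dt E M z r) (t : Rt E M R z) (hr : r.Prime) (hr2 : r ≠ 2)
    (x : Mx E M N₁ z) (hRN : ¬ ∀ c ∈ R, ∀ n ∈ N₁, c * n * c⁻¹ ∈ N₁)
    (ih : ∀ E' R' : Subgroup G, Nat.card E' < Nat.card E → Dt E' M z r → Rt E' M R' z →
      Pr E' R' z) : Pr E R z := by
  classical
  haveI := Fintype.ofFinite G
  push Not at hRN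
  obtain ⟨c₀, hc₀, n₀, hn₀, hcn₀⟩ := hRN
  obtain ⟨R₂, c, hR12, hR2, hc, hcR2, hcc, hcR, hcR', hgen⟩ := exists_index_two
    (R₁ := R ⊓ Subgroup.normalizer (N₁ : Set G)) t.rp inf_le_left (by
      intro heq
      have h1 : c₀ ∈ R ⊓ Subgroup.normalizer (N₁ : Set G) := by rw [heq]; exact hc₀
      exact hcn₀ ((Subgroup.mem_normalizer_iff.1 h1.2 n₀).1 hn₀))
  have hmemR₂ : ∀ g ∈ R, (∀ n ∈ N₁, g * n * g⁻¹ ∈ N₁) → g ∈ R₂ := fun g hg h =>
    hR12 ⟨hg, mem_nrm h⟩
  let S : Finset G := Finset.univ.filter (· ∈ R₂)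
  have hSmem : ∀ a, a ∈ S ↔ a ∈ R₂ := fun a => by simp [S]
  have hSR : ∀ a ∈ S, a ∈ R := fun a ha => hR2 ((hSmem a).1 ha)
  set F := Fs E N₁ z S with hF
  have sF : Sp F z := Fs_sp d t hr hr2 x S hSR
  have hFE : F ≤ E := Fs_le d t hSR
  have hzc : ∀ g ∈ R, g * z * g⁻¹ = z := fun g hg => by rw [t.rz g hg, mul_inv_cancel_right]
  have hzm : ∀ g ∈ M, g * z * g⁻¹ = z := fun g hg => by rw [d.mz g hg, mul_inv_cancel_right]
  have rF : ∀ g ∈ R₂, ∀ y ∈ F, g * y * g⁻¹ ∈ F := fun g hg =>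
    Fs_le_comap (by rw [hzc g (hR2 hg)]; exact z_mem_Fs) (fun a ha y hy =>
      mem_Fs (a := g * a) ((hSmem _).2 (R₂.mul_mem hg ((hSmem a).1 ha))) (Ea_mul hy))
  have mF : ∀ m ∈ M, ∀ y ∈ F, m * y * m⁻¹ ∈ F := fun m hm =>
    Fs_le_comap (by rw [hzm m hm]; exact z_mem_Fs) (fun a ha y hy =>
      mem_Fs ha (Ea_M d t x (hSR a ha) hm hy))
  have hcomm0 : ∀ a ∈ S, ∀ w ∈ Ea E N₁ a, ∀ b ∈ S, ∀ y ∈ Ea E N₁ b,
      w * (c * y * c⁻¹) = (c * y * c⁻¹) * w := by
    intro a ha w hw b hb y hy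
    by_contra hne
    have h1 := claimC d t hr hr2 x (hSR a ha) (R.mul_mem hc (hSR b hb)) hw (Ea_mul hy) hne
    have h2 : a⁻¹ * (c * b) ∈ R₂ := hmemR₂ _ (R.mul_mem (R.inv_mem (hSR a ha))
      (R.mul_mem hc (hSR b hb))) h1
    apply hcR2
    have h3 : c = a * (a⁻¹ * (c * b)) * b⁻¹ := by group
    rw [h3]
    exact R₂.mul_mem (R₂.mul_mem ((hSmem a).1 ha) h2) (R₂.inv_mem ((hSmem b).1 hb))
  have hcomm : ∀ w ∈ F, ∀ y ∈ F, w * (c * y * c⁻¹) = (c * y * c⁻¹) * w := by
    intro w hw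
    have h1 : ∀ y ∈ F, c * y * c⁻¹ ∈ Subgroup.centralizer ({w} : Set G) := by
      refine Fs_le_comap ?_ ?_
      · rw [hzc c hc, Subgroup.mem_centralizer_singleton_iff]
        exact d.sp.zc w (hFE hw)
      · intro b hb y hy
        rw [Subgroup.mem_centralizer_singleton_iff]
        have h2 : ∀ v ∈ F, (1 : G) * v * (1 : G)⁻¹ ∈ Subgroup.centralizer ({c * y * c⁻¹} : Set G) := by
          refine Fs_le_comap ?_ ?_
          · rw [Subgroup.mem_centralizer_singleton_iff]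
            simp only [one_mul, inv_one, mul_one]
            exact d.sp.zc _ (t.rE c hc y (Ea_le t (hSR b hb) hy))
          · intro a ha v hv
            rw [Subgroup.mem_centralizer_singleton_iff]
            simp only [one_mul, inv_one, mul_one]
            exact hcomm0 a ha v hv b hb y hy
        have h3 := h2 w hw
        rw [Subgroup.mem_centralizer_singleton_iff] at h3
        simp only [one_mul, inv_one, mul_one] at h3
        exact h3.symm
    intro y hy
    exact (Subgroup.mem_centralizer_singleton_iff.1 (h1 y hy)).symm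
  obtain ⟨e, he, he1, hez, hen⟩ := x.ex
  have he' : e ∈ F := mem_Fs (a := 1) ((hSmem 1).2 R₂.one_mem) (mem_Ea.2 (by
    simp only [inv_one, one_mul, mul_one]
    exact mem_cz.2 ⟨he, hen⟩))
  have hcardF : Nat.card F < Nat.card E := by
    refine lt_of_le_of_ne (Subgroup.card_le_of_le hFE) fun heq => ?_
    have h1 : F = E := Subgroup.eq_of_le_of_card_ge hFE heq.ge
    have h2 := d.sp.nd (c * e * c⁻¹) (t.rE c hc e he) (fun y hy => by
      rw [← h1] at hy
      exact (hcomm y hy e he').symm)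
    have h3 : e = c⁻¹ * (c * e * c⁻¹) * c := by group
    rcases h2 with h4 | h4
    · apply he1; rw [h3, h4]; group
    · apply hez; rw [h3, h4]
      have := inv_inv' (A := R) (B := E) t.rE c hc
      rw [mul_assoc, ← t.rz c hc]; group
  have p2 : Pr F R₂ z := ih F R₂ hcardF (d.sub hFE sF mF)
    ⟨t.rp.to_le hR2, rF, fun g hg => t.rz g (hR2 hg), fun g hg => t.rM g (hR2 hg)⟩
  have p3 := Pr.double sF hR2 hc (t.rz c hc) hcc hcR hcR' hgen rF hcomm p2
  set F' := F.map (MulAut.conj c).toMonoidHom with hF'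
  have sF' : Sp F' z := sF.conj (t.rz c hc)
  have hco : ∀ a ∈ F, ∀ b ∈ F', a * b = b * a := by
    rintro a ha _ ⟨b, hb, rfl⟩
    exact hcomm a ha b hb
  have hF'E : F' ≤ E := by
    rintro _ ⟨y, hy, rfl⟩
    exact t.rE c hc y (hFE hy)
  refine finish d t (sup_le hFE hF'E) (sF.sup sF' hco) ?_ ?_ ⟨e, Subgroup.mem_sup_left he', he1, hez⟩
    p3 (fun E' h1 h2 h3 => ih E' R h1 h2 h3)
  · intro m hm
    refine sup_inv (fun y hy => Subgroup.mem_sup_left (mF m hm y hy)) (fun y hy => ?_)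
    apply Subgroup.mem_sup_right
    rw [mem_conj] at hy ⊢
    have h1 := mF _ (inv_inv' t.rM c hc m hm) _ hy
    have h2 : c⁻¹ * m * c * (c⁻¹ * y * c) * (c⁻¹ * m * c)⁻¹ = c⁻¹ * (m * y * m⁻¹) * c := by group
    rwa [h2] at h1
  · intro g hg
    rcases hgen g hg with h1 | h1
    · refine sup_inv (fun y hy => Subgroup.mem_sup_left (rF g h1 y hy)) (fun y hy => ?_)
      apply Subgroup.mem_sup_right
      rw [mem_conj] at hy ⊢
      have h1' := rF _ (hcR' g h1) _ hy
      have h2 : c⁻¹ * g * c * (c⁻¹ * y * c) * (c⁻¹ * g * c)⁻¹ = c⁻¹ * (g * y * g⁻¹) * c := by group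
      rwa [h2] at h1'
    · refine sup_inv (fun y hy => ?_) (fun y hy => ?_)
      · apply Subgroup.mem_sup_right
        rw [mem_conj]
        have h3 := rF _ (hcR' _ h1) _ hy
        have h2 : c⁻¹ * (g * c⁻¹) * c * y * (c⁻¹ * (g * c⁻¹) * c)⁻¹ = c⁻¹ * (g * y * g⁻¹) * c := by
          group
        rwa [h2] at h3
      · apply Subgroup.mem_sup_left
        rw [mem_conj] at hy
        have h3 := rF _ (R₂.mul_mem h1 hcc) _ hy
        have h2 : g * c⁻¹ * (c * c) * (c⁻¹ * y * c) * (g * c⁻¹ * (c * c))⁻¹ = g * y * g⁻¹ := by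
          group
        rwa [h2] at h3

theorem h8 [Finite G] (hr : r.Prime) (hr2 : r ≠ 2) : ∀ (n : ℕ) (E R : Subgroup G),
    Nat.card E = n → Dt E M z r → Rt E M R z → Pr E R z := by
  intro n
  induction n using Nat.strong_induction_on with
  | _ n ihn =>
    intro E R hcard d t
    by_cases hE : ∃ e ∈ E, e ≠ 1 ∧ e ≠ z
    · have ih : ∀ E' R' : Subgroup G, Nat.card E' < Nat.card E → Dt E' M z r → Rt E' M R' z →
          Pr E' R' z := fun E' R' h1 h2 h3 => ihn _ (by rw [← hcard]; exact h1) E' R' rfl h2 h3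
      obtain ⟨N₁, x⟩ := exists_mx hE M
      by_cases hRN : ∀ c ∈ R, ∀ n ∈ N₁, c * n * c⁻¹ ∈ N₁
      · -- `k`
        have hk : ∃ k ∈ M, k ∉ N₁ := by
          by_contra hcon
          push Not at hcon
          obtain ⟨e, he, he1, hez, hen⟩ := x.ex
          rcases d.fx e he (fun m hm => hen m (hcon m hm)) with h1 | h1
          · exact he1 h1
          · exact hez h1
        obtain ⟨k, hk, hkN⟩ := hk
        have p3 := caseA d t hr hr2 x hk hkN hRN
        obtain ⟨e, he, he1, hez, hen⟩ := x.ex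
        exact finish d t cz_le (x.sp d hr hr2) (fun m hm => x.inv d hm)
          (fun c hc => cz_conj (t.rE c hc) (inv_inv' hRN c hc))
          ⟨e, mem_cz.2 ⟨he, hen⟩, he1, hez⟩ p3 (fun E' h1 h2 h3 => ih E' R h1 h2 h3)
      · exact caseB d t hr hr2 x hRN ih
    · push Not at hE
      exact Pr.triv d.sp (fun e he => by
        by_cases h1 : e = 1
        · left; exact h1
        · right; exact hE e he h1) t.rz

end H49.XE
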