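import Cfsg.Agent.Lib.H49.XE13

/-!
# Reduction: general odd `K`
-/

set_option autoImplicit false
set_option linter.unusedSectionVars false
set_option linter.style.haveILetI false
set_option linter.unusedVariables false
set_option maxHeartbeats 400000

namespace H49.XE

open scoped commutatorElement

universe u

variable {G : Type u} [Group G] {E M N₁ R K : Subgroup G} {z : G} {r : ℕ}

/-- the derived series inside `G` -/
def DG (K : Subgroup G) (i : ℕ) : Subgroup G := (derivedSeries K i).map K.subtype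

theorem DG_zero : DG K 0 = K := by
  unfold DG
  rw [derivedSeries_zero, ← MonoidHom.range_eq_map, Subgroup.range_subtype]

theorem DG_succ (i : ℕ) : DG K (i + 1) = ⁅DG K i, DG K i⁆ := by
  unfold DG
  rw [derivedSeries_succ, Subgroup.map_commutator]

theorem DG_le (i : ℕ) : DG K i ≤ K := by
  rintro _ ⟨x, hx, rfl⟩
  exact x.2

theorem DG_conj {g : G} (h : ∀ x ∈ K, g * x * g⁻¹ ∈ K) (i : ℕ) :
    ∀ x ∈ DG K i, g * x * g⁻¹ ∈ DG K i := by
  have h1 : ∀ i, (DG K i).map (MulAut.conj g).toMonoidHom ≤ DG K i := by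
    intro i
    induction i with
    | zero =>
      rw [DG_zero]
      rintro _ ⟨x, hx, rfl⟩
      exact h x hx
    | succ i ih =>
      rw [DG_succ, Subgroup.map_commutator]
      exact Subgroup.commutator_mono ih ih
  intro x hx
  exact h1 i ⟨x, hx, rfl⟩

theorem exists_M [Finite G] (hsolv : Group.IsSolvable K) (hodd : Odd (Nat.card K)) (hKE : ∀ k ∈ K, ∀ e ∈ E, k * e * k⁻¹ ∈ E)
    (hne : ∃ k ∈ K, ∃ e ∈ E, k * e ≠ e * k) : ∃ (r : ℕ) (M : Subgroup G), r.Prime ∧ r ≠ 2 ∧ M ≤ K ∧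
      (∃ m ∈ M, ∃ e ∈ E, m * e ≠ e * m) ∧
      (∀ m ∈ M, ∀ e ∈ E, m ^ r * e * (m ^ r)⁻¹ = e) ∧
      (∀ m ∈ M, ∀ m' ∈ M, ∀ e ∈ E, (m * m') * e * (m * m')⁻¹ = (m' * m) * e * (m' * m)⁻¹) ∧
      (∀ g : G, (∀ x ∈ K, g * x * g⁻¹ ∈ K) → (∀ e ∈ E, g * e * g⁻¹ ∈ E) →
        ∀ m ∈ M, g * m * g⁻¹ ∈ M) := by
  classical
  obtain ⟨n, hn⟩ := hsolv.solvable
  let P : ℕ → Prop := fun i => ∀ x ∈ DG K i, ∀ e ∈ E, x * e * x⁻¹ = e
  have hPn : P n := by
    intro x hx e he
    have h1 : DG K n = ⊥ := by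
      unfold DG
      rw [hn, Subgroup.map_bot]
    rw [h1, Subgroup.mem_bot] at hx
    rw [hx]; simp
  have hex : ∃ n, P n := ⟨n, hPn⟩
  have h0 : ¬ P 0 := by
    intro h
    obtain ⟨k, hk, e, he, hke⟩ := hne
    exact hke (mul_inv_eq_iff_eq_mul.1 (h k (by rw [DG_zero]; exact hk) e he))
  obtain ⟨i, hi, hi'⟩ : ∃ i, ¬ P i ∧ P (i + 1) := by
    have h1 := Nat.find_spec hex
    have h2 : Nat.find hex ≠ 0 := by
      intro h; rw [h] at h1; exact h0 h1
    obtain ⟨i, hi⟩ := Nat.exists_eq_succ_of_ne_zero h2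
    refine ⟨i, ?_, ?_⟩
    · exact Nat.find_min hex (by omega)
    · rw [hi] at h1; exact h1
  set A := DG K i with hA
  have hAK : A ≤ K := DG_le i
  have hAE : ∀ a ∈ A, ∀ e ∈ E, a * e * a⁻¹ ∈ E := fun a ha => hKE a (hAK ha)
  have hcommA : ∀ a ∈ A, ∀ b ∈ A, ∀ e ∈ E, (a * b) * e * (a * b)⁻¹ = (b * a) * e * (b * a)⁻¹ := by
    intro a ha b hb e he
    have h1 : ⁅a, b⁆ ∈ DG K (i + 1) := by
      rw [DG_succ]
      exact Subgroup.commutator_mem_commutator ha hb
    have h2 := hi' _ h1 _ (hKE (b * a) (K.mul_mem (hAK hb) (hAK ha)) e he)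
    rw [← h2, commutatorElement_def]
    group
  let nn : ∀ g ∈ A, g ∈ Subgroup.normalizer (E : Set G) := fun g hg => mem_nrm (hAE g hg)
  let φ : A →* MulAut E := (al E).comp (Subgroup.inclusion (show A ≤ Subgroup.normalizer (E : Set G)
    from nn))
  have hφ : ∀ (a : A) (e : E), ((φ a e : E) : G) = a * e * (a : G)⁻¹ := fun a e => rfl
  have hφc : ∀ a b : A, φ a * φ b = φ b * φ a := by
    intro a b
    rw [← map_mul, ← map_mul]
    ext e
    exact hcommA a a.2 b b.2 e e.2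
  have hφr : ∀ (r : ℕ) (a : A), φ a ^ r = 1 ↔ ∀ e ∈ E, (a : G) ^ r * e * ((a : G) ^ r)⁻¹ = e := by
    intro r a
    rw [← map_pow]
    constructor
    · intro h e he
      have h1 := congrArg (fun f : MulAut E => ((f ⟨e, he⟩ : E) : G)) h
      exact h1
    · intro h
      ext e
      exact h e e.2
  obtain ⟨a, ha⟩ : ∃ a : A, φ a ≠ 1 := by
    by_contra hcon
    push Not at hcon
    apply hi
    intro x hx e he
    exact congrArg (fun f : MulAut E => ((f ⟨e, he⟩ : E) : G)) (hcon ⟨x, hx⟩)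
  have hord : orderOf (φ a) ≠ 1 := by rw [Ne, orderOf_eq_one_iff]; exact ha
  set r := (orderOf (φ a)).minFac with hr
  have hrp : r.Prime := Nat.minFac_prime hord
  obtain ⟨s, hs⟩ : r ∣ orderOf (φ a) := Nat.minFac_dvd _
  have hr2 : r ≠ 2 := by
    intro h
    have h1 : r ∣ Nat.card K := by
      refine (Nat.minFac_dvd _).trans ((orderOf_map_dvd φ a).trans ?_)
      refine (orderOf_dvd_natCard a).trans ?_
      exact Subgroup.card_dvd_of_le hAK
    rw [h] at h1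
    exact (Nat.not_even_iff_odd.2 hodd) (even_iff_two_dvd.2 h1)
  let M : Subgroup G :=
    { carrier := {x | x ∈ A ∧ ∀ e ∈ E, x ^ r * e * (x ^ r)⁻¹ = e}
      one_mem' := ⟨A.one_mem, fun e he => by simp⟩
      mul_mem' := by
        rintro x y ⟨hx, hx'⟩ ⟨hy, hy'⟩
        refine ⟨A.mul_mem hx hy, ?_⟩
        have h1 := (hφr r ⟨x, hx⟩).2 hx'
        have h2 := (hφr r ⟨y, hy⟩).2 hy'
        have h3 : φ (⟨x, hx⟩ * ⟨y, hy⟩) ^ r = 1 := by
          rw [map_mul, (show Commute (φ ⟨x, hx⟩) (φ ⟨y, hy⟩) from hφc _ _).mul_pow, h1, h2, one_mul]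
        exact (hφr r _).1 h3
      inv_mem' := by
        rintro x ⟨hx, hx'⟩
        refine ⟨A.inv_mem hx, ?_⟩
        have h1 := (hφr r ⟨x, hx⟩).2 hx'
        have h3 : φ (⟨x, hx⟩⁻¹) ^ r = 1 := by
          rw [map_inv, inv_pow, h1, inv_one]
        exact (hφr r _).1 h3 }
  have hM : ∀ x, x ∈ M ↔ x ∈ A ∧ ∀ e ∈ E, x ^ r * e * (x ^ r)⁻¹ = e := fun x => Iff.rfl
  refine ⟨r, M, hrp, hr2, fun x hx => hAK hx.1, ?_, fun m hm => hm.2, fun m hm m' hm' =>
    hcommA m hm.1 m' hm'.1, ?_⟩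
  · -- a power of a
    have h1 : φ (a ^ s) ^ r = 1 := by
      rw [map_pow, ← pow_mul, mul_comm, ← hs, pow_orderOf_eq_one]
    have h2 : φ (a ^ s) ≠ 1 := by
      intro h
      rw [map_pow] at h
      have h3 := orderOf_dvd_of_pow_eq_one h
      have hs0 : 0 < s := by
        rcases Nat.eq_zero_or_pos s with h4 | h4
        · exfalso
          rw [h4, mul_zero] at hs
          exact (orderOf_pos (φ a)).ne' hs
        · exact h4
      have h4 := Nat.le_of_dvd hs0 h3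
      rw [hs] at h4
      have h5 := hrp.two_le
      nlinarith
    have h3 : ((a ^ s : A) : G) ∈ M := ⟨(a ^ s).2, (hφr r _).1 h1⟩
    refine ⟨_, h3, ?_⟩
    by_contra hcon
    push Not at hcon
    apply h2
    ext e
    rw [hφ, hcon e e.2]
    simp
  · intro g hgK hgE m hm
    refine ⟨DG_conj hgK i m hm.1, fun e he => ?_⟩
    have h1 := inv_nrm hgE e he
    have h2 := hm.2 _ h1
    have h3 : (g * m * g⁻¹) ^ r = g * m ^ r * g⁻¹ := conj_pow
    rw [h3]
    calc g * m ^ r * g⁻¹ * e * (g * m ^ r * g⁻¹)⁻¹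
        = g * (m ^ r * (g⁻¹ * e * g) * (m ^ r)⁻¹) * g⁻¹ := by group
      _ = e := by rw [h2]; group

theorem h9 [Finite G] (hsolv : Group.IsSolvable K) (hodd : Odd (Nat.card K)) : ∀ (n : ℕ) (E : Subgroup G),
    Nat.card E = n → Sp E z → (∀ k ∈ K, ∀ e ∈ E, k * e * k⁻¹ ∈ E) → (∀ k ∈ K, k * z = z * k) →
    (∀ e ∈ E, (∀ k ∈ K, k * e = e * k) → e = 1 ∨ e = z) → Rt E K R z → Pr E R z := by
  intro n
  induction n using Nat.strong_induction_on with
  | _ n ihn =>
    intro E hcard s hKE hKz hfx t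
    by_cases hE : ∃ e ∈ E, e ≠ 1 ∧ e ≠ z
    · have hne : ∃ k ∈ K, ∃ e ∈ E, k * e ≠ e * k := by
        by_contra hcon
        push Not at hcon
        obtain ⟨e, he, he1, hez⟩ := hE
        rcases hfx e he (fun k hk => hcon k hk e he) with h1 | h1
        · exact he1 h1
        · exact hez h1
      obtain ⟨r, M, hr, hr2, hMK, hMne, hMr, hMc, hMinv⟩ := exists_M hsolv hodd hKE hne
      have hKM : ∀ k ∈ K, ∀ m ∈ M, k * m * k⁻¹ ∈ M := fun k hk =>
        hMinv k (fun x hx => K.mul_mem (K.mul_mem hk hx) (K.inv_mem hk)) (hKE k hk)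
      have hRM : ∀ c ∈ R, ∀ m ∈ M, c * m * c⁻¹ ∈ M := fun c hc =>
        hMinv c (t.rM c hc) (t.rE c hc)
      have hME : ∀ m ∈ M, ∀ e ∈ E, m * e * m⁻¹ ∈ E := fun m hm => hKE m (hMK hm)
      have s' : Sp (cz E M) z := s.fixed hr hr2 hME hMr (fun m hm => hKz m (hMK hm))
      have hKE' : ∀ k ∈ K, ∀ e ∈ cz E M, k * e * k⁻¹ ∈ cz E M := fun k hk =>
        cz_conj (hKE k hk) (inv_inv' hKM k hk)
      have hRE' : ∀ c ∈ R, ∀ e ∈ cz E M, c * e * c⁻¹ ∈ cz E M := fun c hc =>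
        cz_conj (t.rE c hc) (inv_inv' hRM c hc)
      have hlt : Nat.card (cz E M) < Nat.card E := by
        refine lt_of_le_of_ne (Subgroup.card_le_of_le cz_le) fun heq => ?_
        have h1 : cz E M = E := Subgroup.eq_of_le_of_card_ge cz_le heq.ge
        obtain ⟨m, hm, e, he, hme⟩ := hMne
        rw [← h1] at he
        exact hme ((mem_cz.1 he).2 m hm)
      have p3 : Pr (cz E M) R z := ihn _ (by rw [← hcard]; exact hlt) (cz E M) rfl s' hKE' hKz
        (fun e he => hfx e (cz_le he)) ⟨t.rp, hRE', t.rz, t.rM⟩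
      have s2 : Sp (cz E (cz E M)) z := s.cz s' cz_le
      have hK2 : ∀ k ∈ K, ∀ e ∈ cz E (cz E M), k * e * k⁻¹ ∈ cz E (cz E M) := fun k hk =>
        cz_conj (hKE k hk) (inv_inv' hKE' k hk)
      have p2 : Pr (cz E (cz E M)) R z := by
        refine h8 (M := M) (r := r) hr hr2 _ _ _ rfl ⟨s2, fun m hm => hK2 m (hMK hm),
          fun m hm => hKz m (hMK hm), fun m hm e he => hMr m hm e (cz_le he),
          fun m hm m' hm' e he => hMc m hm m' hm' e (cz_le he), ?_⟩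
          ⟨t.rp, fun c hc => cz_conj (t.rE c hc) (inv_inv' hRE' c hc), t.rz, hRM⟩
        intro e he hem
        have h1 : e ∈ cz E M := mem_cz.2 ⟨cz_le he, hem⟩
        exact s'.nd e h1 (fun y hy => ((mem_cz.1 he).2 y hy).symm)
      exact split s cz_le s' t.rE hRE' p3 p2
    · push Not at hE
      exact Pr.triv s (fun e he => by
        by_cases h1 : e = 1
        · left; exact h1
        · right; exact hE e he h1) t.rz

end H49.XE
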