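import Cfsg.Agent.Lib.H49.XE1
import Cfsg.Agent.Lib.H19.ProjExt
import Cfsg.Agent.Lib.H18.CharQuot
import Cfsg.Agent.Lib.H15.Commutant

/-!
# The representation of `E` with `z ↦ -1`
-/

set_option autoImplicit false
set_option linter.unusedSectionVars false
set_option linter.style.haveILetI false
set_option linter.unusedVariables false

namespace H49.XE

open Cfsg Representation H18.CharBasic H18.CharOrtho
open scoped ComplexConjugate

universe u

variable {G : Type u} [Group G] {V : Type} [AddCommGroup V] [Module ℂ V] [FiniteDimensional ℂ V]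

structure Md (E : Subgroup G) (z : G) (ρ : G → Module.End ℂ V) : Prop where
  one : ρ 1 = 1
  mul : ∀ x ∈ E, ∀ y ∈ E, ρ (x * y) = ρ x * ρ y
  z : ρ z = -1
  card : 2 * Module.finrank ℂ V ^ 2 = Nat.card E

variable {E : Subgroup G} {z : G} {ρ : G → Module.End ℂ V}

def Md.rep (m : Md E z ρ) : Representation ℂ E V where
  toFun e := ρ e
  map_one' := m.one
  map_mul' x y := m.mul x x.2 y y.2

theorem Md.rep_apply (m : Md E z ρ) (e : E) : m.rep e = ρ e := rfl

theorem Md.inv_mul (m : Md E z ρ) {x : G} (hx : x ∈ E) : ρ x⁻¹ * ρ x = 1 := by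
  rw [← m.mul _ (E.inv_mem hx) _ hx, inv_mul_cancel, m.one]

theorem Md.mul_inv (m : Md E z ρ) {x : G} (hx : x ∈ E) : ρ x * ρ x⁻¹ = 1 := by
  rw [← m.mul _ hx _ (E.inv_mem hx), mul_inv_cancel, m.one]

theorem Md.trace_zero (m : Md E z ρ) (h : Sp E z) {x : G} (hx : x ∈ E) (h1 : x ≠ 1)
    (hz : x ≠ z) : LinearMap.trace ℂ V (ρ x) = 0 := by
  have h2 : ¬ ∀ y ∈ E, x * y = y * x := fun h3 => by
    rcases h.nd x hx h3 with h4 | h4
    · exact h1 h4
    · exact hz h4
  push Not at h2
  obtain ⟨y, hy, hxy⟩ := h2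
  have h3 := (h.cm x hx y hy).resolve_left hxy
  have h4 : ρ x * ρ y = - (ρ y * ρ x) := by
    rw [← m.mul x hx y hy, h3, m.mul z h.zm _ (E.mul_mem hy hx), m.z, m.mul y hy x hx]
    simp
  have h5 : ρ x = -(ρ y * (ρ x * ρ y⁻¹)) := by
    calc ρ x = ρ x * (ρ y * ρ y⁻¹) := by rw [m.mul_inv hy, mul_one]
      _ = (ρ x * ρ y) * ρ y⁻¹ := by rw [mul_assoc]
      _ = _ := by rw [h4, neg_mul, mul_assoc]
  have h6 : LinearMap.trace ℂ V (ρ y * (ρ x * ρ y⁻¹)) = LinearMap.trace ℂ V (ρ x) := by
    rw [LinearMap.trace_mul_comm, mul_assoc, m.inv_mul hy, mul_one]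
  have h7 : LinearMap.trace ℂ V (ρ x) = -LinearMap.trace ℂ V (ρ x) := by
    conv_lhs => rw [h5]
    rw [map_neg, h6]
  have h8 : (2 : ℂ) * LinearMap.trace ℂ V (ρ x) = 0 := by linear_combination h7
  simpa using h8

theorem Md.trace_one (m : Md E z ρ) : LinearMap.trace ℂ V (ρ 1) = Module.finrank ℂ V := by
  rw [m.one]
  exact LinearMap.trace_one ℂ V

theorem Md.trace_z (m : Md E z ρ) : LinearMap.trace ℂ V (ρ z) = -Module.finrank ℂ V := by
  rw [m.z, map_neg]
  rw [LinearMap.trace_one ℂ V]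

theorem Md.fr_ne [Finite G] (m : Md E z ρ) : (Module.finrank ℂ V : ℂ) ≠ 0 := by
  intro h
  have h1 : Module.finrank ℂ V = 0 := by exact_mod_cast h
  have h2 := m.card
  rw [h1] at h2
  have : 0 < Nat.card E := Nat.card_pos
  simp at h2
  omega

theorem Md.cardC (m : Md E z ρ) : (2 : ℂ) * (Module.finrank ℂ V : ℂ) ^ 2 = (Nat.card E : ℂ) := by
  exact_mod_cast m.card

theorem Md.norm_one [Finite G] (m : Md E z ρ) (h : Sp E z) [Fintype E] :
    classInner m.rep.character m.rep.character = 1 := by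
  classical
  rw [classInner]
  have hchar : ∀ e : E, m.rep.character e = LinearMap.trace ℂ V (ρ e) := fun e => rfl
  have h1 : ∀ e : E, m.rep.character e * conj (m.rep.character e)
      = if e ∈ ({1, ⟨z, h.zm⟩} : Finset E) then (Module.finrank ℂ V : ℂ) ^ 2 else 0 := by
    intro e
    rw [hchar]
    split_ifs with he
    · rw [Finset.mem_insert, Finset.mem_singleton] at he
      rcases he with rfl | rfl
      · rw [Subgroup.coe_one, m.trace_one, Complex.conj_natCast, pow_two]
      · show LinearMap.trace ℂ V (ρ z) * _ = _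
        rw [m.trace_z, map_neg, Complex.conj_natCast]; ring
    · rw [Finset.mem_insert, Finset.mem_singleton, not_or] at he
      rw [m.trace_zero h e.2 (fun h' => he.1 (Subtype.ext h')) (fun h' => he.2 (Subtype.ext h')),
        zero_mul]
  rw [Finset.sum_congr rfl (fun e _ => h1 e), Finset.sum_ite_mem, Finset.univ_inter,
    Finset.sum_const, Finset.card_pair]
  · rw [← m.cardC]
    have := m.fr_ne
    simp only [nsmul_eq_mul, Nat.cast_ofNat]
    field_simp
  · intro h'
    exact h.z1 (congrArg Subtype.val h').symm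

theorem Md.irr [Finite G] (m : Md E z ρ) (h : Sp E z) : m.rep.IsIrreducible := by
  classical
  haveI := Fintype.ofFinite E
  have h1 := isIrr_of_norm_one (isCharacter_of_rep m.rep) (m.norm_one h)
  obtain ⟨n, σ, hσ, hσc⟩ := h1
  have h2 : classInner m.rep.character σ.character ≠ 0 := by
    rw [hσc, m.norm_one h]; exact one_ne_zero
  have hd : Module.finrank ℂ (Fin n → ℂ) = Module.finrank ℂ V := by
    have h3 := congrFun hσc 1
    rw [char_one, char_one] at h3
    exact_mod_cast h3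
  obtain ⟨e⟩ := H19.ProjExt.equiv_of_inner σ m.rep hσ h2 hd
  exact isIrreducible_of_equiv e hσ

theorem Md.schur [Finite G] (m : Md E z ρ) (h : Sp E z) {A : Module.End ℂ V}
    (hA : ∀ e ∈ E, A * ρ e = ρ e * A) : ∃ c : ℂ, A = c • (1 : Module.End ℂ V) := by
  haveI := Fintype.ofFinite E
  obtain ⟨c, hc⟩ := H15.Commutant.schur m.rep (m.irr h) (T := A) (fun g v =>
    congrArg (fun B : Module.End ℂ V => B v) (hA g g.2))
  exact ⟨c, LinearMap.ext fun v => by simpa using hc v⟩

/-- `P` intertwines `g` -/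
structure It (E : Subgroup G) (ρ : G → Module.End ℂ V) (g : G) (P Q : Module.End ℂ V) : Prop where
  pq : P * Q = 1
  qp : Q * P = 1
  it : ∀ e ∈ E, P * ρ e = ρ (g * e * g⁻¹) * P

theorem It.it' {g : G} {P Q : Module.End ℂ V} (h : It E ρ g P Q)
    (hg : ∀ e ∈ E, g⁻¹ * e * g ∈ E) : ∀ e ∈ E, Q * ρ e = ρ (g⁻¹ * e * g) * Q := by
  intro e he
  have h1 := h.it _ (hg e he)
  have h2 : g * (g⁻¹ * e * g) * g⁻¹ = e := by group
  rw [h2] at h1
  calc Q * ρ e = Q * (ρ e * P) * Q := by rw [mul_assoc, mul_assoc, h.pq, mul_one]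
    _ = Q * (P * ρ (g⁻¹ * e * g)) * Q := by rw [h1]
    _ = _ := by rw [← mul_assoc Q P, h.qp, one_mul]

/-- intertwiners exist -/
theorem Md.exists_it [Finite G] (m : Md E z ρ) (h : Sp E z) {g : G}
    (hg : ∀ e ∈ E, g * e * g⁻¹ ∈ E) (hgz : g * z = z * g) : ∃ P Q, It E ρ g P Q := by
  classical
  haveI := Fintype.ofFinite E
  let φ : E →* E :=
    { toFun := fun e => ⟨g * e * g⁻¹, hg e e.2⟩
      map_one' := Subtype.ext (by simp)
      map_mul' := fun x y => Subtype.ext (by
        show g * (x * y : G) * g⁻¹ = (g * x * g⁻¹) * (g * y * g⁻¹)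
        group) }
  let σ : Representation ℂ E V := m.rep.comp φ
  have hσ : ∀ e : E, σ e = ρ (g * e * g⁻¹) := fun e => rfl
  have hchar : m.rep.character = σ.character := by
    ext e
    show LinearMap.trace ℂ V (ρ e) = LinearMap.trace ℂ V (ρ (g * e * g⁻¹))
    by_cases h1 : (e : G) = 1
    · rw [h1]; simp
    by_cases h2 : (e : G) = z
    · rw [h2, hgz, mul_inv_cancel_right]
    rw [m.trace_zero h e.2 h1 h2, m.trace_zero h (hg e e.2)]
    · intro h3
      apply h1
      have h4 : (e : G) = g⁻¹ * (g * e * g⁻¹) * g := by group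
      rw [h4, h3]; group
    · intro h3
      apply h2
      have h4 : (e : G) = g⁻¹ * (g * e * g⁻¹) * g := by group
      rw [h4, h3, mul_assoc, ← hgz]; group
  have hn : classInner σ.character m.rep.character ≠ 0 := by
    rw [← hchar, m.norm_one h]; exact one_ne_zero
  obtain ⟨f⟩ := H19.ProjExt.equiv_of_inner m.rep σ (m.irr h) hn rfl
  refine ⟨f.toLinearEquiv.toLinearMap, f.toLinearEquiv.symm.toLinearMap, ?_, ?_, ?_⟩
  · exact LinearMap.ext fun v => f.toLinearEquiv.apply_symm_apply v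
  · exact LinearMap.ext fun v => f.toLinearEquiv.symm_apply_apply v
  · intro e he
    ext v
    have h5 := f.isIntertwining' ⟨e, he⟩
    have h6 := congrArg (fun B : V →ₗ[ℂ] V => B v) h5
    exact h6

theorem It.it2 {g : G} {P Q : Module.End ℂ V} (h : It E ρ g P Q) :
    ∀ e ∈ E, Q * ρ (g * e * g⁻¹) = ρ e * Q := by
  intro e he
  calc Q * ρ (g * e * g⁻¹) = Q * (ρ (g * e * g⁻¹) * P) * Q := by
        have h0 : ρ (g * e * g⁻¹) = ρ (g * e * g⁻¹) * P * Q := by rw [mul_assoc _ P, h.pq, mul_one]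
        conv_lhs => rw [h0]
        rw [← mul_assoc]
    _ = (Q * P) * ρ e * Q := by rw [← h.it e he]; simp only [mul_assoc]
    _ = _ := by rw [h.qp, one_mul]

/-- uniqueness -/
theorem Md.unique [Finite G] (m : Md E z ρ) (h : Sp E z) {g : G} {P Q P' : Module.End ℂ V}
    (hP : It E ρ g P Q) (hP' : ∀ e ∈ E, P' * ρ e = ρ (g * e * g⁻¹) * P') :
    ∃ c : ℂ, P' = c • P := by
  obtain ⟨c, hc⟩ := m.schur h (A := Q * P') (fun e he => by
    rw [mul_assoc, hP' e he, ← mul_assoc, hP.it2 e he, mul_assoc])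
  refine ⟨c, ?_⟩
  calc P' = P * (Q * P') := by rw [← mul_assoc, hP.pq, one_mul]
    _ = _ := by rw [hc, mul_smul_comm, mul_one]

/-- the trace formula -/
theorem Md.trace_formula [Finite G] (m : Md E z ρ) (h : Sp E z) {g : G} {P Q : Module.End ℂ V}
    (hP : It E ρ g P Q) (hg : ∀ e ∈ E, g * e * g⁻¹ ∈ E) (hgz : g * z = z * g)
    (hfix : ∀ e ∈ E, (e * (g * e⁻¹ * g⁻¹) = 1 ∨ e * (g * e⁻¹ * g⁻¹) = z) → e = 1 ∨ e = z) :
    LinearMap.trace ℂ V P * LinearMap.trace ℂ V Q = 1 := by
  classical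
  haveI := Fintype.ofFinite E
  set S : Module.End ℂ V := ∑ e : E, ρ e * P * ρ (e : G)⁻¹ with hS
  obtain ⟨c, hc⟩ := m.schur h (A := S) (fun x hx => by
    rw [hS, Finset.sum_mul, Finset.mul_sum]
    refine Fintype.sum_equiv (Equiv.mulLeft (⟨x, hx⟩⁻¹ : E)) _ _ fun e => ?_
    have h1 : (((Equiv.mulLeft (⟨x, hx⟩⁻¹ : E)) e : E) : G) = x⁻¹ * e := rfl
    rw [h1, mul_inv_rev, inv_inv, m.mul _ (E.inv_mem hx) _ e.2, m.mul _ (E.inv_mem e.2) _ hx]
    have h2 := m.mul_inv hx
    calc ρ e * P * ρ (e : G)⁻¹ * ρ x = 1 * (ρ e * P * (ρ (e : G)⁻¹ * ρ x)) := by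
          rw [one_mul, mul_assoc]
      _ = _ := by rw [← h2]; simp only [mul_assoc])
  have h1 : LinearMap.trace ℂ V S = (Nat.card E : ℂ) * LinearMap.trace ℂ V P := by
    rw [hS, map_sum, Finset.sum_congr rfl (fun (e : E) _ => show
      LinearMap.trace ℂ V (ρ e * P * ρ (e : G)⁻¹) = LinearMap.trace ℂ V P by
        rw [LinearMap.trace_mul_comm, ← mul_assoc, m.inv_mul e.2, one_mul])]
    simp
  have h2 : LinearMap.trace ℂ V S = c * Module.finrank ℂ V := by
    rw [hc, map_smul, LinearMap.trace_one ℂ V, smul_eq_mul]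
  have h3 : ∑ e : E, ρ ((e : G) * (g * (e : G)⁻¹ * g⁻¹)) = c • Q := by
    have h4 : S * Q = c • Q := by rw [hc, smul_mul_assoc, one_mul]
    rw [← h4, hS, Finset.sum_mul]
    refine Finset.sum_congr rfl fun e _ => ?_
    rw [mul_assoc (ρ e), hP.it _ (E.inv_mem e.2), m.mul _ e.2 _ (hg _ (E.inv_mem e.2))]
    simp only [mul_assoc]
    rw [hP.pq, mul_one]
  have h5 : LinearMap.trace ℂ V (∑ e : E, ρ ((e : G) * (g * (e : G)⁻¹ * g⁻¹)))
      = 2 * Module.finrank ℂ V := by
    rw [map_sum]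
    have h6 : ∀ e : E, LinearMap.trace ℂ V (ρ ((e : G) * (g * (e : G)⁻¹ * g⁻¹)))
        = if e ∈ ({1, ⟨z, h.zm⟩} : Finset E) then (Module.finrank ℂ V : ℂ) else 0 := by
      intro e
      split_ifs with he
      · rw [Finset.mem_insert, Finset.mem_singleton] at he
        have h7 : (e : G) * (g * (e : G)⁻¹ * g⁻¹) = 1 := by
          rcases he with rfl | rfl
          · simp
          · show z * (g * z⁻¹ * g⁻¹) = 1
            have h8 : z⁻¹ = z := inv_eq_of_mul_eq_one_left h.zz
            rw [h8, hgz, mul_inv_cancel_right, h.zz]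
        rw [h7, m.trace_one]
      · rw [Finset.mem_insert, Finset.mem_singleton, not_or] at he
        apply m.trace_zero h (E.mul_mem e.2 (hg _ (E.inv_mem e.2)))
        · intro h8
          rcases hfix e e.2 (Or.inl h8) with h9 | h9
          · exact he.1 (Subtype.ext h9)
          · exact he.2 (Subtype.ext h9)
        · intro h8
          rcases hfix e e.2 (Or.inr h8) with h9 | h9
          · exact he.1 (Subtype.ext h9)
          · exact he.2 (Subtype.ext h9)
    rw [Finset.sum_congr rfl (fun e _ => h6 e), Finset.sum_ite_mem, Finset.univ_inter,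
      Finset.sum_const, Finset.card_pair]
    · simp
    · intro h'
      exact h.z1 (congrArg Subtype.val h').symm
  rw [h3, map_smul, smul_eq_mul] at h5
  rw [h1, ← m.cardC] at h2
  have hd := m.fr_ne
  have h6 : c = 2 * Module.finrank ℂ V * LinearMap.trace ℂ V P := by
    have h7 : (c - 2 * Module.finrank ℂ V * LinearMap.trace ℂ V P) * Module.finrank ℂ V = 0 := by
      linear_combination -h2
    rcases mul_eq_zero.1 h7 with h8 | h8
    · linear_combination h8
    · exact absurd h8 hd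
  rw [h6] at h5
  have h7 : (2 * Module.finrank ℂ V : ℂ) *
      (LinearMap.trace ℂ V P * LinearMap.trace ℂ V Q - 1) = 0 := by linear_combination h5
  rcases mul_eq_zero.1 h7 with h8 | h8
  · exact absurd h8 (mul_ne_zero two_ne_zero hd)
  · linear_combination h8

/-- the total function attached to a representation of `E` -/
noncomputable def tot (E : Subgroup G) (σ : Representation ℂ E V) (g : G) : Module.End ℂ V :=
  open Classical in if hg : g ∈ E then σ ⟨g, hg⟩ else 1

theorem tot_apply (σ : Representation ℂ E V) {g : G} (hg : g ∈ E) : tot E σ g = σ ⟨g, hg⟩ := by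
  unfold tot
  rw [dif_pos hg]

theorem Sp.md_of_rep [Finite G] (h : Sp E z) (σ : Representation ℂ E V) (hσ : σ.IsIrreducible)
    (hne : σ.character ⟨z, h.zm⟩ ≠ σ.character 1) : Md E z (tot E σ) := by
  classical
  haveI := Fintype.ofFinite E
  have hχ' := isIrrCharacter_of_rep σ hσ
  set ze : E := ⟨z, h.zm⟩ with hze
  let s : E → Module.End ℂ V := fun x => σ x
  have s_mul : ∀ x y, s (x * y) = s x * s y := fun x y => map_mul σ x y
  have s_one : s 1 = 1 := map_one σ
  have s_char : ∀ x, σ.character x = LinearMap.trace ℂ V (s x) := fun x => rfl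
  obtain ⟨c, hc⟩ := H15.Commutant.schur σ hσ (T := s ze) (fun g v => by
    have h1 : s ze * s g = s g * s ze := by
      rw [← s_mul, ← s_mul]
      congr 1
      exact Subtype.ext (h.zc g g.2)
    exact congrArg (fun B : Module.End ℂ _ => B v) h1)
  have hz1 : s ze = c • (1 : Module.End ℂ V) := LinearMap.ext fun v => by simpa using hc v
  set n := Module.finrank ℂ V with hndef
  have hn : 0 < n := H15.Commutant.finrank_pos_of_irr σ hσ
  have hn0 : (n : ℂ) ≠ 0 := by exact_mod_cast hn.ne'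
  have htr1 : LinearMap.trace ℂ V (1 : Module.End ℂ V) = n := LinearMap.trace_one ℂ V
  have hcc : c * c = 1 := by
    have h2 : s ze * s ze = 1 := by
      rw [← s_mul, show ze * ze = 1 from Subtype.ext h.zz, s_one]
    rw [hz1, smul_mul_smul_comm, mul_one] at h2
    have h3 := congrArg (fun B : Module.End ℂ V => LinearMap.trace ℂ V B) h2
    simp only [map_smul, htr1, smul_eq_mul] at h3
    have h4 : (c * c - 1) * (n : ℂ) = 0 := by linear_combination h3
    rcases mul_eq_zero.1 h4 with h5 | h5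
    · linear_combination h5
    · exact absurd h5 hn0
  have hc1 : c ≠ 1 := by
    rintro rfl
    apply hne
    rw [s_char, s_char, hz1, one_smul, s_one]
  have hcm : c = -1 := by
    have h3 : (c - 1) * (c + 1) = 0 := by linear_combination hcc
    rcases mul_eq_zero.1 h3 with h4 | h4
    · exact absurd (by linear_combination h4) hc1
    · linear_combination h4
  have hzm : s ze = -1 := by rw [hz1, hcm, neg_smul, one_smul]
  have htr : ∀ x : E, x ≠ 1 → x ≠ ze → σ.character x = 0 := by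
    intro x hx1 hxz
    have h2 : ¬ ∀ y ∈ E, (x : G) * y = y * x := fun h3 => by
      rcases h.nd x x.2 h3 with h4 | h4
      · exact hx1 (Subtype.ext h4)
      · exact hxz (Subtype.ext h4)
    push Not at h2
    obtain ⟨y, hy, hxy⟩ := h2
    have h3 := (h.cm x x.2 y hy).resolve_left hxy
    have h4 : x * ⟨y, hy⟩ = ze * (⟨y, hy⟩ * x) := Subtype.ext h3
    have h5 : s x * s ⟨y, hy⟩ = - (s ⟨y, hy⟩ * s x) := by
      rw [← s_mul, h4, s_mul, hzm, s_mul, neg_mul, one_mul]
    have h6 : s x = -(s ⟨y, hy⟩ * (s x * s (⟨y, hy⟩⁻¹ : E))) := by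
      calc s x = s x * (s ⟨y, hy⟩ * s (⟨y, hy⟩⁻¹ : E)) := by
            rw [← s_mul, mul_inv_cancel, s_one, mul_one]
        _ = (s x * s ⟨y, hy⟩) * s (⟨y, hy⟩⁻¹ : E) := by rw [mul_assoc]
        _ = _ := by rw [h5, neg_mul, mul_assoc]
    have h7 : LinearMap.trace ℂ _ (s ⟨y, hy⟩ * (s x * s (⟨y, hy⟩⁻¹ : E)))
        = LinearMap.trace ℂ _ (s x) := by
      rw [LinearMap.trace_mul_comm, mul_assoc, ← s_mul, inv_mul_cancel, s_one, mul_one]
    have h8 : LinearMap.trace ℂ _ (s x) = -LinearMap.trace ℂ _ (s x) := by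
      conv_lhs => rw [h6]
      rw [map_neg, h7]
    have h9 : (2 : ℂ) * LinearMap.trace ℂ _ (s x) = 0 := by linear_combination h8
    rw [s_char]
    simpa using h9
  have hdeg : σ.character 1 = n := by rw [char_one]
  have hdegz : σ.character ze = -n := by
    rw [s_char, hzm, map_neg, htr1]
  have hnorm := inner_irr_self hχ'
  have hcard : (2 : ℂ) * (n : ℂ) ^ 2 = Nat.card E := by
    rw [classInner] at hnorm
    have h1 : ∀ e : E, σ.character e * conj (σ.character e)
        = if e ∈ ({1, ze} : Finset E) then (n : ℂ) ^ 2 else 0 := by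
      intro e
      split_ifs with he
      · rw [Finset.mem_insert, Finset.mem_singleton] at he
        rcases he with rfl | rfl
        · rw [hdeg, Complex.conj_natCast, pow_two]
        · rw [hdegz, map_neg, Complex.conj_natCast]; ring
      · rw [Finset.mem_insert, Finset.mem_singleton, not_or] at he
        rw [htr e he.1 he.2, zero_mul]
    rw [Finset.sum_congr rfl (fun e _ => h1 e), Finset.sum_ite_mem, Finset.univ_inter,
      Finset.sum_const, Finset.card_pair] at hnorm
    · have h0 : (Nat.card E : ℂ) ≠ 0 := by exact_mod_cast Nat.card_pos.ne'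
      rw [nsmul_eq_mul] at hnorm
      field_simp at hnorm
      push_cast at hnorm
      linear_combination hnorm
    · intro h'
      exact h.z1 (congrArg Subtype.val h').symm
  refine ⟨?_, ?_, ?_, ?_⟩
  · rw [tot_apply σ E.one_mem]
    exact map_one σ
  · intro x hx y hy
    rw [tot_apply σ (E.mul_mem hx hy), tot_apply σ hx, tot_apply σ hy]
    exact s_mul ⟨x, hx⟩ ⟨y, hy⟩
  · rw [tot_apply σ h.zm]
    exact hzm
  · exact_mod_cast hcard

/-- existence of the representation -/
theorem Sp.exists_md [Finite G] (h : Sp E z) :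
    ∃ (n : ℕ) (ρ : G → Module.End ℂ (Fin n → ℂ)), Md E z ρ := by
  classical
  have hex : ∃ χ : E → ℂ, IsIrrCharacter E χ ∧ χ ⟨z, h.zm⟩ ≠ χ 1 := by
    by_contra hcon
    push Not at hcon
    exact h.z1 (congrArg Subtype.val (H18.CharQuot.eq_one_of_forall_irr (g := (⟨z, h.zm⟩ : E)) hcon))
  obtain ⟨χ, hχ, hne⟩ := hex
  obtain ⟨n, σ, hσ, rfl⟩ := hχ
  exact ⟨n, _, h.md_of_rep σ hσ hne⟩

end H49.XE
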