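import Cfsg.Agent.Lib.H49.XE2
import Cfsg.Agent.Lib.H3.CardSup

/-!
# Products and cyclic extensions
-/

set_option autoImplicit false
set_option linter.unusedSectionVars false
set_option linter.style.haveILetI false
set_option linter.unusedVariables false

namespace H49.XE

open scoped TensorProduct

universe u

variable {G : Type u} [Group G]

/-- a lift of the action of `R` -/
structure Lf {V : Type} [AddCommGroup V] [Module ℂ V] (E R : Subgroup G)
    (ρ T : G → Module.End ℂ V) : Prop where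
  one : T 1 = 1
  mul : ∀ x ∈ R, ∀ y ∈ R, T (x * y) = T x * T y
  cj : ∀ c ∈ R, ∀ e ∈ E, T c * ρ e = ρ (c * e * c⁻¹) * T c

def Pr (E R : Subgroup G) (z : G) : Prop :=
  ∃ (V : Type) (_ : AddCommGroup V) (_ : Module ℂ V) (_ : FiniteDimensional ℂ V)
    (ρ T : G → Module.End ℂ V), Md E z ρ ∧ Lf E R ρ T

section prod

variable {V W : Type} [AddCommGroup V] [Module ℂ V] [FiniteDimensional ℂ V]
  [AddCommGroup W] [Module ℂ W] [FiniteDimensional ℂ W] {A B R : Subgroup G} {z : G}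
  {ρ T : G → Module.End ℂ V} {σ S : G → Module.End ℂ W}

open Classical in
noncomputable def pd (A B : Subgroup G) (ρ : G → Module.End ℂ V) (σ : G → Module.End ℂ W) (g : G) :
    Module.End ℂ (V ⊗[ℂ] W) :=
  if h : ∃ p : G × G, p.1 ∈ A ∧ p.2 ∈ B ∧ p.1 * p.2 = g then
    TensorProduct.map (ρ h.choose.1) (σ h.choose.2) else 1

theorem pd_apply (hA : Sp A z) (hB : Sp B z) (hc : ∀ a ∈ A, ∀ b ∈ B, a * b = b * a)
    (m : Md A z ρ) (m' : Md B z σ) {a b : G} (ha : a ∈ A) (hb : b ∈ B) :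
    pd A B ρ σ (a * b) = TensorProduct.map (ρ a) (σ b) := by
  have h : ∃ p : G × G, p.1 ∈ A ∧ p.2 ∈ B ∧ p.1 * p.2 = a * b := ⟨(a, b), ha, hb, rfl⟩
  unfold pd
  rw [dif_pos h]
  obtain ⟨h1, h2, h3⟩ := h.choose_spec
  set a' := h.choose.1
  set b' := h.choose.2
  have h4 : a⁻¹ * a' = b * b'⁻¹ := by
    calc a⁻¹ * a' = a⁻¹ * (a' * b') * b'⁻¹ := by group
      _ = _ := by rw [h3]; group
  have h5 : a⁻¹ * a' ∈ B := by rw [h4]; exact B.mul_mem hb (B.inv_mem h2)
  have h6 := hA.nd _ (A.mul_mem (A.inv_mem ha) h1) (fun y hy => (hc y hy _ h5).symm)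
  rcases h6 with h7 | h7
  · have h8 : a' = a := by
      rw [inv_mul_eq_one] at h7; exact h7.symm
    have h9 : b' = b := by
      rw [h4, mul_inv_eq_one] at h7; exact h7.symm
    rw [h8, h9]
  · have h8 : a' = a * z := by rw [← h7]; group
    have h9 : b = z * b' := by rw [← h7, h4]; group
    rw [h8, h9, m.mul a ha z hA.zm, m'.mul z hB.zm b' h2, m.z, m'.z, mul_neg, mul_one, neg_mul,
      one_mul]
    ext v w
    simp [TensorProduct.tmul_neg, TensorProduct.neg_tmul]

theorem pd_left (hA : Sp A z) (hB : Sp B z) (hc : ∀ a ∈ A, ∀ b ∈ B, a * b = b * a)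
    (m : Md A z ρ) (m' : Md B z σ) {a : G} (ha : a ∈ A) :
    pd A B ρ σ a = TensorProduct.map (ρ a) 1 := by
  have := pd_apply hA hB hc m m' ha B.one_mem
  rwa [mul_one, m'.one] at this

theorem pd_right (hA : Sp A z) (hB : Sp B z) (hc : ∀ a ∈ A, ∀ b ∈ B, a * b = b * a)
    (m : Md A z ρ) (m' : Md B z σ) {b : G} (hb : b ∈ B) :
    pd A B ρ σ b = TensorProduct.map 1 (σ b) := by
  have := pd_apply hA hB hc m m' A.one_mem hb
  rwa [one_mul, m.one] at this

theorem Md.pd [Finite G] (hA : Sp A z) (hB : Sp B z) (hc : ∀ a ∈ A, ∀ b ∈ B, a * b = b * a)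
    (m : Md A z ρ) (m' : Md B z σ) : Md (A ⊔ B) z (pd A B ρ σ) where
  one := by
    rw [pd_left hA hB hc m m' A.one_mem, m.one]
    exact TensorProduct.map_one
  mul := by
    intro x hx y hy
    obtain ⟨a, ha, b, hb, rfl⟩ := sup_dec hc x hx
    obtain ⟨a', ha', b', hb', rfl⟩ := sup_dec hc y hy
    have h1 : a * b * (a' * b') = (a * a') * (b * b') := by
      calc a * b * (a' * b') = a * (b * a') * b' := by group
        _ = _ := by rw [← hc a' ha' b hb]; group
    rw [h1, pd_apply hA hB hc m m' (A.mul_mem ha ha') (B.mul_mem hb hb'),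
      pd_apply hA hB hc m m' ha hb, pd_apply hA hB hc m m' ha' hb', m.mul a ha a' ha',
      m'.mul b hb b' hb', TensorProduct.map_mul]
  z := by
    rw [pd_left hA hB hc m m' hA.zm, m.z]
    ext v w
    simp [TensorProduct.tmul_neg, TensorProduct.neg_tmul]
  card := by
    have hN : A ≤ Subgroup.normalizer (B : Set G) := by
      intro a ha
      rw [Subgroup.mem_normalizer_iff]
      intro b
      constructor
      · intro hb
        have h0 : b ∈ B := hb
        show a * b * a⁻¹ ∈ B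
        rw [hc a ha b h0, mul_inv_cancel_right]; exact h0
      · intro hb
        have h0 : a * b * a⁻¹ ∈ B := hb
        have h1 := hc a⁻¹ (A.inv_mem ha) _ h0
        have h2 : a⁻¹ * (a * b * a⁻¹) * a = b := by group
        show b ∈ B
        rw [← h2, h1]
        simpa using h0
    have h1 := H3.CardSup.card_sup_mul_card_inf A B hN
    have h2 : Nat.card (A ⊓ B : Subgroup G) = 2 := by
      have h3 : ((A ⊓ B : Subgroup G) : Set G) = {1, z} := by
        ext x
        simp only [SetLike.mem_coe, Set.mem_insert_iff, Set.mem_singleton_iff]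
        constructor
        · rintro ⟨hx1, hx2⟩
          exact hA.nd x hx1 (fun y hy => (hc y hy x hx2).symm)
        · rintro (rfl | rfl)
          · exact Subgroup.one_mem _
          · exact ⟨hA.zm, hB.zm⟩
      have h4 : Nat.card (A ⊓ B : Subgroup G) = ((A ⊓ B : Subgroup G) : Set G).ncard := rfl
      rw [h4, h3, Set.ncard_pair (Ne.symm hA.z1)]
    rw [h2, ← m.card, ← m'.card] at h1
    rw [Module.finrank_tensorProduct]
    have h5 : Nat.card ↥(A ⊔ B) * 2 = (2 * (Module.finrank ℂ V * Module.finrank ℂ W) ^ 2) * 2 := by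
      rw [h1]; ring
    omega

theorem Lf.pd [Finite G] (hA : Sp A z) (hB : Sp B z) (hc : ∀ a ∈ A, ∀ b ∈ B, a * b = b * a)
    (m : Md A z ρ) (m' : Md B z σ) (hRA : ∀ c ∈ R, ∀ a ∈ A, c * a * c⁻¹ ∈ A)
    (hRB : ∀ c ∈ R, ∀ a ∈ B, c * a * c⁻¹ ∈ B) (l : Lf A R ρ T) (l' : Lf B R σ S) :
    Lf (A ⊔ B) R (H49.XE.pd A B ρ σ) (fun c => TensorProduct.map (T c) (S c)) where
  one := by
    show TensorProduct.map (T 1) (S 1) = 1
    rw [l.one, l'.one]; exact TensorProduct.map_one
  mul := by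
    intro x hx y hy
    show TensorProduct.map (T (x * y)) (S (x * y)) = TensorProduct.map (T x) (S x) *
      TensorProduct.map (T y) (S y)
    rw [l.mul x hx y hy, l'.mul x hx y hy, TensorProduct.map_mul]
  cj := by
    intro c hc' x hx
    obtain ⟨a, ha, b, hb, rfl⟩ := sup_dec hc x hx
    have h1 : c * (a * b) * c⁻¹ = (c * a * c⁻¹) * (c * b * c⁻¹) := by group
    show TensorProduct.map (T c) (S c) * _ = _ * TensorProduct.map (T c) (S c)
    rw [h1, pd_apply hA hB hc m m' ha hb, pd_apply hA hB hc m m' (hRA c hc' a ha) (hRB c hc' b hb),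
      ← TensorProduct.map_mul, ← TensorProduct.map_mul, l.cj c hc' a ha, l'.cj c hc' b hb]

end prod

theorem Pr.prod [Finite G] {A B R : Subgroup G} {z : G} (hA : Sp A z) (hB : Sp B z)
    (hc : ∀ a ∈ A, ∀ b ∈ B, a * b = b * a) (hRA : ∀ c ∈ R, ∀ a ∈ A, c * a * c⁻¹ ∈ A)
    (hRB : ∀ c ∈ R, ∀ a ∈ B, c * a * c⁻¹ ∈ B) (h : Pr A R z) (h' : Pr B R z) :
    Pr (A ⊔ B) R z := by
  obtain ⟨V, _, _, _, ρ, T, m, l⟩ := h
  obtain ⟨W, _, _, _, σ, S, m', l'⟩ := h'
  exact ⟨V ⊗[ℂ] W, inferInstance, inferInstance, inferInstance, _, _, m.pd hA hB hc m',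
    l.pd hA hB hc m m' hRA hRB l'⟩

end H49.XE
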