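import Cfsg.Agent.Lib.H49.XE3

/-!
# Cyclic extensions and doubling
-/

set_option autoImplicit false
set_option linter.unusedSectionVars false
set_option linter.style.haveILetI false
set_option linter.unusedVariables false

namespace H49.XE

open scoped TensorProduct

universe u

variable {G : Type u} [Group G]

section cyc

variable {V : Type} [AddCommGroup V] [Module ℂ V] [FiniteDimensional ℂ V] {E : Subgroup G} {z : G}
  {ρ T₀ : G → Module.End ℂ V}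

theorem It.pow {g : G} {P Q : Module.End ℂ V} (h : It E ρ g P Q)
    (hg : ∀ e ∈ E, g * e * g⁻¹ ∈ E) (n : ℕ) :
    It E ρ (g ^ n) (P ^ n) (Q ^ n) ∧ ∀ e ∈ E, g ^ n * e * (g ^ n)⁻¹ ∈ E := by
  induction n with
  | zero =>
    refine ⟨⟨by simp, by simp, fun e he => by simp⟩, fun e he => by simpa using he⟩
  | succ n ih =>
    obtain ⟨ih1, ih2⟩ := ih
    refine ⟨⟨?_, ?_, ?_⟩, ?_⟩
    · rw [pow_succ P, pow_succ' Q]
      calc P ^ n * P * (Q * Q ^ n) = P ^ n * (P * Q) * Q ^ n := by simp only [mul_assoc]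
        _ = 1 := by rw [h.pq, mul_one, ih1.pq]
    · rw [pow_succ' P, pow_succ Q]
      calc Q ^ n * Q * (P * P ^ n) = Q ^ n * (Q * P) * P ^ n := by simp only [mul_assoc]
        _ = 1 := by rw [h.qp, mul_one, ih1.qp]
    · intro e he
      have h1 : g ^ (n + 1) * e * (g ^ (n + 1))⁻¹ = g ^ n * (g * e * g⁻¹) * (g ^ n)⁻¹ := by
        rw [pow_succ]; group
      rw [h1, pow_succ, mul_assoc, h.it e he, ← mul_assoc, ih1.it _ (hg e he), mul_assoc]
    · intro e he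
      have h1 : g ^ (n + 1) * e * (g ^ (n + 1))⁻¹ = g ^ n * (g * e * g⁻¹) * (g ^ n)⁻¹ := by
        rw [pow_succ]; group
      rw [h1]
      exact ih2 _ (hg e he)

theorem Lf.it {R : Subgroup G} {T : G → Module.End ℂ V} (l : Lf E R ρ T) {c : G} (hc : c ∈ R) :
    It E ρ c (T c) (T c⁻¹) where
  pq := by rw [← l.mul c hc _ (R.inv_mem hc), mul_inv_cancel, l.one]
  qp := by rw [← l.mul _ (R.inv_mem hc) c hc, inv_mul_cancel, l.one]
  it := l.cj c hc

theorem Lf.cyclic [Finite G] (h : Sp E z) (m : Md E z ρ) {R₀ R : Subgroup G} (hle : R₀ ≤ R) {g : G}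
    (hgE : ∀ e ∈ E, g * e * g⁻¹ ∈ E) (hgR : ∀ x ∈ R₀, g * x * g⁻¹ ∈ R₀)
    (hgen : ∀ c ∈ R, ∃ x ∈ R₀, ∃ n : ℕ, c = x * g ^ n) (l : Lf E R₀ ρ T₀)
    {P Q : Module.End ℂ V} (hP : It E ρ g P Q)
    (hPT : ∀ x ∈ R₀, P * T₀ x = T₀ (g * x * g⁻¹) * P) : ∃ T, Lf E R ρ T := by
  classical
  have hex : ∃ n : ℕ, 0 < n ∧ g ^ n ∈ R₀ :=
    ⟨orderOf g, orderOf_pos g, by rw [pow_orderOf_eq_one]; exact R₀.one_mem⟩
  set k := Nat.find hex with hk
  obtain ⟨hk0, hkR⟩ := Nat.find_spec hex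
  have hmin : ∀ j, g ^ j ∈ R₀ → 0 < j → k ≤ j := fun j hj hj0 => Nat.find_min' hex ⟨hj0, hj⟩
  obtain ⟨c, hc⟩ := m.unique h (hP.pow hgE k).1 (P' := T₀ (g ^ k)) (l.cj _ hkR)
  have hone : (1 : Module.End ℂ V) ≠ 0 := by
    intro h0
    have h1 := LinearMap.trace_one ℂ V
    rw [h0, map_zero] at h1
    exact m.fr_ne h1.symm
  have hc0 : c ≠ 0 := by
    rintro rfl
    rw [zero_smul] at hc
    have h1 := (l.it hkR).pq
    rw [hc, zero_mul] at h1
    exact hone h1.symm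
  obtain ⟨b, hb⟩ := IsAlgClosed.exists_pow_nat_eq c hk0
  have hb0 : b ≠ 0 := by
    rintro rfl
    rw [zero_pow hk0.ne'] at hb
    exact hc0 hb.symm
  set P' := b • P with hP'
  have hit : It E ρ g P' (b⁻¹ • Q) := by
    refine ⟨?_, ?_, ?_⟩
    · rw [hP', smul_mul_smul_comm, mul_inv_cancel₀ hb0, one_smul, hP.pq]
    · rw [hP', smul_mul_smul_comm, inv_mul_cancel₀ hb0, one_smul, hP.qp]
    · intro e he
      rw [hP', smul_mul_assoc, hP.it e he, mul_smul_comm]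
  have hPT' : ∀ x ∈ R₀, P' * T₀ x = T₀ (g * x * g⁻¹) * P' := by
    intro x hx
    rw [hP', smul_mul_assoc, hPT x hx, mul_smul_comm]
  have hPk : P' ^ k = T₀ (g ^ k) := by
    rw [hP', smul_pow, hb, hc]
  have hpow : ∀ n : ℕ, (∀ x ∈ R₀, P' ^ n * T₀ x = T₀ (g ^ n * x * (g ^ n)⁻¹) * P' ^ n) ∧
      ∀ x ∈ R₀, g ^ n * x * (g ^ n)⁻¹ ∈ R₀ := by
    intro n
    induction n with
    | zero => exact ⟨fun x hx => by simp, fun x hx => by simpa using hx⟩
    | succ n ih =>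
      have h1 : ∀ x, g ^ (n + 1) * x * (g ^ (n + 1))⁻¹ = g ^ n * (g * x * g⁻¹) * (g ^ n)⁻¹ := by
        intro x
        rw [pow_succ]; group
      refine ⟨fun x hx => ?_, fun x hx => ?_⟩
      · rw [h1, pow_succ, mul_assoc, hPT' x hx, ← mul_assoc, ih.1 _ (hgR x hx), mul_assoc]
      · rw [h1]
        exact ih.2 _ (hgR x hx)
  have hpw : ∀ n : ℕ, g ^ n ∈ R₀ → P' ^ n = T₀ (g ^ n) := by
    intro n
    induction n using Nat.strong_induction_on with
    | _ n ih =>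
      intro hn
      rcases Nat.eq_zero_or_pos n with rfl | hn0
      · simp [l.one]
      · have h1 := hmin n hn hn0
        have h2 : g ^ n = g ^ (n - k) * g ^ k := by rw [← pow_add, Nat.sub_add_cancel h1]
        have h3 : g ^ (n - k) ∈ R₀ := by
          have h4 : g ^ (n - k) = g ^ n * (g ^ k)⁻¹ := by rw [h2]; group
          rw [h4]
          exact R₀.mul_mem hn (R₀.inv_mem hkR)
        have h4 := ih (n - k) (by omega) h3
        rw [h2, l.mul _ h3 _ hkR, ← h4, ← hPk, ← pow_add, Nat.sub_add_cancel h1]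
  have hwd : ∀ (x y : G) (n j : ℕ), x ∈ R₀ → y ∈ R₀ → j ≤ n → x * g ^ n = y * g ^ j →
      T₀ x * P' ^ n = T₀ y * P' ^ j := by
    intro x y n j hx hy hjn hxy
    have h1 : g ^ n = g ^ (n - j) * g ^ j := by rw [← pow_add, Nat.sub_add_cancel hjn]
    have h2 : x * g ^ (n - j) = y := by
      rw [h1, ← mul_assoc] at hxy
      exact mul_right_cancel hxy
    have h3 : g ^ (n - j) ∈ R₀ := by
      have h4 : g ^ (n - j) = x⁻¹ * y := by rw [← h2]; group
      rw [h4]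
      exact R₀.mul_mem (R₀.inv_mem hx) hy
    rw [← h2, l.mul x hx _ h3, ← hpw _ h3, mul_assoc, ← pow_add, Nat.sub_add_cancel hjn]
  let T : G → Module.End ℂ V := fun c =>
    if hh : ∃ p : G × ℕ, p.1 ∈ R₀ ∧ c = p.1 * g ^ p.2 then
      T₀ hh.choose.1 * P' ^ hh.choose.2 else 1
  have hT : ∀ x ∈ R₀, ∀ n : ℕ, T (x * g ^ n) = T₀ x * P' ^ n := by
    intro x hx n
    have hh : ∃ p : G × ℕ, p.1 ∈ R₀ ∧ x * g ^ n = p.1 * g ^ p.2 := ⟨(x, n), hx, rfl⟩
    show (if hh : ∃ p : G × ℕ, p.1 ∈ R₀ ∧ x * g ^ n = p.1 * g ^ p.2 then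
      T₀ hh.choose.1 * P' ^ hh.choose.2 else 1) = _
    rw [dif_pos hh]
    obtain ⟨h1, h2⟩ := hh.choose_spec
    rcases le_total hh.choose.2 n with h3 | h3
    · exact (hwd _ _ _ _ hx h1 h3 h2).symm
    · exact hwd _ _ _ _ h1 hx h3 h2.symm
  refine ⟨T, ?_, ?_, ?_⟩
  · have := hT 1 R₀.one_mem 0
    rw [pow_zero, mul_one, pow_zero, mul_one, l.one] at this
    exact this
  · intro c hc d hd
    obtain ⟨x, hx, n, rfl⟩ := hgen c hc
    obtain ⟨y, hy, j, rfl⟩ := hgen d hd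
    have h1 : x * g ^ n * (y * g ^ j) = (x * (g ^ n * y * (g ^ n)⁻¹)) * g ^ (n + j) := by
      rw [pow_add]; group
    rw [h1, hT _ (R₀.mul_mem hx ((hpow n).2 y hy)), hT x hx, hT y hy,
      l.mul x hx _ ((hpow n).2 y hy), pow_add]
    calc T₀ x * T₀ (g ^ n * y * (g ^ n)⁻¹) * (P' ^ n * P' ^ j)
        = T₀ x * (T₀ (g ^ n * y * (g ^ n)⁻¹) * P' ^ n) * P' ^ j := by simp only [mul_assoc]
      _ = _ := by rw [← (hpow n).1 y hy]; simp only [mul_assoc]
  · intro c hc e he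
    obtain ⟨x, hx, n, rfl⟩ := hgen c hc
    obtain ⟨h2, h3⟩ := hit.pow hgE n
    rw [hT x hx, mul_assoc, h2.it e he, ← mul_assoc, l.cj x hx _ (h3 e he), mul_assoc]
    congr 2
    group

end cyc

theorem mem_conj {F : Subgroup G} {c y : G} :
    y ∈ F.map (MulAut.conj c).toMonoidHom ↔ c⁻¹ * y * c ∈ F := by
  constructor
  · rintro ⟨x, hx, rfl⟩
    have : c⁻¹ * (c * x * c⁻¹) * c = x := by group
    show c⁻¹ * (c * x * c⁻¹) * c ∈ F
    rw [this]; exact hx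
  · intro h
    exact ⟨_, h, show c * (c⁻¹ * y * c) * c⁻¹ = y by group⟩

theorem Sp.conj {E : Subgroup G} {z c : G} (h : Sp E z) (hc : c * z = z * c) :
    Sp (E.map (MulAut.conj c).toMonoidHom) z where
  zm := mem_conj.2 (by
    have : c⁻¹ * z * c = z := by rw [mul_assoc, ← hc]; group
    rw [this]; exact h.zm)
  z1 := h.z1
  zz := h.zz
  zc := by
    rintro _ ⟨x, hx, rfl⟩
    show z * (c * x * c⁻¹) = (c * x * c⁻¹) * z
    have h1 : c⁻¹ * z = z * c⁻¹ := by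
      calc c⁻¹ * z = c⁻¹ * (z * c) * c⁻¹ := by group
        _ = _ := by rw [← hc]; group
    calc z * (c * x * c⁻¹) = (z * c) * x * c⁻¹ := by group
      _ = c * (z * x) * c⁻¹ := by rw [← hc]; group
      _ = c * x * (z * c⁻¹) := by rw [h.zc x hx]; group
      _ = _ := by rw [← h1]; group
  cm := by
    rintro _ ⟨x, hx, rfl⟩ _ ⟨y, hy, rfl⟩
    show (c * x * c⁻¹) * (c * y * c⁻¹) = (c * y * c⁻¹) * (c * x * c⁻¹) ∨
      (c * x * c⁻¹) * (c * y * c⁻¹) = z * ((c * y * c⁻¹) * (c * x * c⁻¹))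
    have e1 : (c * x * c⁻¹) * (c * y * c⁻¹) = c * (x * y) * c⁻¹ := by group
    have e2 : (c * y * c⁻¹) * (c * x * c⁻¹) = c * (y * x) * c⁻¹ := by group
    rw [e1, e2]
    rcases h.cm x hx y hy with h1 | h1
    · left; rw [h1]
    · right
      rw [h1]
      calc c * (z * (y * x)) * c⁻¹ = (c * z) * (y * x) * c⁻¹ := by group
        _ = _ := by rw [hc]; group
  nd := by
    rintro _ ⟨x, hx, rfl⟩ hall
    have h1 := h.nd x hx (fun y hy => by
      have h2 : (c * x * c⁻¹) * (c * y * c⁻¹) = (c * y * c⁻¹) * (c * x * c⁻¹) :=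
        hall _ ⟨y, hy, rfl⟩
      have e1 : (c * x * c⁻¹) * (c * y * c⁻¹) = c * (x * y) * c⁻¹ := by group
      have e2 : (c * y * c⁻¹) * (c * x * c⁻¹) = c * (y * x) * c⁻¹ := by group
      rw [e1, e2] at h2
      exact mul_left_cancel (mul_right_cancel h2))
    show c * x * c⁻¹ = 1 ∨ c * x * c⁻¹ = z
    rcases h1 with rfl | rfl
    · left; simp
    · right; rw [hc]; group

/-- doubling -/
theorem Pr.double [Finite G] {F R₂ R : Subgroup G} {z c : G} (hF : Sp F z)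
    (hle : R₂ ≤ R) (hc : c ∈ R) (hcz : c * z = z * c) (hcc : c * c ∈ R₂)
    (hcR : ∀ x ∈ R₂, c * x * c⁻¹ ∈ R₂) (hcR' : ∀ x ∈ R₂, c⁻¹ * x * c ∈ R₂)
    (hgen : ∀ x ∈ R, x ∈ R₂ ∨ x * c⁻¹ ∈ R₂)
    (hRF : ∀ x ∈ R₂, ∀ a ∈ F, x * a * x⁻¹ ∈ F)
    (hcomm : ∀ a ∈ F, ∀ b ∈ F, a * (c * b * c⁻¹) = (c * b * c⁻¹) * a)
    (h : Pr F R₂ z) : Pr (F ⊔ F.map (MulAut.conj c).toMonoidHom) R z := by
  obtain ⟨V, _, _, _, ρ, T, m, l⟩ := h
  set F' := F.map (MulAut.conj c).toMonoidHom with hF'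
  have hS' : Sp F' z := hF.conj hcz
  have hco : ∀ a ∈ F, ∀ b ∈ F', a * b = b * a := by
    rintro a ha _ ⟨b, hb, rfl⟩
    exact hcomm a ha b hb
  have hci : c⁻¹ * z * c = z := by rw [mul_assoc, ← hcz]; group
  have m' : Md F' z (fun x => ρ (c⁻¹ * x * c)) := by
    refine ⟨?_, ?_, ?_, ?_⟩
    · show ρ (c⁻¹ * 1 * c) = 1
      rw [mul_one, inv_mul_cancel, m.one]
    · intro x hx y hy
      show ρ (c⁻¹ * (x * y) * c) = ρ (c⁻¹ * x * c) * ρ (c⁻¹ * y * c)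
      rw [← m.mul _ (mem_conj.1 hx) _ (mem_conj.1 hy)]
      congr 1; group
    · show ρ (c⁻¹ * z * c) = -1
      rw [hci, m.z]
    · rw [m.card]
      exact Nat.card_congr (F.equivMapOfInjective _ (MulAut.conj c).injective).toEquiv
  have l' : Lf F' R₂ (fun x => ρ (c⁻¹ * x * c)) (fun x => T (c⁻¹ * x * c)) := by
    refine ⟨?_, ?_, ?_⟩
    · show T (c⁻¹ * 1 * c) = 1
      rw [mul_one, inv_mul_cancel, l.one]
    · intro x hx y hy
      show T (c⁻¹ * (x * y) * c) = T (c⁻¹ * x * c) * T (c⁻¹ * y * c)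
      rw [← l.mul _ (hcR' x hx) _ (hcR' y hy)]
      congr 1; group
    · intro x hx e he
      show T (c⁻¹ * x * c) * ρ (c⁻¹ * e * c) = ρ (c⁻¹ * (x * e * x⁻¹) * c) * T (c⁻¹ * x * c)
      rw [l.cj _ (hcR' x hx) _ (mem_conj.1 he)]
      congr 2; group
  have hRF' : ∀ x ∈ R₂, ∀ a ∈ F', x * a * x⁻¹ ∈ F' := by
    intro x hx a ha
    rw [mem_conj] at ha ⊢
    have h1 := hRF _ (hcR' x hx) _ ha
    have h2 : c⁻¹ * x * c * (c⁻¹ * a * c) * (c⁻¹ * x * c)⁻¹ = c⁻¹ * (x * a * x⁻¹) * c := by group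
    rwa [h2] at h1
  have hcF : ∀ a ∈ F, c * a * c⁻¹ ∈ F' := fun a ha => mem_conj.2 (by
    have : c⁻¹ * (c * a * c⁻¹) * c = a := by group
    rw [this]; exact ha)
  have hcF' : ∀ b ∈ F', c * b * c⁻¹ ∈ F := by
    intro b hb
    have h1 := hRF _ hcc _ (mem_conj.1 hb)
    have h2 : c * c * (c⁻¹ * b * c) * (c * c)⁻¹ = c * b * c⁻¹ := by group
    rwa [h2] at h1
  have hM := m.pd hF hS' hco m'
  have hL := l.pd hF hS' hco m m' hRF hRF' l'
  let sw : Module.End ℂ (V ⊗[ℂ] V) := (TensorProduct.comm ℂ V V).toLinearMap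
  have hsw : ∀ f g : Module.End ℂ V, sw * TensorProduct.map f g = TensorProduct.map g f * sw := by
    intro f g
    apply TensorProduct.ext'
    intro v w
    rfl
  have hsw2 : sw * sw = 1 := by
    apply TensorProduct.ext'
    intro v w
    rfl
  let P : Module.End ℂ (V ⊗[ℂ] V) := TensorProduct.map (T (c * c)) 1 * sw
  let Q : Module.End ℂ (V ⊗[ℂ] V) := sw * TensorProduct.map (T (c * c)⁻¹) 1
  have hPQ : P * Q = 1 := by
    show TensorProduct.map (T (c * c)) 1 * sw * (sw * TensorProduct.map (T (c * c)⁻¹) 1) = 1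
    rw [mul_assoc, ← mul_assoc sw, hsw2, one_mul, ← TensorProduct.map_mul, (l.it hcc).pq, one_mul]
    exact TensorProduct.map_one
  have hQP : Q * P = 1 := by
    show sw * TensorProduct.map (T (c * c)⁻¹) 1 * (TensorProduct.map (T (c * c)) 1 * sw) = 1
    have h1 : TensorProduct.map (T (c * c)⁻¹) (1 : Module.End ℂ V) *
        TensorProduct.map (T (c * c)) (1 : Module.End ℂ V) = 1 := by
      rw [← TensorProduct.map_mul, (l.it hcc).qp, one_mul]
      exact TensorProduct.map_one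
    rw [mul_assoc, ← mul_assoc (TensorProduct.map (T (c * c)⁻¹) 1), h1, one_mul, hsw2]
  have hcE : ∀ e ∈ F ⊔ F', c * e * c⁻¹ ∈ F ⊔ F' := by
    intro e he
    obtain ⟨a, ha, b, hb, rfl⟩ := sup_dec hco e he
    have h1 : c * (a * b) * c⁻¹ = (c * a * c⁻¹) * (c * b * c⁻¹) := by group
    rw [h1]
    exact Subgroup.mul_mem _ (Subgroup.mem_sup_right (hcF a ha)) (Subgroup.mem_sup_left (hcF' b hb))
  have hIt : It (F ⊔ F') (pd F F' ρ (fun x => ρ (c⁻¹ * x * c))) c P Q := by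
    refine ⟨hPQ, hQP, ?_⟩
    intro e he
    obtain ⟨a, ha, b, hb, rfl⟩ := sup_dec hco e he
    have h1 : c * (a * b) * c⁻¹ = (c * b * c⁻¹) * (c * a * c⁻¹) := by
      rw [hco a ha b hb]; group
    rw [h1, pd_apply hF hS' hco m m' ha hb, pd_apply hF hS' hco m m' (hcF' b hb) (hcF a ha)]
    have h2 : c⁻¹ * (c * a * c⁻¹) * c = a := by group
    show TensorProduct.map (T (c * c)) 1 * sw * TensorProduct.map (ρ a) (ρ (c⁻¹ * b * c)) =
      TensorProduct.map (ρ (c * b * c⁻¹)) (ρ (c⁻¹ * (c * a * c⁻¹) * c)) *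
        (TensorProduct.map (T (c * c)) 1 * sw)
    rw [h2, mul_assoc, hsw, ← mul_assoc, ← mul_assoc, ← TensorProduct.map_mul,
      ← TensorProduct.map_mul, l.cj _ hcc _ (mem_conj.1 hb), one_mul, mul_one]
    have h3 : c * c * (c⁻¹ * b * c) * (c * c)⁻¹ = c * b * c⁻¹ := by group
    rw [h3]
  obtain ⟨T', hT'⟩ := Lf.cyclic (hF.sup hS' hco) hM hle (g := c) hcE hcR (fun x hx => by
    rcases hgen x hx with h1 | h1
    · exact ⟨x, h1, 0, by simp⟩
    · exact ⟨_, h1, 1, by group⟩) hL hIt (by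
    intro x hx
    show TensorProduct.map (T (c * c)) 1 * sw * TensorProduct.map (T x) (T (c⁻¹ * x * c)) =
      TensorProduct.map (T (c * x * c⁻¹)) (T (c⁻¹ * (c * x * c⁻¹) * c)) *
        (TensorProduct.map (T (c * c)) 1 * sw)
    have h2 : c⁻¹ * (c * x * c⁻¹) * c = x := by group
    rw [h2, mul_assoc, hsw, ← mul_assoc, ← mul_assoc, ← TensorProduct.map_mul,
      ← TensorProduct.map_mul, ← l.mul _ hcc _ (hcR' x hx), ← l.mul _ (hcR x hx) _ hcc, one_mul,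
      mul_one]
    congr 3
    group)
  exact ⟨V ⊗[ℂ] V, inferInstance, inferInstance, inferInstance, _, T', hM, hT'⟩

end H49.XE
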