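import Mathlib
import Cfsg.Agent.Lib.H18.CharOrtho

/-!
# Fourier analysis of an operator of prime order
-/

set_option autoImplicit false
set_option linter.unusedSectionVars false
set_option linter.style.haveILetI false
set_option linter.unusedVariables false

namespace H49.XE

open Cfsg Representation H18.CharBasic H18.CharOrtho
open scoped ComplexConjugate

section fourier

variable {r : ℕ} [NeZero r]

/-- finite Fourier transform -/
noncomputable def ft (f : ZMod r → ℂ) (j : ZMod r) : ℂ :=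
  (r : ℂ)⁻¹ * ∑ i : ZMod r, ZMod.stdAddChar (-(i * j)) * f i

theorem sum_std (b : ZMod r) : ∑ x : ZMod r, (ZMod.stdAddChar (x * b) : ℂ) = if b = 0 then (r : ℂ) else 0 := by
  have := AddChar.sum_mulShift b (ZMod.isPrimitive_stdAddChar r)
  rw [this]
  split_ifs <;> simp

theorem parseval_ft (f : ZMod r → ℂ) :
    ∑ j : ZMod r, ft f j * conj (ft f j) = (r : ℂ)⁻¹ * ∑ i : ZMod r, f i * conj (f i) := by
  have hr : (r : ℂ) ≠ 0 := by exact_mod_cast (NeZero.ne r)
  have h1 : ∀ j : ZMod r, ft f j * conj (ft f j) = (r : ℂ)⁻¹ * (r : ℂ)⁻¹ *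
      ∑ i : ZMod r, ∑ l : ZMod r, f i * conj (f l) * ZMod.stdAddChar (j * (l - i)) := by
    intro j
    unfold ft
    rw [map_mul, map_sum, map_inv₀, Complex.conj_natCast]
    rw [show ∀ a b c d : ℂ, a * b * (c * d) = a * c * (b * d) from fun a b c d => by ring,
      Finset.sum_mul_sum]
    congr 1
    refine Finset.sum_congr rfl fun i _ => Finset.sum_congr rfl fun l _ => ?_
    rw [map_mul, ← AddChar.map_neg_eq_conj, neg_neg]
    rw [show ∀ a b c d : ℂ, a * b * (c * d) = b * d * (a * c) from fun a b c d => by ring,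
      ← AddChar.map_add_eq_mul]
    congr 2
    ring
  rw [Finset.sum_congr rfl (fun j _ => h1 j), ← Finset.mul_sum, Finset.sum_comm]
  have h2 : ∀ i : ZMod r, ∑ j : ZMod r, ∑ l : ZMod r, f i * conj (f l) * ZMod.stdAddChar (j * (l - i))
      = r * (f i * conj (f i)) := by
    intro i
    rw [Finset.sum_comm]
    rw [Finset.sum_congr rfl (fun l _ => (Finset.mul_sum _ _ _).symm)]
    rw [Finset.sum_congr rfl (fun l _ => by rw [sum_std])]
    rw [Finset.sum_eq_single i]
    · rw [sub_self, if_pos rfl]; ring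
    · intro l _ hl
      rw [if_neg (sub_ne_zero.2 hl), mul_zero]
    · intro h; exact absurd (Finset.mem_univ _) h
  rw [Finset.sum_congr rfl (fun i _ => h2 i), ← Finset.mul_sum]
  field_simp

theorem ft_shift (f : ZMod r → ℂ) (j s : ZMod r) :
    ft f j - ft f (j + s) = ft (fun i => (1 - ZMod.stdAddChar (-(i * s))) * f i) j := by
  unfold ft
  rw [← mul_sub, ← Finset.sum_sub_distrib]
  congr 1
  refine Finset.sum_congr rfl fun i _ => ?_
  have h1 : (ZMod.stdAddChar (-(i * (j + s))) : ℂ) = ZMod.stdAddChar (-(i * j)) *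
      ZMod.stdAddChar (-(i * s)) := by
    rw [← AddChar.map_add_eq_mul]; congr 1; ring
  rw [h1]; ring

/-- the key count -/
theorem ft_count (f : ZMod r → ℂ) (hf : ∀ i, i ≠ 0 → f i * conj (f i) = 1) {s : ZMod r}
    (hs : s ≠ 0) : ∑ j : ZMod r, (ft f j - ft f (j + s)) * conj (ft f j - ft f (j + s)) = 2 := by
  have hr : (r : ℂ) ≠ 0 := by exact_mod_cast (NeZero.ne r)
  rw [Finset.sum_congr rfl (fun j _ => by rw [ft_shift]), parseval_ft]
  have h1 : ∀ i : ZMod r, (1 - ZMod.stdAddChar (-(i * s))) * f i *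
      conj ((1 - ZMod.stdAddChar (-(i * s))) * f i)
      = 2 - ZMod.stdAddChar (i * s) - ZMod.stdAddChar (i * (-s)) := by
    intro i
    rw [map_mul, map_sub, map_one, ← AddChar.map_neg_eq_conj, neg_neg]
    have h3 : (ZMod.stdAddChar (-(i * s)) : ℂ) * ZMod.stdAddChar (i * s) = 1 := by
      rw [← AddChar.map_add_eq_mul, neg_add_cancel, AddChar.map_zero_eq_one]
    have h4 : i * (-s) = -(i * s) := by ring
    rw [h4]
    by_cases hi : i = 0
    · subst hi
      simp only [zero_mul, neg_zero, AddChar.map_zero_eq_one]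
      ring
    · have h2 := hf i hi
      linear_combination ((1 - ZMod.stdAddChar (-(i * s))) * (1 - ZMod.stdAddChar (i * s))) * h2 + h3
  rw [Finset.sum_congr rfl (fun i _ => h1 i), Finset.sum_sub_distrib, Finset.sum_sub_distrib,
    sum_std, sum_std, if_neg hs, if_neg (neg_ne_zero.2 hs)]
  simp only [Finset.sum_const, Finset.card_univ, ZMod.card, nsmul_eq_mul]
  field_simp
  ring

theorem ft_inv (f : ZMod r → ℂ) (i : ZMod r) :
    f i = ∑ j : ZMod r, ZMod.stdAddChar (i * j) * ft f j := by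
  have hr : (r : ℂ) ≠ 0 := by exact_mod_cast (NeZero.ne r)
  have h1 : ∀ j : ZMod r, (ZMod.stdAddChar (i * j) : ℂ) * ft f j
      = (r : ℂ)⁻¹ * ∑ l : ZMod r, f l * ZMod.stdAddChar (j * (i - l)) := by
    intro j
    unfold ft
    rw [mul_left_comm, Finset.mul_sum]
    congr 1
    refine Finset.sum_congr rfl fun l _ => ?_
    rw [← mul_assoc, ← AddChar.map_add_eq_mul, mul_comm]
    congr 2
    ring
  rw [Finset.sum_congr rfl (fun j _ => h1 j), ← Finset.mul_sum, Finset.sum_comm]
  rw [Finset.sum_congr rfl (fun l _ => by rw [← Finset.mul_sum, sum_std])]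
  rw [Finset.sum_eq_single i]
  · rw [sub_self, if_pos rfl]; field_simp
  · intro l _ hl
    rw [if_neg (sub_ne_zero.2 (Ne.symm hl)), mul_zero]
  · intro h; exact absurd (Finset.mem_univ _) h

end fourier

section op

variable {V : Type} [AddCommGroup V] [Module ℂ V] [FiniteDimensional ℂ V]
variable {r : ℕ} [NeZero r] {κ : Module.End ℂ V}

/-- powers indexed by `ZMod r` -/
def kp (κ : Module.End ℂ V) (i : ZMod r) : Module.End ℂ V := κ ^ i.val

theorem kp_zero : kp κ (0 : ZMod r) = 1 := by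
  unfold kp; rw [ZMod.val_zero, pow_zero]

theorem pow_mod (hκ : κ ^ r = 1) (n : ℕ) : κ ^ (n % r) = κ ^ n := by
  conv_rhs => rw [← Nat.div_add_mod n r, pow_add, pow_mul, hκ, one_pow, one_mul]

theorem kp_add (hκ : κ ^ r = 1) (i j : ZMod r) : kp κ (i + j) = kp κ i * kp κ j := by
  unfold kp
  rw [ZMod.val_add, pow_mod hκ, pow_add]

theorem kp_nat (hκ : κ ^ r = 1) (n : ℕ) : kp κ (n : ZMod r) = κ ^ n := by
  unfold kp
  rw [ZMod.val_natCast, pow_mod hκ]

/-- spectral projections -/
noncomputable def pj (κ : Module.End ℂ V) (j : ZMod r) : Module.End ℂ V :=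
  (r : ℂ)⁻¹ • ∑ i : ZMod r, (ZMod.stdAddChar (-(i * j)) : ℂ) • kp κ i

theorem trace_pj (A : Module.End ℂ V) (j : ZMod r) :
    LinearMap.trace ℂ V (A * pj κ j) = ft (fun i => LinearMap.trace ℂ V (A * kp κ i)) j := by
  unfold pj ft
  rw [mul_smul_comm, map_smul, Finset.mul_sum, map_sum, smul_eq_mul]
  congr 1
  refine Finset.sum_congr rfl fun i _ => ?_
  rw [mul_smul_comm, map_smul, smul_eq_mul]

theorem pj_idem (hκ : κ ^ r = 1) (j : ZMod r) : pj κ j * pj κ j = pj κ j := by
  have hr : (r : ℂ) ≠ 0 := by exact_mod_cast (NeZero.ne r)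
  have h0 : ∀ l : ZMod r, kp κ l * pj κ j = (ZMod.stdAddChar (l * j) : ℂ) • pj κ j := by
    intro l
    unfold pj
    rw [mul_smul_comm, smul_comm, Finset.mul_sum]
    congr 1
    rw [Finset.smul_sum]
    refine Fintype.sum_equiv (Equiv.addLeft l) _ _ fun i => ?_
    rw [Equiv.coe_addLeft, mul_smul_comm, ← kp_add hκ, smul_smul, ← AddChar.map_add_eq_mul]
    congr 2
    ring
  have h1 : ∀ i : ZMod r, ((ZMod.stdAddChar (-(i * j)) : ℂ) • kp κ i) * pj κ j = pj κ j := by
    intro i
    rw [smul_mul_assoc, h0, smul_smul, ← AddChar.map_add_eq_mul, neg_add_cancel,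
      AddChar.map_zero_eq_one, one_smul]
  calc pj κ j * pj κ j = ((r : ℂ)⁻¹ • ∑ i : ZMod r, (ZMod.stdAddChar (-(i * j)) : ℂ) • kp κ i) *
        pj κ j := rfl
    _ = pj κ j := by
      rw [smul_mul_assoc, Finset.sum_mul, Finset.sum_congr rfl (fun i _ => h1 i),
        Finset.sum_const, Finset.card_univ, ZMod.card, ← Nat.cast_smul_eq_nsmul ℂ, smul_smul,
        inv_mul_cancel₀ hr, one_smul]

theorem pj_comm {A : Module.End ℂ V} (hA : A * κ = κ * A) (j : ZMod r) :
    A * pj κ j = pj κ j * A := by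
  have h1 : Commute A κ := hA
  unfold pj
  rw [mul_smul_comm, smul_mul_assoc, Finset.mul_sum, Finset.sum_mul]
  congr 1
  refine Finset.sum_congr rfl fun i _ => ?_
  rw [mul_smul_comm, smul_mul_assoc]
  congr 1
  exact (h1.pow_right i.val).eq

/-- the trace of a representation against a commuting idempotent is a character -/
theorem char_proj {H : Type*} [Group H] (τ : Representation ℂ H V) {π : Module.End ℂ V}
    (hπ : π * π = π) (hc : ∀ x, (τ x : Module.End ℂ V) * π = π * τ x) :
    IsCharacter H (fun x => LinearMap.trace ℂ V ((τ x : Module.End ℂ V) * π)) := by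
  set W : Submodule ℂ V := LinearMap.range π with hW
  have hmem : ∀ x, ∀ w ∈ W, τ x w ∈ W := by
    rintro x _ ⟨v, rfl⟩
    exact ⟨τ x v, (congrArg (fun B : Module.End ℂ V => B v) (hc x)).symm⟩
  let τW : Representation ℂ H W :=
    { toFun := fun x => (τ x).restrict (hmem x)
      map_one' := by
        ext w
        simp
      map_mul' := fun x y => by
        ext w
        simp }
  have h1 := isCharacter_of_rep τW
  convert h1 using 1
  ext x
  show _ = LinearMap.trace ℂ W ((τ x).restrict (hmem x))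
  have h2 : ∀ v, ((τ x : Module.End ℂ V) * π) v ∈ W := fun v => hmem x _ ⟨v, rfl⟩
  rw [← LinearMap.trace_restrict_eq_of_forall_mem W ((τ x : Module.End ℂ V) * π) h2]
  congr 1
  ext ⟨w, v, rfl⟩
  have h3 : π (π v) = π v := congrArg (fun B : Module.End ℂ V => B v) hπ
  show τ x (π (π v)) = τ x (π v)
  rw [h3]

/-- normalising function -/
theorem exists_norm {π : Module.End ℂ V} (hπ : π * π = π) {a : ℕ}
    (ha : LinearMap.trace ℂ V π = a) (hcop : Nat.Coprime a (Module.finrank ℂ V)) :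
    ∃ D : Module.End ℂ V → ℂ, D 1 = 1 ∧ (∀ P Q, P * π = π * P → Q * π = π * Q →
      D (P * Q) = D P * D Q) ∧ (∀ (c : ℂ) (P), c ≠ 0 → P * π = π * P → D (c • P) = c * D P) := by
  classical
  set W : Submodule ℂ V := LinearMap.range π with hW
  have hmem : ∀ P : Module.End ℂ V, P * π = π * P → ∀ w ∈ W, P w ∈ W := by
    rintro P hP _ ⟨v, rfl⟩
    exact ⟨P v, (congrArg (fun B : Module.End ℂ V => B v) hP).symm⟩
  have haW : Module.finrank ℂ W = a := by
    have h1 : IsIdempotentElem π := hπ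
    have h2 := (LinearMap.IsIdempotentElem.isProj_range π h1).trace
    rw [ha] at h2
    exact_mod_cast h2.symm
  let D₁ : Module.End ℂ V → ℂ := fun P =>
    if h : P * π = π * P then LinearMap.det (P.restrict (hmem P h)) else 1
  have hD₁ : ∀ P (h : P * π = π * P), D₁ P = LinearMap.det (P.restrict (hmem P h)) :=
    fun P h => dif_pos h
  have hmul : ∀ P Q, P * π = π * P → Q * π = π * Q → (P * Q) * π = π * (P * Q) := by
    intro P Q h1 h2
    rw [mul_assoc, h2, ← mul_assoc, h1, mul_assoc]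
  set u : ℤ := Nat.gcdA a (Module.finrank ℂ V)
  set v : ℤ := Nat.gcdB a (Module.finrank ℂ V)
  have huv : (a : ℤ) * u + (Module.finrank ℂ V : ℤ) * v = 1 := by
    have := Nat.gcd_eq_gcd_ab a (Module.finrank ℂ V)
    rw [hcop] at this
    exact_mod_cast this.symm
  refine ⟨fun P => D₁ P ^ u * LinearMap.det P ^ v, ?_, ?_, ?_⟩
  · have h1 : D₁ 1 = 1 := by
      rw [hD₁ 1 (by rw [one_mul, mul_one])]
      have : (1 : Module.End ℂ V).restrict (hmem 1 (by rw [one_mul, mul_one])) = 1 := by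
        ext w; rfl
      rw [this, map_one]
    show D₁ 1 ^ u * LinearMap.det 1 ^ v = 1
    rw [h1, map_one, one_zpow, one_zpow, one_mul]
  · intro P Q h1 h2
    have h3 : D₁ (P * Q) = D₁ P * D₁ Q := by
      rw [hD₁ _ (hmul P Q h1 h2), hD₁ _ h1, hD₁ _ h2, ← map_mul]
      congr 1
    show D₁ (P * Q) ^ u * LinearMap.det (P * Q) ^ v = D₁ P ^ u * LinearMap.det P ^ v *
      (D₁ Q ^ u * LinearMap.det Q ^ v)
    rw [h3, map_mul, mul_zpow, mul_zpow]
    ring
  · intro c P hc h1
    have h2 : (c • P) * π = π * (c • P) := by rw [smul_mul_assoc, h1, mul_smul_comm]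
    have h3 : D₁ (c • P) = c ^ a * D₁ P := by
      rw [hD₁ _ h2, hD₁ _ h1, ← haW, ← LinearMap.det_smul]
      congr 1
    show D₁ (c • P) ^ u * LinearMap.det (c • P) ^ v = c * (D₁ P ^ u * LinearMap.det P ^ v)
    rw [h3, LinearMap.det_smul, mul_zpow, mul_zpow, ← zpow_natCast, ← zpow_natCast, ← zpow_mul,
      ← zpow_mul]
    have h4 : c ^ ((a : ℤ) * u) * c ^ ((Module.finrank ℂ V : ℤ) * v) = c := by
      rw [← zpow_add₀ hc, huv, zpow_one]
    linear_combination (D₁ P ^ u * LinearMap.det P ^ v) * h4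

end op

end H49.XE
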