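import Cfsg.Agent.Lib.H49.XE4
import Cfsg.Agent.Lib.H49.XE5

/-!
# Preparations for the base case
-/

set_option autoImplicit false
set_option linter.unusedSectionVars false
set_option linter.style.haveILetI false
set_option linter.unusedVariables false

namespace H49.XE

open Cfsg Representation H18.CharBasic H18.CharOrtho
open scoped ComplexConjugate

/-- the parity count -/
theorem parity_count {r : ℕ} [hr : Fact r.Prime] (a : ZMod r → ℕ)
    (h : ∀ s : ZMod r, s ≠ 0 → ∑ j : ZMod r, ((a j : ℤ) - a (j + s)) ^ 2 = 2)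
    (hev : Even (∑ j : ZMod r, a j)) : ∃ j₀, Even (a j₀) ∧ ∀ j, j ≠ j₀ → Odd (a j) := by
  classical
  let b : ZMod r → ℤ := fun j => if Odd (a j) then 1 else 0
  have hb01 : ∀ j, b j * b j = b j := by
    intro j
    show (if Odd (a j) then (1 : ℤ) else 0) * (if Odd (a j) then 1 else 0) = _
    show _ = (if Odd (a j) then (1 : ℤ) else 0)
    split_ifs <;> simp
  have hbmod : ∀ j, (2 : ℤ) ∣ (a j : ℤ) - b j := by
    intro j
    show (2 : ℤ) ∣ (a j : ℤ) - (if Odd (a j) then (1 : ℤ) else 0)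
    split_ifs with h1
    · obtain ⟨t, ht⟩ := h1
      exact ⟨t, by rw [ht]; push_cast; ring⟩
    · rw [Nat.not_odd_iff_even] at h1
      obtain ⟨t, ht⟩ := h1
      exact ⟨t, by rw [ht]; push_cast; ring⟩
  have h1 : ∀ s : ZMod r, s ≠ 0 → ∑ j : ZMod r, (b j - b (j + s)) ^ 2 = 2 := by
    intro s hs
    rw [← h s hs]
    refine Finset.sum_congr rfl fun j _ => ?_
    have h2 : ((a j : ℤ) - a (j + s)) ^ 2 ≤ 2 := by
      rw [← h s hs]
      exact Finset.single_le_sum (f := fun j => ((a j : ℤ) - a (j + s)) ^ 2)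
        (fun _ _ => sq_nonneg _) (Finset.mem_univ j)
    set x : ℤ := (a j : ℤ) - a (j + s) with hx
    have h3 : x < 2 := by nlinarith
    have h4 : -2 < x := by nlinarith
    obtain ⟨t, ht⟩ := hbmod j
    obtain ⟨t', ht'⟩ := hbmod (j + s)
    have h5 : x = 2 * t - 2 * t' + (b j - b (j + s)) := by rw [hx]; linarith
    have h6 : b j = 0 ∨ b j = 1 := by
      have := hb01 j
      have h7 : b j * (b j - 1) = 0 := by linarith
      rcases mul_eq_zero.1 h7 with h8 | h8
      · left; exact h8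
      · right; linarith
    have h6' : b (j + s) = 0 ∨ b (j + s) = 1 := by
      have := hb01 (j + s)
      have h7 : b (j + s) * (b (j + s) - 1) = 0 := by linarith
      rcases mul_eq_zero.1 h7 with h8 | h8
      · left; exact h8
      · right; linarith
    rcases h6 with h6 | h6 <;> rcases h6' with h6' | h6' <;> rw [h6, h6'] at h5 ⊢
    · have : x = 0 := by omega
      rw [this]; norm_num
    · have : x = 1 ∨ x = -1 := by omega
      rcases this with h9 | h9 <;> rw [h9] <;> norm_num
    · have : x = 1 ∨ x = -1 := by omega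
      rcases this with h9 | h9 <;> rw [h9] <;> norm_num
    · have : x = 0 := by omega
      rw [this]; norm_num
  set σ : ℤ := ∑ j : ZMod r, b j with hσ
  have h2 : ∑ s : ZMod r, ∑ j : ZMod r, (b j - b (j + s)) ^ 2 = 2 * (r - 1) := by
    rw [← Finset.add_sum_erase _ _ (Finset.mem_univ (0 : ZMod r))]
    rw [Finset.sum_congr (s₁ := Finset.univ.erase (0 : ZMod r)) rfl
      (fun s hs => h1 s (Finset.ne_of_mem_erase hs))]
    simp only [add_zero, sub_self, Finset.sum_const, Finset.card_erase_of_mem (Finset.mem_univ _),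
      Finset.card_univ, ZMod.card]
    have hr1 : 1 ≤ r := hr.out.one_lt.le
    simp only [nsmul_eq_mul]
    push_cast [Nat.cast_sub hr1]
    ring
  have h3 : ∑ s : ZMod r, ∑ j : ZMod r, (b j - b (j + s)) ^ 2 = 2 * r * σ - 2 * σ * σ := by
    rw [Finset.sum_comm]
    have h4 : ∀ j : ZMod r, ∑ s : ZMod r, (b j - b (j + s)) ^ 2 = r * b j + σ - 2 * b j * σ := by
      intro j
      have h5 : ∑ s : ZMod r, (b j - b (j + s)) ^ 2 = ∑ l : ZMod r, (b j - b l) ^ 2 :=
        Fintype.sum_equiv (Equiv.addLeft j) _ _ fun s => rfl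
      rw [h5]
      have h6 : ∀ l : ZMod r, (b j - b l) ^ 2 = b j + b l - 2 * b j * b l := by
        intro l
        linear_combination hb01 j + hb01 l
      rw [Finset.sum_congr rfl (fun l _ => h6 l), Finset.sum_sub_distrib, Finset.sum_add_distrib,
        ← Finset.mul_sum]
      simp only [Finset.sum_const, Finset.card_univ, ZMod.card, nsmul_eq_mul]
      rw [← hσ]
    rw [Finset.sum_congr rfl (fun j _ => h4 j), Finset.sum_sub_distrib, Finset.sum_add_distrib,
      ← Finset.mul_sum, ← Finset.sum_mul, ← Finset.mul_sum]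
    simp only [Finset.sum_const, Finset.card_univ, ZMod.card, nsmul_eq_mul]
    rw [← hσ]; ring
  have h4 : (σ - 1) * (r - 1 - σ) = 0 := by
    have := h2.symm.trans h3
    linarith
  have h5 : Even σ := by
    have h6 : (2 : ℤ) ∣ ∑ j : ZMod r, ((a j : ℤ) - b j) := Finset.dvd_sum fun j _ => hbmod j
    rw [Finset.sum_sub_distrib, ← hσ] at h6
    have h7 : (2 : ℤ) ∣ ∑ j : ZMod r, (a j : ℤ) := by
      have := (Int.even_coe_nat (∑ j : ZMod r, a j)).2 hev
      have h8 := this.two_dvd
      push_cast at h8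
      exact h8
    have h8 := dvd_sub h7 h6
    rw [sub_sub_cancel] at h8
    exact even_iff_two_dvd.2 h8
  have h6 : σ = r - 1 := by
    rcases mul_eq_zero.1 h4 with h7 | h7
    · exfalso
      obtain ⟨t, ht⟩ := h5
      omega
    · linarith
  -- exactly one index with `b = 0`
  have h7 : ((Finset.univ.filter (fun j => ¬ Odd (a j))).card : ℤ) = 1 := by
    have h8 : ∑ j : ZMod r, (1 - b j) = 1 := by
      rw [Finset.sum_sub_distrib, ← hσ, h6]
      simp [ZMod.card]
    rw [← h8, Finset.card_filter]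
    push_cast
    refine Finset.sum_congr rfl fun j _ => ?_
    show (if ¬ Odd (a j) then (1 : ℤ) else 0) = 1 - (if Odd (a j) then (1 : ℤ) else 0)
    by_cases h9 : Odd (a j)
    · simp [h9]
    · simp [h9]
  have h8 : (Finset.univ.filter (fun j => ¬ Odd (a j))).card = 1 := by exact_mod_cast h7
  obtain ⟨j₀, hj₀⟩ := Finset.card_eq_one.1 h8
  refine ⟨j₀, ?_, fun j hj => ?_⟩
  · have : j₀ ∈ Finset.univ.filter (fun j => ¬ Odd (a j)) := by rw [hj₀]; simp
    simpa [Nat.not_odd_iff_even] using this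
  · by_contra hcon
    have : j ∈ Finset.univ.filter (fun j => ¬ Odd (a j)) :=
      Finset.mem_filter.2 ⟨Finset.mem_univ _, hcon⟩
    rw [hj₀] at this
    exact hj (Finset.mem_singleton.1 this)

/-- groups acting on a cyclic group of prime order -/
theorem gen_cyc {M R : Type*} [Group M] [Group R] [Finite R] {r : ℕ} [hr : Fact r.Prime] {a : M}
    (ha : orderOf a = r) (φ : R →* M) (h : ∀ c : R, ∃ i : ℕ, φ c * a * (φ c)⁻¹ = a ^ i) :
    ∃ g : R, ∀ c : R, ∃ n : ℕ, φ (c * (g ^ n)⁻¹) * a = a * φ (c * (g ^ n)⁻¹) := by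
  classical
  choose i hi using h
  have hinj : ∀ m n : ℕ, a ^ m = a ^ n → (m : ZMod r) = (n : ZMod r) := by
    intro m n hmn
    rw [pow_eq_pow_iff_modEq, ha] at hmn
    exact (ZMod.natCast_eq_natCast_iff _ _ _).2 hmn
  let χ : R →* ZMod r :=
    { toFun := fun c => (i c : ZMod r)
      map_one' := by
        have h1 := hi 1
        rw [map_one, one_mul, inv_one, mul_one] at h1
        have := hinj 1 (i 1) (by rw [pow_one]; exact h1)
        rw [← this]; simp
      map_mul' := by
        intro c d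
        rw [← Nat.cast_mul]
        apply hinj
        rw [← hi (c * d), map_mul, mul_inv_rev, pow_mul, ← hi c, conj_pow, ← hi d]
        group }
  obtain ⟨u, hu⟩ := (inferInstance : IsCyclic χ.toHomUnits.range).exists_generator
  obtain ⟨g, hg⟩ := u.2
  refine ⟨g, fun c => ?_⟩
  have h1 := hu ⟨χ.toHomUnits c, ⟨c, rfl⟩⟩
  rw [← mem_powers_iff_mem_zpowers] at h1
  obtain ⟨n, hn⟩ := h1
  refine ⟨n, ?_⟩
  have h2 : χ.toHomUnits c = χ.toHomUnits g ^ n := by
    have := congrArg Subtype.val hn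
    simp only [SubmonoidClass.coe_pow] at this
    rw [hg]
    exact this.symm
  have h3 : χ.toHomUnits (c * (g ^ n)⁻¹) = 1 := by
    rw [map_mul, map_inv, map_pow, h2, mul_inv_cancel]
  have h4 : χ (c * (g ^ n)⁻¹) = 1 := congrArg Units.val h3
  have h5 : ((i (c * (g ^ n)⁻¹) : ℕ) : ZMod r) = ((1 : ℕ) : ZMod r) := by
    rw [Nat.cast_one]; exact h4
  have h6 : a ^ (i (c * (g ^ n)⁻¹)) = a ^ 1 := by
    rw [pow_eq_pow_iff_modEq, ha]
    exact (ZMod.natCast_eq_natCast_iff _ _ _).1 h5
  have h7 := hi (c * (g ^ n)⁻¹)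
  rw [h6, pow_one] at h7
  exact mul_inv_eq_iff_eq_mul.1 h7

end H49.XE
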