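import Cfsg.Agent.Lib.H49.XE6

/-!
# The action on `E`
-/

set_option autoImplicit false
set_option linter.unusedSectionVars false
set_option linter.style.haveILetI false
set_option linter.unusedVariables false

namespace H49.XE

open Cfsg Representation H18.CharBasic H18.CharOrtho
open scoped ComplexConjugate

universe u

variable {G : Type u} [Group G] {E : Subgroup G}

/-- the automorphism group action -/
noncomputable abbrev al (E : Subgroup G) : Subgroup.normalizer (E : Set G) →* MulAut E :=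
  E.normalizerMonoidHom

theorem al_apply (g : Subgroup.normalizer (E : Set G)) (e : E) :
    ((al E g e : E) : G) = g * e * (g : G)⁻¹ := rfl

theorem mem_nrm [Finite G] {g : G} (h : ∀ e ∈ E, g * e * g⁻¹ ∈ E) :
    g ∈ Subgroup.normalizer (E : Set G) := by
  have h1 : E.map (MulAut.conj g).toMonoidHom ≤ E := by
    rintro _ ⟨x, hx, rfl⟩
    exact h x hx
  have h2 : E.map (MulAut.conj g).toMonoidHom = E := by
    apply Subgroup.eq_of_le_of_card_ge h1
    exact (Nat.card_congr (E.equivMapOfInjective _ (MulAut.conj g).injective).toEquiv).le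
  rw [Subgroup.mem_normalizer_iff]
  intro x
  constructor
  · exact fun hx => h x hx
  · intro hx
    have h3 : g * x * g⁻¹ ∈ E.map (MulAut.conj g).toMonoidHom := by rw [h2]; exact hx
    obtain ⟨y, hy, hyx⟩ := h3
    have h4 : g * y * g⁻¹ = g * x * g⁻¹ := hyx
    have h5 : y = x := mul_left_cancel (mul_right_cancel h4)
    rw [← h5]; exact hy

theorem inv_nrm [Finite G] {g : G} (h : ∀ e ∈ E, g * e * g⁻¹ ∈ E) :
    ∀ e ∈ E, g⁻¹ * e * g ∈ E := by
  intro e he
  have h1 := (Subgroup.mem_normalizer_iff.1 ((Subgroup.normalizer (E : Set G)).inv_mem (mem_nrm h)) e).1 he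
  rwa [inv_inv] at h1

theorem al_eq_iff {g h : Subgroup.normalizer (E : Set G)} :
    al E g = al E h ↔ ∀ e ∈ E, (g : G) * e * (g : G)⁻¹ = h * e * (h : G)⁻¹ := by
  constructor
  · intro h1 e he
    exact congrArg (fun f : MulAut E => ((f ⟨e, he⟩ : E) : G)) h1
  · intro h1
    ext e
    exact h1 e e.2

/-- the fixed point condition -/
theorem hfix [Finite G] {z : G} (h : Sp E z) {r : ℕ} (hr : r.Prime) (hr2 : r ≠ 2) {k x : G}
    (hk : ∀ e ∈ E, k * e * k⁻¹ ∈ E) (hx : ∀ e ∈ E, x * e * x⁻¹ ∈ E)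
    (hkz : k * z = z * k) (hxz : x * z = z * x) {t : ℕ} (hxt : x ^ 2 ^ t = 1)
    (hxk : ∀ e ∈ E, (x * k * x⁻¹) * e * (x * k * x⁻¹)⁻¹ = k * e * k⁻¹)
    (hkr : ∀ e ∈ E, k ^ r * e * (k ^ r)⁻¹ = e)
    (hCk : ∀ e ∈ E, k * e = e * k → e = 1 ∨ e = z) {i : ℕ} (hi : ¬ r ∣ i) :
    ∀ e ∈ E, (e * ((x * k ^ i) * e⁻¹ * (x * k ^ i)⁻¹) = 1 ∨
      e * ((x * k ^ i) * e⁻¹ * (x * k ^ i)⁻¹) = z) → e = 1 ∨ e = z := by
  intro e he hor
  have hgz : ∀ n : ℕ, k ^ n * z = z * k ^ n := fun n => by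
    have : Commute k z := hkz
    exact (this.pow_left n).eq
  set g := x * k ^ i with hg
  have hgz' : g * z = z * g := by
    rw [hg, mul_assoc, hgz, ← mul_assoc, hxz, mul_assoc]
  let kN : Subgroup.normalizer (E : Set G) := ⟨k, mem_nrm hk⟩
  let xN : Subgroup.normalizer (E : Set G) := ⟨x, mem_nrm hx⟩
  let gN : Subgroup.normalizer (E : Set G) := xN * kN ^ i
  have hgN : (gN : G) = g := by
    show ((xN * kN ^ i : Subgroup.normalizer (E : Set G)) : G) = x * k ^ i
    rfl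
  have hcomm : Commute (al E xN) (al E kN) := by
    have h1 : al E (xN * kN * xN⁻¹) = al E kN := al_eq_iff.2 hxk
    rw [map_mul, map_mul, map_inv] at h1
    exact mul_inv_eq_iff_eq_mul.1 h1
  have hkr' : (al E kN) ^ r = 1 := by
    rw [← map_pow]
    ext e
    exact hkr e e.2
  have hxt' : (al E xN) ^ 2 ^ t = 1 := by
    rw [← map_pow, show xN ^ 2 ^ t = 1 from Subtype.ext hxt, map_one]
  -- `g² e = e`
  have hge : g * e * g⁻¹ = e ∨ g * e * g⁻¹ = z * e := by
    have hinv : (g * e⁻¹ * g⁻¹)⁻¹ = g * e * g⁻¹ := by group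
    rcases hor with h1 | h1
    · left
      rw [← hinv]
      exact (eq_inv_of_mul_eq_one_left h1).symm
    · right
      have h2 : e = z * (g * e * g⁻¹) := by
        rw [← hinv]
        exact eq_mul_inv_of_mul_eq h1
      calc g * e * g⁻¹ = (z * z) * (g * e * g⁻¹) := by rw [h.zz, one_mul]
        _ = z * (z * (g * e * g⁻¹)) := by group
        _ = z * e := by rw [← h2]
  have hg2 : ((al E gN) ^ 2) ⟨e, he⟩ = ⟨e, he⟩ := by
    apply Subtype.ext
    rw [← map_pow]
    show ((gN ^ 2 : Subgroup.normalizer (E : Set G)) : G) * e *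
      ((gN ^ 2 : Subgroup.normalizer (E : Set G)) : G)⁻¹ = e
    rw [Subgroup.coe_pow, hgN, pow_two]
    have h1 : g * g * e * (g * g)⁻¹ = g * (g * e * g⁻¹) * g⁻¹ := by group
    rw [h1]
    rcases hge with h2 | h2
    · rw [h2, h2]
    · rw [h2]
      have h3 : g * (z * e) * g⁻¹ = z * (g * e * g⁻¹) := by
        rw [← mul_assoc, hgz']; group
      rw [h3, h2, ← mul_assoc, h.zz, one_mul]
  let S : Subgroup (MulAut E) := MulAction.stabilizer (MulAut E) (⟨e, he⟩ : E)
  have hS2 : (al E gN) ^ 2 ∈ S := MulAction.mem_stabilizer_iff.2 hg2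
  have hSt : (al E gN) ^ (2 * 2 ^ t) ∈ S := by
    rw [pow_mul]; exact S.pow_mem hS2 _
  have hkS : (al E kN) ^ (i * (2 * 2 ^ t)) ∈ S := by
    have h1 : al E gN = al E xN * (al E kN) ^ i := by rw [map_mul, map_pow]
    rw [h1, (hcomm.pow_right i).mul_pow, mul_comm 2, pow_mul (al E xN), hxt', one_pow, one_mul,
      ← pow_mul, mul_comm (2 ^ t)] at hSt
    exact hSt
  have hcop : Nat.Coprime (i * (2 * 2 ^ t)) r := by
    rw [Nat.coprime_comm, hr.coprime_iff_not_dvd]
    intro hd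
    rcases (hr.dvd_mul).1 hd with h1 | h1
    · exact hi h1
    · have h2 : r ∣ 2 ^ (t + 1) := by rw [pow_succ, mul_comm]; exact h1
      exact hr2 ((Nat.prime_dvd_prime_iff_eq hr Nat.prime_two).1 (hr.dvd_of_dvd_pow h2))
  have hk1 : al E kN ∈ S := by
    have h1 := Nat.gcd_eq_gcd_ab (i * (2 * 2 ^ t)) r
    rw [hcop] at h1
    have h2 : al E kN = ((al E kN) ^ (i * (2 * 2 ^ t))) ^ (Nat.gcdA (i * (2 * 2 ^ t)) r) *
        ((al E kN) ^ r) ^ (Nat.gcdB (i * (2 * 2 ^ t)) r) := by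
      rw [← zpow_natCast, ← zpow_natCast, ← zpow_mul, ← zpow_mul, ← zpow_add, ← h1]
      simp
    rw [h2, hkr']
    exact S.mul_mem (S.zpow_mem hkS _) (S.zpow_mem S.one_mem _)
  have h1 : k * e * k⁻¹ = e := congrArg Subtype.val (MulAction.mem_stabilizer_iff.1 hk1)
  exact hCk e he (mul_inv_eq_iff_eq_mul.1 h1)

section it

variable {V : Type} [AddCommGroup V] [Module ℂ V] [FiniteDimensional ℂ V]
  {z : G} {ρ : G → Module.End ℂ V}

theorem It.mul {g h : G} {P Q P' Q' : Module.End ℂ V} (a : It E ρ g P Q) (b : It E ρ h P' Q')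
    (hh : ∀ e ∈ E, h * e * h⁻¹ ∈ E) : It E ρ (g * h) (P * P') (Q' * Q) where
  pq := by
    calc P * P' * (Q' * Q) = P * (P' * Q') * Q := by simp only [mul_assoc]
      _ = 1 := by rw [b.pq, mul_one, a.pq]
  qp := by
    calc Q' * Q * (P * P') = Q' * (Q * P) * P' := by simp only [mul_assoc]
      _ = 1 := by rw [a.qp, mul_one, b.qp]
  it := by
    intro e he
    rw [mul_assoc, b.it e he, ← mul_assoc, a.it _ (hh e he), mul_assoc]
    congr 2; group

/-- conjugating intertwiners -/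
theorem It.conj [Finite G] {c k g : G} {P Q κ κ' : Module.End ℂ V} (a : It E ρ c P Q)
    (b : It E ρ k κ κ') (hc : ∀ e ∈ E, c * e * c⁻¹ ∈ E) (hk : ∀ e ∈ E, k * e * k⁻¹ ∈ E)
    (hg : ∀ e ∈ E, (c * k * c⁻¹) * e * (c * k * c⁻¹)⁻¹ = g * e * g⁻¹) :
    ∀ e ∈ E, (P * κ * Q) * ρ e = ρ (g * e * g⁻¹) * (P * κ * Q) := by
  intro e he
  have h1 := inv_nrm hc e he
  rw [mul_assoc, a.it' (inv_nrm hc) e he, ← mul_assoc, mul_assoc P, b.it _ h1, ← mul_assoc,
    a.it _ (hk _ h1), ← hg e he]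
  simp only [mul_assoc]
  congr 2
  simp only [← mul_assoc, mul_inv_rev, inv_inv]

end it

end H49.XE
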