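import Cfsg.Agent.Lib.H49.XE7

/-!
# The base case, first part
-/

set_option autoImplicit false
set_option linter.unusedSectionVars false
set_option linter.style.haveILetI false
set_option linter.unusedVariables false

namespace H49.XE

open Cfsg Representation H18.CharBasic H18.CharOrtho
open scoped ComplexConjugate

universe u

variable {G : Type u} [Group G] {E : Subgroup G} {z : G}

section it

variable {V : Type} [AddCommGroup V] [Module ℂ V] [FiniteDimensional ℂ V]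
  {ρ : G → Module.End ℂ V}

theorem Md.one_ne [Finite G] (m : Md E z ρ) : (1 : Module.End ℂ V) ≠ 0 := by
  intro h0
  have h1 := LinearMap.trace_one ℂ V
  rw [h0, map_zero] at h1
  exact m.fr_ne h1.symm

/-- scalars between intertwiners, both invertible -/
theorem Md.unique' [Finite G] (m : Md E z ρ) (h : Sp E z) {g : G} {P Q P' Q' : Module.End ℂ V}
    (hP : It E ρ g P Q) (hP' : ∀ e ∈ E, P' * ρ e = ρ (g * e * g⁻¹) * P') (hPQ' : P' * Q' = 1) :
    ∃ c : ℂ, c ≠ 0 ∧ P' = c • P := by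
  obtain ⟨c, hc⟩ := m.unique h hP hP'
  refine ⟨c, ?_, hc⟩
  rintro rfl
  rw [zero_smul] at hc
  rw [hc, zero_mul] at hPQ'
  exact m.one_ne hPQ'.symm

theorem Md.exists_kappa [Finite G] (m : Md E z ρ) (h : Sp E z) {k : G}
    (hk : ∀ e ∈ E, k * e * k⁻¹ ∈ E) (hkz : k * z = z * k) {r : ℕ} (hr : 0 < r)
    (hkr : ∀ e ∈ E, k ^ r * e * (k ^ r)⁻¹ = e) :
    ∃ κ κ' : Module.End ℂ V, It E ρ k κ κ' ∧ κ ^ r = 1 := by
  obtain ⟨P, Q, hP⟩ := m.exists_it h hk hkz
  obtain ⟨h1, h2⟩ := hP.pow hk r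
  have hit1 : It E ρ (1 : G) (1 : Module.End ℂ V) 1 := ⟨one_mul _, one_mul _, fun e he => by simp⟩
  obtain ⟨c, hc0, hc⟩ := m.unique' h hit1 (P' := P ^ r) (Q' := Q ^ r) (fun e he => by
    rw [h1.it e he, hkr e he]; simp) h1.pq
  obtain ⟨b, hb⟩ := IsAlgClosed.exists_pow_nat_eq c⁻¹ hr
  have hb0 : b ≠ 0 := by
    rintro rfl
    rw [zero_pow hr.ne'] at hb
    exact inv_ne_zero hc0 hb.symm
  refine ⟨b • P, b⁻¹ • Q, ⟨?_, ?_, ?_⟩, ?_⟩
  · rw [smul_mul_smul_comm, mul_inv_cancel₀ hb0, one_smul, hP.pq]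
  · rw [smul_mul_smul_comm, inv_mul_cancel₀ hb0, one_smul, hP.qp]
  · intro e he
    rw [smul_mul_assoc, hP.it e he, mul_smul_comm]
  · rw [smul_pow, hb, hc, smul_smul, inv_mul_cancel₀ hc0, one_smul]

variable {r : ℕ} [NeZero r] {κ : Module.End ℂ V}

theorem conj_trace {H : Type*} [Group H] [Finite H] (τ : Representation ℂ H V) (hκ : κ ^ r = 1)
    (hc : ∀ x, (τ x : Module.End ℂ V) * κ = κ * τ x) (x : H) (i : ZMod r) :
    LinearMap.trace ℂ V (kp κ (-i) * (τ x⁻¹ : Module.End ℂ V)) =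
      conj (LinearMap.trace ℂ V ((τ x : Module.End ℂ V) * kp κ i)) := by
  have hcc : ∀ x (j : ZMod r), (τ x : Module.End ℂ V) * kp κ j = kp κ j * τ x := by
    intro x j
    have h1 : Commute (τ x : Module.End ℂ V) κ := hc x
    exact (h1.pow_right j.val).eq
  let σ : Representation ℂ (H × Multiplicative (ZMod r)) V :=
    { toFun := fun p => (τ p.1 : Module.End ℂ V) * kp κ (Multiplicative.toAdd p.2)
      map_one' := by
        show (τ 1 : Module.End ℂ V) * kp κ (0 : ZMod r) = 1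
        rw [kp_zero, map_one]
        exact mul_one _
      map_mul' := by
        intro p q
        show (τ (p.1 * q.1) : Module.End ℂ V) * kp κ (Multiplicative.toAdd p.2 + Multiplicative.toAdd q.2) =
          ((τ p.1 : Module.End ℂ V) * kp κ (Multiplicative.toAdd p.2)) *
          ((τ q.1 : Module.End ℂ V) * kp κ (Multiplicative.toAdd q.2))
        rw [kp_add hκ, map_mul]
        calc (τ p.1 : Module.End ℂ V) * τ q.1 * (kp κ (Multiplicative.toAdd p.2) * kp κ (Multiplicative.toAdd q.2))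
            = τ p.1 * ((τ q.1 : Module.End ℂ V) * kp κ (Multiplicative.toAdd p.2)) *
                kp κ (Multiplicative.toAdd q.2) := by simp only [mul_assoc]
          _ = _ := by rw [hcc]; simp only [mul_assoc] }
  have h1 := char_inv (isCharacter_of_rep σ) (x, Multiplicative.ofAdd i)
  have h2 : σ.character (x, Multiplicative.ofAdd i)
      = LinearMap.trace ℂ V ((τ x : Module.End ℂ V) * kp κ i) := rfl
  have h3 : σ.character (x, Multiplicative.ofAdd i)⁻¹
      = LinearMap.trace ℂ V ((τ x⁻¹ : Module.End ℂ V) * kp κ (-i)) := rfl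
  rw [← h2, ← h1, h3, LinearMap.trace_mul_comm]

/-- the trace identity for `T_x κ^i` -/
theorem Md.tf [Finite G] (m : Md E z ρ) (h : Sp E z) (hr : r.Prime) (hr2 : r ≠ 2) {k x : G}
    (hk : ∀ e ∈ E, k * e * k⁻¹ ∈ E) (hx : ∀ e ∈ E, x * e * x⁻¹ ∈ E)
    (hkz : k * z = z * k) (hxz : x * z = z * x) {t : ℕ} (hxt : x ^ 2 ^ t = 1)
    (hxk : ∀ e ∈ E, (x * k * x⁻¹) * e * (x * k * x⁻¹)⁻¹ = k * e * k⁻¹)
    (hkr : ∀ e ∈ E, k ^ r * e * (k ^ r)⁻¹ = e)
    (hCk : ∀ e ∈ E, k * e = e * k → e = 1 ∨ e = z) {κ' P Q : Module.End ℂ V}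
    (hκ : κ ^ r = 1) (hit : It E ρ k κ κ') (hP : It E ρ x P Q) {i : ZMod r} (hi : i ≠ 0) :
    LinearMap.trace ℂ V (P * kp κ i) * LinearMap.trace ℂ V (kp κ (-i) * Q) = 1 := by
  obtain ⟨h1, h2⟩ := hit.pow hk i.val
  have h3 := hP.mul h1 h2
  have h4 : κ' ^ i.val = kp κ (-i) := by
    have h5 : kp κ i * kp κ (-i) = 1 := by rw [← kp_add hκ, add_neg_cancel, kp_zero]
    exact left_inv_eq_right_inv (b := κ' ^ i.val) (a := κ ^ i.val) h1.qp h5
  rw [h4] at h3
  have hival : ¬ r ∣ i.val := by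
    intro hd
    apply hi
    rw [← ZMod.natCast_zmod_val i]
    exact (ZMod.natCast_eq_zero_iff _ _).2 hd
  refine m.trace_formula h h3 ?_ ?_ (hfix h hr hr2 hk hx hkz hxz hxt hxk hkr hCk hival)
  · intro e he
    have h5 : x * k ^ i.val * e * (x * k ^ i.val)⁻¹ = x * (k ^ i.val * e * (k ^ i.val)⁻¹) * x⁻¹ := by
      group
    rw [h5]
    exact hx _ (h2 e he)
  · have h6 : k ^ i.val * z = z * k ^ i.val := by
      have : Commute k z := hkz
      exact (this.pow_left _).eq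
    rw [mul_assoc, h6, ← mul_assoc, hxz, mul_assoc]

theorem Md.even_fr [Finite G] (m : Md E z ρ) (h : Sp E z) (hE : ∃ e ∈ E, e ≠ 1 ∧ e ≠ z) :
    ∃ t, Module.finrank ℂ V = 2 ^ (t + 1) := by
  haveI : Fact (Nat.Prime 2) := ⟨Nat.prime_two⟩
  obtain ⟨n, hn⟩ := IsPGroup.iff_card.1 h.pgroup
  have h1 := m.card
  rw [hn] at h1
  have h2 : Module.finrank ℂ V ∣ 2 ^ n := by
    rw [← h1, pow_two]
    exact Dvd.intro_left (2 * Module.finrank ℂ V) (by ring)
  obtain ⟨t, _, ht⟩ := (Nat.dvd_prime_pow Nat.prime_two).1 h2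
  cases t with
  | zero =>
    exfalso
    rw [ht] at h1
    obtain ⟨e, he, he1, hez⟩ := hE
    have h3 : Nat.card E = 2 := by rw [hn, ← h1]; norm_num
    have h4 : ({1, z, e} : Set G) ⊆ (E : Set G) := by
      intro x hx
      simp only [Set.mem_insert_iff, Set.mem_singleton_iff] at hx
      rcases hx with rfl | rfl | rfl
      · exact E.one_mem
      · exact h.zm
      · exact he
    have h5 : ({1, z, e} : Set G).ncard = 3 := by
      rw [Set.ncard_insert_of_notMem, Set.ncard_pair (Ne.symm hez)]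
      simp only [Set.mem_insert_iff, Set.mem_singleton_iff, not_or]
      exact ⟨(Ne.symm h.z1), (Ne.symm he1)⟩
    have h6 := Set.ncard_le_ncard h4 (Set.toFinite _)
    have h7 : (E : Set G).ncard = Nat.card E := rfl
    omega
  | succ t => exact ⟨t, ht⟩

end it

end H49.XE
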