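import Cfsg.Agent.Lib.H49.XE8

/-!
# The base case
-/

set_option autoImplicit false
set_option linter.unusedSectionVars false
set_option linter.style.haveILetI false
set_option linter.unusedVariables false

namespace H49.XE

open Cfsg Representation H18.CharBasic H18.CharOrtho
open scoped ComplexConjugate

universe u

variable {G : Type u} [Group G] {E : Subgroup G} {z : G}

/-- norm bookkeeping for a family of characters -/
theorem family_eq {H : Type u} [Group H] [Fintype H] {r : ℕ} [hr : Fact r.Prime]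
    (ω : ZMod r → H → ℂ) (hω : ∀ j, IsCharacter H (ω j))
    (hsum : ∀ s : ZMod r, s ≠ 0 → ∀ x : H, ∑ j : ZMod r, (ω j x - ω (j + s) x) *
      conj (ω j x - ω (j + s) x) = 2) {j₀ : ZMod r}
    (hj₀ : ∀ j, j ≠ j₀ → ω j 1 ≠ ω j₀ 1) :
    (∀ j l, j ≠ j₀ → l ≠ j₀ → ω j = ω l) ∧ (∀ l, l ≠ j₀ →
      classInner (ω j₀ - ω l) (ω j₀ - ω l) = 1) := by
  classical
  have hgen : ∀ j l, IsGeneralizedCharacter H (ω j - ω l) := fun j l =>
    isGen_sub (isGen_of_isCharacter (hω j)) (isGen_of_isCharacter (hω l))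
  have hint : ∀ j l, ∃ n : ℤ, classInner (ω j - ω l) (ω j - ω l) = n := fun j l =>
    inner_gen_intCast (hgen j l) (hgen j l)
  choose N hN using hint
  have hN0 : ∀ j l, 0 ≤ N j l := by
    intro j l
    have h1 := inner_self_re_nonneg (ω j - ω l)
    rw [hN, Complex.intCast_re] at h1
    exact_mod_cast h1
  have hNz : ∀ j l, N j l = 0 → ω j = ω l := by
    intro j l h1
    have h2 := hN j l
    rw [h1, Int.cast_zero] at h2
    exact sub_eq_zero.1 (inner_self_eq_zero.1 h2)
  have hsumN : ∀ s : ZMod r, s ≠ 0 → ∑ j : ZMod r, N j (j + s) = 2 := by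
    intro s hs
    have h1 : ((∑ j : ZMod r, N j (j + s) : ℤ) : ℂ) = 2 := by
      push_cast
      rw [Finset.sum_congr rfl (fun j _ => (hN j (j + s)).symm)]
      have h2 : ∀ j, classInner (ω j - ω (j + s)) (ω j - ω (j + s)) = (Nat.card H : ℂ)⁻¹ *
          ∑ x : H, (ω j x - ω (j + s) x) * conj (ω j x - ω (j + s) x) := fun j => rfl
      rw [Finset.sum_congr rfl (fun j _ => h2 j), ← Finset.mul_sum, Finset.sum_comm,
        Finset.sum_congr rfl (fun x _ => hsum s hs x)]
      simp only [Finset.sum_const, Finset.card_univ, nsmul_eq_mul]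
      rw [Nat.card_eq_fintype_card]
      have : (Fintype.card H : ℂ) ≠ 0 := by exact_mod_cast Fintype.card_ne_zero
      field_simp
    exact_mod_cast h1
  have hpos : ∀ j l, (j = j₀ ∧ l ≠ j₀) ∨ (j ≠ j₀ ∧ l = j₀) → 1 ≤ N j l := by
    intro j l hjl
    rcases (hN0 j l).lt_or_eq with h1 | h1
    · omega
    · exfalso
      have h2 := congrFun (hNz j l h1.symm) 1
      rcases hjl with ⟨h3, h4⟩ | ⟨h3, h4⟩
      · rw [h3] at h2; exact hj₀ l h4 h2.symm
      · rw [h4] at h2; exact hj₀ j h3 h2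
  have hkey : ∀ s : ZMod r, s ≠ 0 → N j₀ (j₀ + s) = 1 ∧
      ∀ j, j ≠ j₀ → j + s ≠ j₀ → N j (j + s) = 0 := by
    intro s hs
    have h1 := hsumN s hs
    have h2 : 1 ≤ N j₀ (j₀ + s) := hpos _ _ (Or.inl ⟨rfl, by simpa using hs⟩)
    have h3 : 1 ≤ N (j₀ - s) (j₀ - s + s) := hpos _ _ (Or.inr ⟨by simpa using hs, by ring⟩)
    have hne : j₀ ≠ j₀ - s := by
      intro h; apply hs; have := h; rw [eq_comm, sub_eq_self] at this; exact this
    have h4 : ∀ T : Finset (ZMod r), ∑ j ∈ T, N j (j + s) ≤ 2 := by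
      intro T
      rw [← h1]
      exact Finset.sum_le_sum_of_subset_of_nonneg (Finset.subset_univ _) fun _ _ _ => hN0 _ _
    refine ⟨?_, ?_⟩
    · have h5 := h4 {j₀, j₀ - s}
      rw [Finset.sum_pair hne] at h5
      omega
    · intro j hj hjs
      have hj2 : j ≠ j₀ - s := by
        rintro rfl; apply hjs; ring
      have h5 := h4 {j, j₀, j₀ - s}
      rw [Finset.sum_insert (by simp [hj, hj2]), Finset.sum_pair hne] at h5
      have := hN0 j (j + s)
      omega
  refine ⟨?_, ?_⟩
  · intro j l hj hl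
    by_cases hjl : j = l
    · rw [hjl]
    · have h1 := (hkey (l - j) (sub_ne_zero.2 (Ne.symm hjl))).2 j hj (by
        rw [add_sub_cancel]; exact hl)
      rw [add_sub_cancel] at h1
      exact hNz _ _ h1
  · intro l hl
    have h1 := (hkey (l - j₀) (sub_ne_zero.2 hl)).1
    rw [add_sub_cancel] at h1
    rw [hN, h1, Int.cast_one]

end H49.XE
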